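import Groth.Agent.QCohMod.FiniteType

/-!
# Morphisms out of free modules; the finite type criterion
-/

universe u

open CategoryTheory Limits AlgebraicGeometry Opposite TopologicalSpace

namespace Groth.QCohMod

variable {X : Scheme.{u}}

/-- The compatible family of sections given by a global section. -/
noncomputable def secFamily (M : X.Modules) (m : Γ(M, (⊤ : X.Opens))) :
    SheafOfModules.sections (R := X.ringCatSheaf) M :=
  PresheafOfModules.sectionsMk (fun U ↦ res M (le_top : U.unop ≤ ⊤) m)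
    (fun U V f ↦ by
      have := res_res M (le_top : U.unop ≤ ⊤) f.unop.le m
      exact this)

/-- The morphism `O_X ⟶ M` sending `1` to a global section. -/
noncomputable def secHom (M : X.Modules) (m : Γ(M, (⊤ : X.Opens))) : Coh.structureModule X ⟶ M :=
  (SheafOfModules.unitHomEquiv (R := X.ringCatSheaf) M).symm (secFamily M m)

lemma secHom_app_one (M : X.Modules) (m : Γ(M, (⊤ : X.Opens))) (U : X.Opens) :
    (secHom M m).app U (oneSec U) = res M (le_top : U ≤ ⊤) m :=
  congr($((SheafOfModules.unitHomEquiv (R := X.ringCatSheaf) M).apply_symm_apply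
    (secFamily M m)).val (op U))

lemma secHom_app (M : X.Modules) (m : Γ(M, (⊤ : X.Opens))) (U : X.Opens)
    (r : Γ(Coh.structureModule X, U)) :
    (secHom M m).app U r = (show Γ(X, U) from r) • res M (le_top : U ≤ ⊤) m := by
  rw [← secHom_app_one, ← Scheme.Modules.Hom.app_smul, structureModule_eq_smul_one]

/-- The morphism from a free module given by a family of global sections. -/
noncomputable def freeHom (M : X.Modules) {ι : Type u} (m : ι → Γ(M, (⊤ : X.Opens))) :
    (∐ fun _ : ι ↦ Coh.structureModule X) ⟶ M :=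
  Sigma.desc fun i ↦ secHom M (m i)

@[simp]
lemma ι_freeHom (M : X.Modules) {ι : Type u} (m : ι → Γ(M, (⊤ : X.Opens))) (i : ι) :
    Sigma.ι (fun _ : ι ↦ Coh.structureModule X) i ≫ freeHom M m = secHom M (m i) :=
  Sigma.ι_desc _ _

/-- Global sections spanning every stalk generate. -/
lemma epi_freeHom (M : X.Modules) {ι : Type u} (m : ι → Γ(M, (⊤ : X.Opens)))
    (h : ∀ (x : X), Submodule.span (X.presheaf.stalk x)
      (Set.range fun i ↦ germ M x (Set.mem_univ x : x ∈ (⊤ : X.Opens)) (m i)) = ⊤) :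
    Epi (freeHom M m) := by
  refine (epi_iff_stalk _).mpr fun x t ↦ ?_
  have ht : t ∈ Submodule.span (X.presheaf.stalk x)
      (Set.range fun i ↦ germ M x (Set.mem_univ x : x ∈ (⊤ : X.Opens)) (m i)) := (h x).ge trivial
  induction ht using Submodule.span_induction with
  | mem t ht =>
    obtain ⟨i, rfl⟩ := ht
    refine ⟨germ _ x (Set.mem_univ x : x ∈ (⊤ : X.Opens))
      ((Sigma.ι (fun _ : ι ↦ Coh.structureModule X) i).app ⊤ (oneSec ⊤)), ?_⟩
    refine (stalk_map_germ (freeHom M m) x _ _).trans (congrArg (germ M x _) ?_)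
    rw [← ConcreteCategory.comp_apply, ← Scheme.Modules.Hom.comp_app, ι_freeHom,
      secHom_app_one, res_self]
  | zero => exact ⟨0, map_zero _⟩
  | add t t' _ _ h₁ h₂ =>
    obtain ⟨a, rfl⟩ := h₁
    obtain ⟨b, rfl⟩ := h₂
    exact ⟨a + b, map_add _ _ _⟩
  | smul c t _ h₁ =>
    obtain ⟨a, rfl⟩ := h₁
    obtain ⟨V, hV, r, rfl⟩ := TopCat.Presheaf.exists_germ_eq X.presheaf c
    obtain ⟨V', hV', s, rfl⟩ := exists_germ _ x a
    have hW : x ∈ V ⊓ V' := ⟨hV, hV'⟩
    refine ⟨germ _ x hW (resFun X (inf_le_left : V ⊓ V' ≤ V) r • res _ (inf_le_right : V ⊓ V' ≤ V') s), ?_⟩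
    rw [← germ_res _ (inf_le_right : V ⊓ V' ≤ V') x hW s, stalk_map_germ, stalk_map_germ,
      Scheme.Modules.Hom.app_smul, germ_smul]
    congr 1
    exact TopCat.Presheaf.germ_res_apply X.presheaf (homOfLE inf_le_left) x hW r

/-- Generators from global sections spanning all stalks. -/
noncomputable def genOfSpan (M : X.Modules) {ι : Type u} (m : ι → Γ(M, (⊤ : X.Opens)))
    (h : ∀ (x : X), Submodule.span (X.presheaf.stalk x)
      (Set.range fun i ↦ germ M x (Set.mem_univ x : x ∈ (⊤ : X.Opens)) (m i)) = ⊤) :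
    SheafOfModules.GeneratingSections (R := X.ringCatSheaf) M where
  I := ι
  s := (SheafOfModules.freeHomEquiv (R := X.ringCatSheaf) M) (freeHom M m)
  epi := by
    erw [Equiv.symm_apply_apply]
    exact epi_freeHom M m h

/-- On an affine scheme, a quasi-coherent module with finite global sections is finitely
generated. -/
theorem exists_generators_of_finite [IsAffine X] (M : X.Modules) [M.IsQuasicoherent]
    (h : Module.Finite Γ(X, ⊤) Γ(M, (⊤ : X.Opens))) :
    ∃ G : SheafOfModules.GeneratingSections (R := X.ringCatSheaf) M, Finite G.I := by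
  obtain ⟨n, m, hm⟩ := Module.Finite.exists_fin (R := Γ(X, ⊤)) (M := Γ(M, (⊤ : X.Opens)))
  refine ⟨genOfSpan M (m ∘ ULift.down) fun x ↦ eq_top_iff.mpr fun t _ ↦ ?_,
    (inferInstance : Finite (ULift.{u} (Fin n)))⟩
  obtain ⟨a, s, ha, hs⟩ := exists_smul_germ_eq M (isAffineOpen_top X) x (Set.mem_univ x) t
  have hu := (Scheme.mem_basicOpen X a x (Set.mem_univ x)).mp ha
  have hmem : ∀ s : Γ(M, (⊤ : X.Opens)), germ M x (Set.mem_univ x : x ∈ (⊤ : X.Opens)) s ∈
      Submodule.span (X.presheaf.stalk x)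
        (Set.range fun i ↦ germ M x (Set.mem_univ x : x ∈ (⊤ : X.Opens))
          ((m ∘ ULift.down.{u}) i)) := by
    intro s
    have hs : s ∈ Submodule.span Γ(X, ⊤) (Set.range m) := hm.ge trivial
    induction hs using Submodule.span_induction with
    | mem s hs =>
      obtain ⟨i, rfl⟩ := hs
      exact Submodule.subset_span ⟨⟨i⟩, rfl⟩
    | zero => rw [map_zero]; exact Submodule.zero_mem _
    | add y z _ _ h₁ h₂ => rw [map_add]; exact Submodule.add_mem _ h₁ h₂
    | smul r y _ h => rw [germ_smul]; exact Submodule.smul_mem _ _ h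

  have := hmem s
  rw [← hs] at this
  rwa [Submodule.smul_mem_iff_of_isUnit _ hu] at this

lemma finite_restrict_sections (M : X.Modules) (W : X.Opens) (h : Module.Finite Γ(X, W) Γ(M, W)) :
    Module.Finite Γ((W : Scheme.{u}), ⊤) Γ(M.restrict W.ι, ⊤) := by
  classical
  obtain ⟨s, hs⟩ := h.fg_top
  have hW : W.ι ''ᵁ ⊤ = W := by simp
  let g : Γ(M, W) →+ Γ(M.restrict W.ι, ⊤) :=
    (M.restrictAppIso W.ι ⊤).inv.hom.comp (res M hW.le)
  refine ⟨⟨s.image g, eq_top_iff.mpr fun y _ ↦ ?_⟩⟩
  have hg : Function.Surjective g := fun y ↦ ⟨res M hW.ge ((M.restrictAppIso W.ι ⊤).hom y), by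
    simp only [g, AddMonoidHom.coe_comp, Function.comp_apply]
    rw [res_res, res_self]
    exact Iso.hom_inv_id_apply (M.restrictAppIso W.ι ⊤) y⟩
  obtain ⟨m, rfl⟩ := hg y
  clear * - hs m
  have hm : m ∈ Submodule.span Γ(X, W) (s : Set Γ(M, W)) := hs.ge trivial
  induction hm using Submodule.span_induction with
  | mem m hm => exact Submodule.subset_span (by simpa using ⟨m, hm, rfl⟩)
  | zero => rw [map_zero]; exact Submodule.zero_mem _
  | add y z _ _ h₁ h₂ => rw [map_add]; exact Submodule.add_mem _ h₁ h₂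
  | smul r y _ h =>
    have : g (r • y) = (W.ι.appIso ⊤).hom (resFun X hW.le r) • g y := by
      simp only [g, AddMonoidHom.coe_comp, Function.comp_apply, res_smul]
      exact Scheme.Modules.smul_restrictAppIso_inv_apply W.ι M ⊤ _ _
    rw [this]
    exact Submodule.smul_mem _ _ h

/-- A quasi-coherent module with finite sections on an affine cover is of finite type. -/
theorem isFT_of_affine_cover (M : X.Modules) [M.IsQuasicoherent]
    (h : ∀ x, ∃ U : X.Opens, IsAffineOpen U ∧ x ∈ U ∧ Module.Finite Γ(X, U) Γ(M, U)) :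
    CohB1.IsFT M := by
  choose U hU hxU hfin using h
  have hgen (x : X) : ∃ G : (M.restrict (U x).ι).GeneratingSections, Finite G.I := by
    have : IsAffine (U x : Scheme.{u}) := hU x
    have := finite_restrict_sections M (U x) (hfin x)
    exact exists_generators_of_finite _ this
  choose G hG using hgen
  exact isFT_of_cover M U (fun x ↦ ⟨x, hxU x⟩) G hG

/-- Finite type for quasi-coherent modules means finite sections on all affine opens. -/
theorem isFT_iff (M : X.Modules) [M.IsQuasicoherent] :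
    CohB1.IsFT M ↔ ∀ U : X.Opens, IsAffineOpen U → Module.Finite Γ(X, U) Γ(M, U) := by
  refine ⟨fun h U hU ↦ finite_sections M h hU, fun h ↦ isFT_of_affine_cover M fun x ↦ ?_⟩
  obtain ⟨U, hU, hx⟩ := exists_affine_mem x
  exact ⟨U, hU, hx, h U hU⟩

lemma isFT_of_iso {M N : X.Modules} (e : M ≅ N) (hM : CohB1.IsFT M) : CohB1.IsFT N := by
  choose V hxV G hG using exists_generators_of_isFT M hM
  have (x : X) : Epi (C := SheafOfModules.{u} _)
      ((Scheme.Modules.restrictFunctor (V x).ι).map e.hom) :=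
    inferInstanceAs (Epi ((Scheme.Modules.restrictFunctor (V x).ι).map e.hom))
  exact isFT_of_cover N V (fun x ↦ ⟨x, hxV x⟩)
    (fun x ↦ (G x).ofEpi ((Scheme.Modules.restrictFunctor (V x).ι).map e.hom)) hG

/-- A quotient of a module of finite type is of finite type. -/
theorem isFT_of_epi {M N : X.Modules} (φ : M ⟶ N) [Epi φ] (hM : CohB1.IsFT M) : CohB1.IsFT N := by
  choose V hxV G hG using exists_generators_of_isFT M hM
  have (x : X) : Epi (C := SheafOfModules.{u} _)
      ((Scheme.Modules.restrictFunctor (V x).ι).map φ) :=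
    inferInstanceAs (Epi ((Scheme.Modules.restrictFunctor (V x).ι).map φ))
  exact isFT_of_cover N V (fun x ↦ ⟨x, hxV x⟩)
    (fun x ↦ (G x).ofEpi ((Scheme.Modules.restrictFunctor (V x).ι).map φ)) hG

end Groth.QCohMod
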