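import Groth.Agent.QCohMod.PullbackSections
import Groth.Agent.QCohMod.FTCriterion

/-!
# The unit `G → i_* i^* G`, annihilators, the scheme-theoretic support
-/

universe u

open CategoryTheory Limits AlgebraicGeometry Opposite TopologicalSpace TensorProduct

namespace Groth.QCohMod

open Groth.PicAux (pullSec)

variable {X Z : Scheme.{u}}

/-- A morphism which is bijective on all affine opens is an isomorphism. -/
theorem isIso_of_affine_bijective {M N : X.Modules} (φ : M ⟶ N)
    (h : ∀ U : X.Opens, IsAffineOpen U → Function.Bijective (φ.app U)) : IsIso φ := by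
  refine isIso_of_stalk φ fun x ↦ (ConcreteCategory.isIso_iff_bijective _).mpr ⟨?_, fun t ↦ ?_⟩
  · refine (injective_iff_map_eq_zero ((stalk x).map φ).hom).mpr fun s hs ↦ ?_
    obtain ⟨V, hxV, m, rfl⟩ := exists_germ M x s
    have hs' : germ N x hxV (φ.app V m) = 0 := (stalk_map_germ φ x hxV m).symm.trans hs
    obtain ⟨W, hxW, i, i', hW⟩ := TopCat.Presheaf.germ_eq N.presheaf x hxV hxV (φ.app V m) 0
      (hs'.trans (map_zero (germ N x hxV)).symm)
    obtain ⟨W', hW', hxW', hle⟩ := X.isBasis_affineOpens.exists_subset_of_mem_open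
      (show x ∈ (W : Set X) from hxW) W.2
    obtain ⟨W', hA, rfl⟩ := hW'
    replace hle : W' ≤ W := hle
    replace hxW' : x ∈ W' := hxW'
    rw [← germ_res M (hle.trans i.le) x hxW' m]
    suffices res M (hle.trans i.le) m = 0 by rw [this]; exact map_zero _
    apply (h W' hA).1
    have hz : res N i.le (φ.app V m) = 0 := hW.trans (map_zero (N.presheaf.map i'.op).hom)
    rw [map_zero, ← res_app, ← res_res N i.le hle, hz, map_zero]
  · obtain ⟨V, hxV, n, rfl⟩ := exists_germ N x t
    obtain ⟨W', hW', hxW', hle⟩ := X.isBasis_affineOpens.exists_subset_of_mem_open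
      (show x ∈ (V : Set X) from hxV) V.2
    obtain ⟨W', hA, rfl⟩ := hW'
    replace hle : W' ≤ V := hle
    replace hxW' : x ∈ W' := hxW'
    obtain ⟨m, hm⟩ := (h W' hA).2 (res N hle n)
    exact ⟨germ M x hxW' m, (stalk_map_germ φ x hxW' m).trans
      (by rw [hm, germ_res])⟩

/-- The unit of a closed immersion on an affine open: surjective, with kernel `I • Γ(G, U)`. -/
theorem unit_closedImmersion_app (i : Z ⟶ X) [IsClosedImmersion i] (G : X.Modules)
    [G.IsQuasicoherent] {U : X.Opens} (hU : IsAffineOpen U) :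
    Function.Surjective (((Scheme.Modules.pullbackPushforwardAdjunction i).unit.app G).app U) ∧
    ∀ s : Γ(G, U), ((Scheme.Modules.pullbackPushforwardAdjunction i).unit.app G).app U s = 0 ↔
      s ∈ i.ker.ideal ⟨U, hU⟩ • (⊤ : Submodule Γ(X, U) Γ(G, U)) := by
  let _ := sectionsAlg i (le_refl (i ⁻¹ᵁ U))
  have hV : IsAffineOpen (i ⁻¹ᵁ U) := hU.preimage i
  have hb := pullSecTensor_bijective i G (le_refl (i ⁻¹ᵁ U)) hU hV
  have hu : ∀ s, ((Scheme.Modules.pullbackPushforwardAdjunction i).unit.app G).app U s =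
      pullSecTensor i G (le_refl (i ⁻¹ᵁ U)) ((1 : Γ(Z, i ⁻¹ᵁ U)) ⊗ₜ s) := by
    intro s
    rw [pullSecTensor_tmul, one_smul]
    exact (res_self _ _).symm
  have hsurj : Function.Surjective (algebraMap Γ(X, U) Γ(Z, i ⁻¹ᵁ U)) := by
    change Function.Surjective (i.appLE U (i ⁻¹ᵁ U) le_rfl)
    rw [← Scheme.Hom.app_eq_appLE]
    exact i.app_surjective U hU
  have hker : RingHom.ker (algebraMap Γ(X, U) Γ(Z, i ⁻¹ᵁ U)) = i.ker.ideal ⟨U, hU⟩ := by
    rw [Scheme.Hom.ker_apply i ⟨U, hU⟩]
    change RingHom.ker (i.appLE U (i ⁻¹ᵁ U) le_rfl).hom = _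
    rw [← Scheme.Hom.app_eq_appLE]
  refine ⟨fun t ↦ ?_, fun s ↦ ?_⟩
  · obtain ⟨z, rfl⟩ := hb.2 t
    obtain ⟨s, rfl⟩ := TensorProduct.mk_surjective Γ(X, U) Γ(G, U) Γ(Z, i ⁻¹ᵁ U) hsurj z
    exact ⟨s, hu s⟩
  · rw [hu]
    refine (map_eq_zero_iff _ hb.1).trans ?_
    rw [← hker]
    refine ⟨fun h ↦ ?_, fun h ↦ ?_⟩
    · let e : (Γ(X, U) ⧸ RingHom.ker (algebraMap Γ(X, U) Γ(Z, i ⁻¹ᵁ U))) ≃ₐ[Γ(X, U)]
          Γ(Z, i ⁻¹ᵁ U) :=
        Ideal.quotientKerAlgEquivOfSurjective (f := Algebra.ofId Γ(X, U) Γ(Z, i ⁻¹ᵁ U)) hsurj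
      have h' := congr((TensorProduct.congr e.symm.toLinearEquiv (LinearEquiv.refl _ _)) $h)
      rw [TensorProduct.congr_tmul, map_zero] at h'
      simp only [AlgEquiv.toLinearEquiv_apply, map_one, LinearEquiv.refl_apply] at h'
      have h'' := congr((TensorProduct.quotTensorEquivQuotSMul Γ(G, U)
        (RingHom.ker (algebraMap Γ(X, U) Γ(Z, i ⁻¹ᵁ U)))) $h')
      rw [map_zero] at h''
      erw [TensorProduct.quotTensorEquivQuotSMul_mk_tmul, one_smul] at h''
      exact (Submodule.Quotient.mk_eq_zero _).mp h''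
    · induction h using Submodule.smul_induction_on' with
      | smul r hr m hm =>
        rw [tmul_smul, ← algebraMap_smul Γ(Z, i ⁻¹ᵁ U) r,
          show algebraMap Γ(X, U) Γ(Z, i ⁻¹ᵁ U) r = 0 from hr, zero_smul]
      | add p hp q hq hp' hq' => rw [tmul_add, hp', hq', add_zero]

/-- The unit of a closed immersion at a quasi-coherent module is an isomorphism iff the ideal kills
the module. -/
theorem isIso_unit_closedImmersion_iff (i : Z ⟶ X) [IsClosedImmersion i] (G : X.Modules)
    [G.IsQuasicoherent] :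
    IsIso ((Scheme.Modules.pullbackPushforwardAdjunction i).unit.app G) ↔
      ∀ (U : X.affineOpens) (a : Γ(X, U.1)), a ∈ i.ker.ideal U → ∀ s : Γ(G, U.1), a • s = 0 := by
  refine ⟨fun h U a ha s ↦ ?_, fun h ↦ isIso_of_affine_bijective _ fun U hU ↦ ⟨?_, ?_⟩⟩
  · have hinj : Function.Injective
        (((Scheme.Modules.pullbackPushforwardAdjunction i).unit.app G).app U.1) :=
      (ConcreteCategory.bijective_of_isIso
        (((Scheme.Modules.pullbackPushforwardAdjunction i).unit.app G).app U.1)).1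
    refine hinj ?_
    rw [((unit_closedImmersion_app i G U.2).2 _).mpr (Submodule.smul_mem_smul ha trivial), map_zero]
  · refine (injective_iff_map_eq_zero _).mpr fun s hs ↦ ?_
    have hs' := ((unit_closedImmersion_app i G hU).2 s).mp hs
    suffices this : i.ker.ideal ⟨U, hU⟩ • (⊤ : Submodule Γ(X, U) Γ(G, U)) = ⊥ by
      rwa [this, Submodule.mem_bot] at hs'
    rw [eq_bot_iff, Submodule.smul_le]
    exact fun r hr m _ ↦ by simp [h ⟨U, hU⟩ r hr m]
  · exact (unit_closedImmersion_app i G hU).1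

section Annihilator

variable (F : X.Modules) [F.IsQuasicoherent] (hF : CohB1.IsFT F)

/-- The annihilator ideal sheaf of a quasi-coherent module of finite type. -/
noncomputable def annIdeal : X.IdealSheafData where
  ideal U := Module.annihilator Γ(X, U.1) Γ(F, U.1)
  map_ideal_basicOpen U f := by
    classical
    have := finite_sections F hF U.2
    obtain ⟨G, hG⟩ := (Module.Finite.fg_top : (⊤ : Submodule Γ(X, U.1) Γ(F, U.1)).FG)
    refine le_antisymm (Ideal.map_le_iff_le_comap.mpr fun a ha ↦ Module.mem_annihilator.mpr ?_) ?_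
    · intro (s : Γ(F, X.basicOpen f))
      change resFun X (X.basicOpen_le f) a • s = 0
      obtain ⟨n, t, ht⟩ := exists_pow_smul_eq_res F U.2 f s
      have hu : IsUnit (resFun X (X.basicOpen_le f) f ^ n) :=
        IsUnit.pow n (RingedSpace.isUnit_res_basicOpen _ _)
      apply hu.smul_left_cancel.mp
      rw [smul_comm, ← ht, ← res_smul, Module.mem_annihilator.mp ha t, smul_zero, map_zero]
    · intro (b : Γ(X, X.basicOpen f)) hb
      replace hb : b ∈ Module.annihilator Γ(X, X.basicOpen f) Γ(F, X.basicOpen f) := hb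
      let _ : Algebra Γ(X, U.1) Γ(X, X.basicOpen f) :=
        (X.presheaf.map (homOfLE (X.basicOpen_le f)).op).hom.toAlgebra
      have : IsLocalization.Away f Γ(X, X.basicOpen f) := U.2.isLocalization_basicOpen f
      obtain ⟨⟨a, ⟨_, n, rfl⟩⟩, hab⟩ := IsLocalization.surj (Submonoid.powers f) b
      have hkill : ∀ s ∈ G, ∃ k : ℕ, f ^ k • a • s = 0 := fun s _ ↦ by
        refine exists_pow_smul_eq_zero F U.2 f (a • s) ?_
        rw [res_smul]
        change algebraMap Γ(X, U.1) Γ(X, X.basicOpen f) a • res F (X.basicOpen_le f) s = 0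
        rw [← hab, mul_comm, mul_smul, Module.mem_annihilator.mp hb, smul_zero]
      choose k hk using hkill
      set K := G.attach.sup fun s ↦ k s.1 s.2
      have hann : f ^ K * a ∈ Module.annihilator Γ(X, U.1) Γ(F, U.1) := by
        refine Module.mem_annihilator.mpr fun m ↦ ?_
        have hm : m ∈ Submodule.span Γ(X, U.1) (G : Set Γ(F, U.1)) := hG.ge trivial
        induction hm using Submodule.span_induction with
        | mem s hs =>
          obtain ⟨j, hj⟩ := Nat.exists_eq_add_of_le
            (Finset.le_sup (f := fun s : G ↦ k s.1 s.2) (Finset.mem_attach G ⟨s, hs⟩))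
          rw [show K = j + k s hs from hj.trans (add_comm _ _), mul_smul, pow_add, mul_smul,
            hk, smul_zero]
        | zero => exact smul_zero _
        | add p q _ _ hp hq => rw [smul_add, hp, hq, add_zero]
        | smul r p _ hp => rw [smul_comm, hp, smul_zero]
      have hu : IsUnit (algebraMap Γ(X, U.1) Γ(X, X.basicOpen f) (f ^ (K + n))) :=
        IsLocalization.map_units _ (⟨_, K + n, rfl⟩ : Submonoid.powers f)
      rw [← Ideal.unit_mul_mem_iff_mem _ hu,
        show algebraMap Γ(X, U.1) Γ(X, X.basicOpen f) (f ^ (K + n)) * b =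
          algebraMap Γ(X, U.1) Γ(X, X.basicOpen f) (f ^ K * a) by
          rw [map_mul, ← hab, pow_add, map_mul]; ring]
      exact Ideal.mem_map_of_mem _ hann

lemma annIdeal_ideal (U : X.affineOpens) :
    (annIdeal F hF).ideal U = Module.annihilator Γ(X, U.1) Γ(F, U.1) := rfl

lemma support_annIdeal : ((annIdeal F hF).support : Set X) = CohB1.support F := by
  ext x
  obtain ⟨U, hU, hx⟩ := exists_affine_mem x
  have := finite_sections F hF hU
  rw [SetLike.mem_coe, Scheme.IdealSheafData.mem_support_iff_of_mem (U := ⟨U, hU⟩) hx,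
    annIdeal_ideal, mem_support_iff F hU x hx, Module.support_eq_zeroLocus,
    PrimeSpectrum.mem_zeroLocus, Scheme.mem_zeroLocus_iff]
  simp only [SetLike.mem_coe, Set.subset_def]
  refine forall₂_congr fun a _ ↦ ?_
  rw [mem_basicOpen_iff_notMem_primeIdealOf hU a x hx, not_not]

end Annihilator

end Groth.QCohMod
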