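import Groth.Agent.QCohMod.FTCriterion
import Mathlib.RingTheory.Noetherian.Basic
import Mathlib.AlgebraicGeometry.Noetherian

/-!
# Coherent modules on locally Noetherian schemes
-/

universe u

open CategoryTheory Limits AlgebraicGeometry Opposite TopologicalSpace

namespace Groth.QCohMod

variable {X : Scheme.{u}}

/-- The sections of a map as a linear map. -/
noncomputable def appₗ {M N : X.Modules} (φ : M ⟶ N) (U : X.Opens) :
    Γ(M, U) →ₗ[Γ(X, U)] Γ(N, U) where
  toFun := φ.app U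
  map_add' := map_add _
  map_smul' := φ.app_smul

@[simp]
lemma appₗ_apply {M N : X.Modules} (φ : M ⟶ N) (U : X.Opens) (m : Γ(M, U)) :
    appₗ φ U m = φ.app U m := rfl

theorem isCoh_iff (M : X.Modules) :
    Coh.IsCoh M ↔ M.IsQuasicoherent ∧
      ∀ U : X.Opens, IsAffineOpen U → Module.Finite Γ(X, U) Γ(M, U) :=
  ⟨fun h ↦ ⟨h.1, fun U hU ↦ haveI := h.1; finite_sections M h.2 hU⟩,
    fun h ↦ ⟨h.1, haveI := h.1; (isFT_iff M).mpr h.2⟩⟩

lemma isCoh_of_iso {M N : X.Modules} (e : M ≅ N) (hM : Coh.IsCoh M) : Coh.IsCoh N :=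
  ⟨(isQCoh_iff_of_iso e).mp hM.1, isFT_of_iso e hM.2⟩

theorem isCoh_cokernel {M N : X.Modules} (φ : M ⟶ N) [M.IsQuasicoherent] (hN : Coh.IsCoh N) :
    Coh.IsCoh (cokernel φ) :=
  haveI := hN.1
  ⟨inferInstance, isFT_of_epi (cokernel.π φ) hN.2⟩

/-- Extensions of finite type quasi-coherent modules are of finite type. -/
theorem isFT_of_shortExact {S : ShortComplex X.Modules} (hS : S.ShortExact)
    [S.X₁.IsQuasicoherent] [S.X₂.IsQuasicoherent] [S.X₃.IsQuasicoherent]
    (h₁ : CohB1.IsFT S.X₁) (h₃ : CohB1.IsFT S.X₃) : CohB1.IsFT S.X₂ := by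
  refine (isFT_iff _).mpr fun U hU ↦ ?_
  have := finite_sections _ h₁ hU
  have := finite_sections _ h₃ hU
  have := hS.epi_g
  have hex : LinearMap.range (appₗ S.f U) = LinearMap.ker (appₗ S.g U) := by
    ext x
    constructor
    · rintro ⟨y, rfl⟩
      exact congr($(congrArg (fun φ : S.X₁ ⟶ S.X₃ ↦ φ.app U) S.zero) y)
    · intro hx
      exact exists_app_eq_of_exact hS.exact hU x hx
  refine ⟨Submodule.fg_of_fg_map_of_fg_inf_ker (appₗ S.g U) ?_ ?_⟩
  · have hsurj : LinearMap.range (appₗ S.g U) = ⊤ :=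
      LinearMap.range_eq_top.mpr (app_surjective_of_epi S.g hU)
    rw [Submodule.map_top, hsurj]
    exact Module.Finite.fg_top
  · rw [top_inf_eq, ← hex, ← Submodule.map_top]
    exact Submodule.FG.map _ Module.Finite.fg_top

theorem isCoh_kernel [IsLocallyNoetherian X] {M N : X.Modules} (φ : M ⟶ N) [N.IsQuasicoherent]
    (hM : Coh.IsCoh M) : Coh.IsCoh (kernel φ) := by
  have := hM.1
  refine (isCoh_iff _).mpr ⟨inferInstance, fun U hU ↦ ?_⟩
  have := finite_sections M hM.2 hU
  have : IsNoetherianRing Γ(X, U) := IsLocallyNoetherian.component_noetherian ⟨U, hU⟩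
  exact Module.Finite.of_injective (appₗ (kernel.ι φ) U) (app_injective_of_mono (kernel.ι φ) U)

/-- A quasi-coherent submodule of a coherent module is coherent. -/
theorem isCoh_of_mono [IsLocallyNoetherian X] {M N : X.Modules} (φ : M ⟶ N) [Mono φ]
    [M.IsQuasicoherent] (hN : Coh.IsCoh N) : Coh.IsCoh M := by
  have := hN.1
  refine (isCoh_iff _).mpr ⟨inferInstance, fun U hU ↦ ?_⟩
  have := finite_sections N hN.2 hU
  have : IsNoetherianRing Γ(X, U) := IsLocallyNoetherian.component_noetherian ⟨U, hU⟩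
  exact Module.Finite.of_injective (appₗ φ U) (app_injective_of_mono φ U)

/-- Extensions of coherent modules, with the middle term quasi-coherent, are coherent. -/
theorem isCoh_of_shortExact {S : ShortComplex X.Modules} (hS : S.ShortExact)
    [S.X₂.IsQuasicoherent] (h₁ : Coh.IsCoh S.X₁) (h₃ : Coh.IsCoh S.X₃) : Coh.IsCoh S.X₂ :=
  haveI := h₁.1
  haveI := h₃.1
  ⟨inferInstance, isFT_of_shortExact hS h₁.2 h₃.2⟩

theorem isCoh_biprod {M N : X.Modules} (hM : Coh.IsCoh M) (hN : Coh.IsCoh N) :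
    Coh.IsCoh (M ⊞ N) := by
  have := hM.1
  have := hN.1
  have hS : (ShortComplex.mk (biprod.inl : M ⟶ M ⊞ N) biprod.snd (by simp)).ShortExact :=
    ShortComplex.Splitting.shortExact
      { r := biprod.fst, s := biprod.inr }
  exact @isCoh_of_shortExact X _ hS (isQCoh_biprod M N) hM hN

theorem isCoh_unit [IsLocallyNoetherian X] : Coh.IsCoh (Coh.structureModule X) :=
  (isCoh_iff _).mpr ⟨inferInstance, fun U _ ↦ inferInstanceAs (Module.Finite Γ(X, U) Γ(X, U))⟩

end Groth.QCohMod
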