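import Groth.Agent.QCohMod.TensorStalk
import Mathlib.RingTheory.Localization.BaseChange

/-!
# Tensor products of quasi-coherent modules
-/

universe u

open CategoryTheory Limits AlgebraicGeometry Opposite TopologicalSpace TensorProduct

namespace Groth.QCohMod

open Groth.PicAux (PTen ptenRes ptenUnit tmulSec)

variable {X : Scheme.{u}} (M N : X.Modules)

lemma preGerm_smul (x : X) {U : X.Opens} (hx : x ∈ U) (r : Γ(X, U)) (z : PTen M N U) :
    preGerm M N x hx (r • z) = X.presheaf.germ U x hx r • preGerm M N x hx z := by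
  induction z using TensorProduct.induction_on with
  | zero => simp
  | tmul a b => rw [smul_tmul', preGerm_tmul, preGerm_tmul, germ_smul, smul_tmul']
  | add p q hp hq => simp [smul_add, hp, hq]

lemma preGerm_eq_zero_iff (x : X) {U : X.Opens} (hx : x ∈ U) (z : PTen M N U) :
    preGerm M N x hx z = 0 ↔ germ (CohB1.tensorMod M N) x hx (ptenUnit M N U z) = 0 := by
  rw [← stalkTensorHom_preGerm, map_eq_zero_iff _ (stalkTensorHom_bijective M N x).1]

lemma ptenUnit_res' {W' W : X.Opens} (h : W' ≤ W) (p : PTen M N W) :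
    ptenUnit M N W' (ptenRes M N h p) = res _ h (ptenUnit M N W p) :=
  Groth.PicAux.ptenUnit_res M N h p

lemma ptenRes_smul' {W' W : X.Opens} (h : W' ≤ W) (r : Γ(X, W)) (p : PTen M N W) :
    ptenRes M N h (r • p) = resFun X h r • ptenRes M N h p :=
  Groth.PicAux.ptenRes_smul M N h r p

variable {M N} [M.IsQuasicoherent] [N.IsQuasicoherent] {U : X.Opens} (hU : IsAffineOpen U)

include hU

lemma tensor_stalk_local (x : X) (hx : x ∈ U) :
    (∀ z : PTen M N U, preGerm M N x hx z = 0 →
      ∃ a : Γ(X, U), x ∈ X.basicOpen a ∧ a • z = 0) ∧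
    (∀ w : M.presheaf.stalk x ⊗[X.presheaf.stalk x] N.presheaf.stalk x,
      ∃ (a : Γ(X, U)) (z : PTen M N U), x ∈ X.basicOpen a ∧
        X.presheaf.germ U x hx a • w = preGerm M N x hx z) := by
  let _ : Algebra Γ(X, U) (X.presheaf.stalk x) :=
    TopCat.Presheaf.algebra_section_stalk X.presheaf ⟨x, hx⟩
  have hloc : IsLocalization.AtPrime (X.presheaf.stalk x) (hU.primeIdealOf ⟨x, hx⟩).asIdeal :=
    hU.isLocalization_stalk ⟨x, hx⟩
  let _ := stalkModule M x hx
  let _ := stalkModule N x hx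
  have : IsScalarTower Γ(X, U) (X.presheaf.stalk x) (M.presheaf.stalk x) :=
    IsScalarTower.of_compHom _ _ _
  have : IsScalarTower Γ(X, U) (X.presheaf.stalk x) (N.presheaf.stalk x) :=
    IsScalarTower.of_compHom _ _ _
  set S := (hU.primeIdealOf ⟨x, hx⟩).asIdeal.primeCompl
  have := isLocalizedModule_germ M hU x hx
  have := isLocalizedModule_germ N hU x hx
  let e := IsLocalization.moduleTensorEquiv (R := Γ(X, U)) S (X.presheaf.stalk x)
    (M.presheaf.stalk x) (N.presheaf.stalk x)
  have he : ∀ z : PTen M N U,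
      e (preGerm M N x hx z) = TensorProduct.map (germₗ M x hx) (germₗ N x hx) z := by
    intro z
    induction z using TensorProduct.induction_on with
    | zero => simp
    | tmul a b => rfl
    | add p q hp hq => simp [hp, hq]
  refine ⟨fun z hz ↦ ?_, fun w ↦ ?_⟩
  · obtain ⟨⟨a, ha⟩, haz⟩ := (IsLocalizedModule.eq_zero_iff S
      (TensorProduct.map (germₗ M x hx) (germₗ N x hx))).mp (by rw [← he, hz, map_zero])
    exact ⟨a, (mem_basicOpen_iff_notMem_primeIdealOf hU a x hx).mpr ha, haz⟩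
  · obtain ⟨⟨z, a, ha⟩, haz⟩ := IsLocalizedModule.surj S
      (TensorProduct.map (germₗ M x hx) (germₗ N x hx)) (e w)
    refine ⟨a, z, (mem_basicOpen_iff_notMem_primeIdealOf hU a x hx).mpr ha, e.injective ?_⟩
    rw [he, map_smul, ← haz]
    exact algebraMap_smul (X.presheaf.stalk x) a (e w)

/-- An element of `Γ(M, U) ⊗ Γ(N, U)` with vanishing germs on `D(h)` is killed by a power of `h`. -/
lemma exists_pow_smul_eq_zero_of_preGerm (h : Γ(X, U)) (z : PTen M N U)
    (hz : ∀ (x : X) (hx : x ∈ U), x ∈ X.basicOpen h → preGerm M N x hx z = 0) :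
    ∃ n : ℕ, h ^ n • z = 0 := by
  have hrad : h ∈ Ideal.radical (LinearMap.ker (LinearMap.toSpanSingleton Γ(X, U) (PTen M N U) z)) := by
    rw [Ideal.radical_eq_sInf, Ideal.mem_sInf]
    rintro p ⟨hp, hprime⟩
    by_contra hhp
    let q : PrimeSpectrum Γ(X, U) := ⟨p, hprime⟩
    have hqU : hU.fromSpec q ∈ U := by
      change hU.fromSpec q ∈ (U : Set X)
      rw [← hU.range_fromSpec]; exact ⟨q, rfl⟩
    have hqq : hU.primeIdealOf ⟨hU.fromSpec q, hqU⟩ = q :=
      hU.fromSpec.isOpenEmbedding.injective (hU.fromSpec_primeIdealOf _)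
    obtain ⟨a, ha, haz⟩ := (tensor_stalk_local hU _ hqU).1 z (hz _ hqU (by
      rw [mem_basicOpen_iff_notMem_primeIdealOf hU h _ hqU, hqq]; exact hhp))
    rw [mem_basicOpen_iff_notMem_primeIdealOf hU a _ hqU, hqq] at ha
    exact ha (hp haz)
  obtain ⟨n, hn⟩ := hrad
  exact ⟨n, hn⟩

/-- Sections of a tensor product of quasi-coherent modules over an affine open. -/
theorem ptenUnit_bijective : Function.Bijective (ptenUnit M N U) := by
  classical
  refine ⟨(injective_iff_map_eq_zero _).mpr fun z hz ↦ ?_, fun s ↦ ?_⟩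
  · obtain ⟨n, hn⟩ := exists_pow_smul_eq_zero_of_preGerm hU 1 z fun x hx _ ↦ by
      rw [preGerm_eq_zero_iff, hz, map_zero]
    rwa [one_pow, one_smul] at hn
  · -- locally near each point `f • s` comes from the presheaf tensor product
    have h (x : U) : ∃ (f : Γ(X, U)) (z : PTen M N U), x.1 ∈ X.basicOpen f ∧
        res _ (X.basicOpen_le f) (f • s) = res _ (X.basicOpen_le f) (ptenUnit M N U z) := by
      obtain ⟨w, hw⟩ := (stalkTensorHom_bijective M N x.1).2 (germ _ x.1 x.2 s)
      obtain ⟨a, z, ha, haz⟩ := (tensor_stalk_local hU x.1 x.2).2 w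
      have hgerm : germ _ x.1 x.2 (a • s) = germ _ x.1 x.2 (ptenUnit M N U z) := by
        rw [germ_smul, ← hw, ← map_smul, haz, stalkTensorHom_preGerm]
      obtain ⟨W, hxW, hW, hW', e⟩ := exists_res_eq_of_germ_eq x.1 x.2 x.2 _ _ hgerm
      obtain ⟨g, hxg, hgW⟩ := exists_basicOpen_mem hU x.2 hxW
      have hle : X.basicOpen (g * a) ≤ W := by
        rw [Scheme.basicOpen_mul]; exact inf_le_left.trans hgW
      refine ⟨g * a, g • z, by rw [Scheme.basicOpen_mul]; exact ⟨hxg, ha⟩, ?_⟩
      have e' := congr(res (CohB1.tensorMod M N) hle $e)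
      rw [res_res, res_res] at e'
      rw [mul_smul, Groth.PicAux.ptenUnit_smul, res_smul (CohB1.tensorMod M N) _ g (a • s),
        res_smul (CohB1.tensorMod M N) _ g (ptenUnit M N U z)]
      exact congr(resFun X (X.basicOpen_le (g * a)) g • $e')
    choose f z hxf hf using h
    obtain ⟨T, hT⟩ := hU.isCompact.elim_finite_subcover (fun x : U ↦ (X.basicOpen (f x) : Set X))
      (fun x ↦ (X.basicOpen (f x)).2) (fun x hx ↦ Set.mem_iUnion.mpr ⟨⟨x, hx⟩, hxf ⟨x, hx⟩⟩)
    -- the compatibility on overlaps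
    have hcomp (i j : U) : ∃ n : ℕ, (f i * f j) ^ n • (f j • z i - f i • z j) = 0 := by
      refine exists_pow_smul_eq_zero_of_preGerm hU _ _ fun x hx hxij ↦ ?_
      rw [Scheme.basicOpen_mul] at hxij
      have hi := congr(germ (CohB1.tensorMod M N) x hxij.1 $(hf i))
      have hj := congr(germ (CohB1.tensorMod M N) x hxij.2 $(hf j))
      rw [germ_res, germ_res, germ_smul] at hi hj
      rw [preGerm_eq_zero_iff, map_sub, Groth.PicAux.ptenUnit_smul, Groth.PicAux.ptenUnit_smul,
        map_sub, germ_smul, germ_smul, ← hi, ← hj, smul_comm, sub_self]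
    choose n hn using hcomp
    set K := T.sup fun i ↦ T.sup fun j ↦ n i j with hK
    have hn' : ∀ i ∈ T, ∀ j ∈ T, f j ^ (K + 1) • f i ^ K • z i = f i ^ (K + 1) • f j ^ K • z j := by
      intro i hi j hj
      have hle : n i j ≤ K :=
        (Finset.le_sup (f := fun j ↦ n i j) hj).trans (Finset.le_sup (f := fun i ↦ T.sup fun j ↦ n i j) hi)
      obtain ⟨k, hk⟩ := Nat.exists_eq_add_of_le hle
      have := congr((f i * f j) ^ k • $(hn i j))
      rw [smul_zero, ← mul_smul, ← pow_add, add_comm k, ← hk, smul_sub, sub_eq_zero] at this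
      simp only [← mul_smul] at this ⊢
      refine Eq.trans (congr($(by ring) • z i)) (this.trans (congr($(by ring) • z j)))
    have hspan : Ideal.span ((fun i ↦ f i ^ (K + 1)) '' {i | i ∈ T}) = ⊤ := by
      have : Ideal.span (f '' {i | i ∈ T}) = ⊤ := by
        rw [← hU.self_le_iSup_basicOpen_iff]
        intro x hx
        obtain ⟨y, hy, hxy⟩ := Set.mem_iUnion₂.mp (hT hx)
        exact Opens.mem_iSup.mpr ⟨⟨f y, y, hy, rfl⟩, hxy⟩
      rw [← Set.image_image (fun a ↦ a ^ (K + 1)) f]
      exact Ideal.span_pow_eq_top _ this _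
    obtain ⟨c, hc, hsum⟩ := (Finsupp.mem_span_image_iff_linearCombination Γ(X, U)).mp
      (hspan.ge (Submodule.mem_top (x := (1 : Γ(X, U)))))
    rw [Finsupp.linearCombination_apply, Finsupp.sum] at hsum
    refine ⟨∑ i ∈ c.support, c i • f i ^ K • z i, ?_⟩
    refine TopCat.Sheaf.eq_of_locally_eq' ⟨(CohB1.tensorMod M N).presheaf,
      (CohB1.tensorMod M N).isSheaf⟩ (fun i : T ↦ X.basicOpen (f i.1)) U
      (fun i ↦ homOfLE (X.basicOpen_le _)) (fun x hx ↦ ?_) _ _ (fun ⟨j, hj⟩ ↦ ?_)
    · obtain ⟨y, hy, hxy⟩ := Set.mem_iUnion₂.mp (hT hx)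
      exact Opens.mem_iSup.mpr ⟨⟨y, hy⟩, hxy⟩
    change res _ (X.basicOpen_le (f j)) _ = res _ (X.basicOpen_le (f j)) s
    have hu : IsUnit (resFun X (X.basicOpen_le (f j)) (f j)) :=
      RingedSpace.isUnit_res_basicOpen _ _
    apply (hu.pow (K + 1)).smul_left_cancel.mp
    have hz : f j ^ (K + 1) • ∑ i ∈ c.support, c i • f i ^ K • z i = f j ^ K • z j := by
      rw [Finset.smul_sum]
      trans (∑ i ∈ c.support, c i • f i ^ (K + 1)) • f j ^ K • z j
      · rw [Finset.sum_smul]
        refine Finset.sum_congr rfl fun i hi ↦ ?_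
        rw [smul_comm, hn' i (hc hi) j hj, smul_eq_mul, mul_smul]
      · rw [hsum, one_smul]
    rw [← map_pow, ← res_smul, ← res_smul, ← Groth.PicAux.ptenUnit_smul, hz,
      Groth.PicAux.ptenUnit_smul, res_smul, ← hf j, ← res_smul, ← mul_smul, pow_succ]

omit hU in
/-- The tensor product of quasi-coherent modules is quasi-coherent. -/
theorem isQCoh_tensorMod : (CohB1.tensorMod M N).IsQuasicoherent := by
  refine isQCoh_of_forall_affine _ (fun U hU f s ↦ ?_) (fun U hU f t ht ↦ ?_)
  · obtain ⟨w, rfl⟩ := (ptenUnit_bijective (hU.basicOpen f)).2 s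
    suffices ∃ (n : ℕ) (z : PTen M N U),
        ptenRes M N (X.basicOpen_le f) z = resFun X (X.basicOpen_le f) f ^ n • w by
      obtain ⟨n, z, hz⟩ := this
      exact ⟨n, ptenUnit M N U z, by rw [← ptenUnit_res', hz, Groth.PicAux.ptenUnit_smul]⟩
    induction w using TensorProduct.induction_on with
    | zero => exact ⟨0, 0, by simp⟩
    | tmul a b =>
      obtain ⟨n, a', ha⟩ := exists_pow_smul_eq_res M hU f a
      obtain ⟨m, b', hb⟩ := exists_pow_smul_eq_res N hU f b
      refine ⟨n + m, a' ⊗ₜ b', ?_⟩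
      rw [Groth.PicAux.ptenRes_tmul]
      change res M _ a' ⊗ₜ res N _ b' = _
      rw [ha, hb, smul_tmul_smul, pow_add]
    | add p q hp hq =>
      obtain ⟨n, z, hz⟩ := hp
      obtain ⟨m, y, hy⟩ := hq
      refine ⟨n + m, f ^ m • z + f ^ n • y, ?_⟩
      rw [map_add, ptenRes_smul', ptenRes_smul', hz, hy, map_pow, map_pow,
        smul_add, ← mul_smul, ← mul_smul, ← pow_add, ← pow_add, add_comm m n]
  · obtain ⟨z, rfl⟩ := (ptenUnit_bijective hU).2 t
    obtain ⟨n, hn⟩ := exists_pow_smul_eq_zero_of_preGerm hU f z fun x hx hxf ↦ by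
      rw [preGerm_eq_zero_iff, ← germ_res _ (X.basicOpen_le f) x hxf, ht, map_zero]
    exact ⟨n, by rw [← Groth.PicAux.ptenUnit_smul, hn, map_zero]⟩

omit hU in
/-- The tensor product of quasi-coherent modules of finite type is of finite type. -/
theorem isFT_tensorMod (hM : CohB1.IsFT M) (hN : CohB1.IsFT N) :
    CohB1.IsFT (CohB1.tensorMod M N) := by
  have := isQCoh_tensorMod (M := M) (N := N)
  refine (isFT_iff _).mpr fun U hU ↦ ?_
  have := finite_sections M hM hU
  have := finite_sections N hN hU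
  exact Module.Finite.of_surjective
    ({ toFun := ptenUnit M N U
       map_add' := map_add _
       map_smul' := Groth.PicAux.ptenUnit_smul M N } : PTen M N U →ₗ[Γ(X, U)] _)
    (ptenUnit_bijective hU).2

end Groth.QCohMod
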