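import Groth.Agent.QCohMod.PullbackQCoh
import Groth.Agent.QCohMod.Tensor
import Mathlib.RingTheory.LocalRing.Module
import Mathlib.RingTheory.Flat.FaithfullyFlat.Basic

/-!
# Supports of inverse images and tensor products
-/

universe u

open CategoryTheory Limits AlgebraicGeometry Opposite TopologicalSpace TensorProduct

namespace Groth.QCohMod

section Algebra

/-- Tensoring a finite module along a local homomorphism of local rings does not kill it. -/
lemma subsingleton_of_tensor_localHom {A B : Type*} [CommRing A] [CommRing B] [IsLocalRing A]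
    [IsLocalRing B] [Algebra A B] [IsLocalHom (algebraMap A B)] {M : Type*} [AddCommGroup M]
    [Module A M] [Module.Finite A M] (h : Subsingleton (B ⊗[A] M)) : Subsingleton M := by
  have h₁ : Subsingleton (IsLocalRing.ResidueField B ⊗[A] M) :=
    (LinearMap.rTensor_surjective M (g := (IsScalarTower.toAlgHom A B
      (IsLocalRing.ResidueField B)).toLinearMap) IsLocalRing.residue_surjective).subsingleton
  have h₂ : Subsingleton (IsLocalRing.ResidueField B ⊗[IsLocalRing.ResidueField A]
      (IsLocalRing.ResidueField A ⊗[A] M)) :=
    (TensorProduct.AlgebraTensorModule.cancelBaseChange A (IsLocalRing.ResidueField A)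
      (IsLocalRing.ResidueField B) (IsLocalRing.ResidueField B) M).toEquiv.subsingleton
  rw [Module.FaithfullyFlat.subsingleton_tensorProduct_iff_right] at h₂
  exact IsLocalRing.subsingleton_tensorProduct.mp h₂

lemma subsingleton_tensor_iff_of_finite {A : Type*} [CommRing A] [IsLocalRing A] {M N : Type*}
    [AddCommGroup M] [Module A M] [AddCommGroup N] [Module A N] [Module.Finite A M]
    [Module.Finite A N] : Subsingleton (M ⊗[A] N) ↔ Subsingleton M ∨ Subsingleton N := by
  refine ⟨fun h ↦ ?_, ?_⟩
  · have h₁ : Subsingleton (IsLocalRing.ResidueField A ⊗[A] (M ⊗[A] N)) := inferInstance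
    have h₂ : Subsingleton ((IsLocalRing.ResidueField A ⊗[A] M) ⊗[IsLocalRing.ResidueField A]
        (IsLocalRing.ResidueField A ⊗[A] N)) :=
      (TensorProduct.AlgebraTensorModule.distribBaseChange A (IsLocalRing.ResidueField A) M
        N).symm.toEquiv.subsingleton
    by_cases hM : Subsingleton M
    · exact Or.inl hM
    · right
      rw [← IsLocalRing.subsingleton_tensorProduct (R := A) (M := N)]
      have : Nontrivial (IsLocalRing.ResidueField A ⊗[A] M) :=
        not_subsingleton_iff_nontrivial.mp (mt IsLocalRing.subsingleton_tensorProduct.mp hM)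
      rwa [Module.FaithfullyFlat.subsingleton_tensorProduct_iff_right] at h₂
  · rintro (h | h)
    · exact ⟨fun a b ↦ by
        suffices H : ∀ z : M ⊗[A] N, z = 0 by rw [H a, H b]
        intro z
        induction z using TensorProduct.induction_on with
        | zero => rfl
        | tmul m n => rw [Subsingleton.elim m 0, zero_tmul]
        | add p q hp hq => rw [hp, hq, add_zero]⟩
    · exact ⟨fun a b ↦ by
        suffices H : ∀ z : M ⊗[A] N, z = 0 by rw [H a, H b]
        intro z
        induction z using TensorProduct.induction_on with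
        | zero => rfl
        | tmul m n => rw [Subsingleton.elim n 0, tmul_zero]
        | add p q hp hq => rw [hp, hq, add_zero]⟩

end Algebra

variable {X Y : Scheme.{u}}

/-- The stalks of a quasi-coherent module of finite type are finite modules. -/
theorem finite_stalk (M : X.Modules) [M.IsQuasicoherent] (hM : CohB1.IsFT M) (x : X) :
    Module.Finite (X.presheaf.stalk x) (M.presheaf.stalk x) := by
  obtain ⟨U, hU, hx⟩ := exists_affine_mem x
  let _ : Algebra Γ(X, U) (X.presheaf.stalk x) :=
    TopCat.Presheaf.algebra_section_stalk X.presheaf ⟨x, hx⟩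
  have hloc : IsLocalization.AtPrime (X.presheaf.stalk x) (hU.primeIdealOf ⟨x, hx⟩).asIdeal :=
    hU.isLocalization_stalk ⟨x, hx⟩
  let _ := stalkModule M x hx
  have : IsScalarTower Γ(X, U) (X.presheaf.stalk x) (M.presheaf.stalk x) :=
    IsScalarTower.of_compHom _ _ _
  have := isLocalizedModule_germ M hU x hx
  have := finite_sections M hM hU
  exact Module.Finite.of_isLocalizedModule (hU.primeIdealOf ⟨x, hx⟩).asIdeal.primeCompl
    (Rₚ := X.presheaf.stalk x) (germₗ M x hx)

/-- The support of the inverse image of a quasi-coherent module of finite type. -/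
theorem support_pullback (f : Y ⟶ X) (M : X.Modules) [M.IsQuasicoherent] (hM : CohB1.IsFT M) :
    CohB1.support ((Scheme.Modules.pullback f).obj M) = f ⁻¹' CohB1.support M := by
  ext y
  let _ := stalkAlg f y
  have hfin := finite_stalk M hM (f y)
  have : IsLocalHom (algebraMap (X.presheaf.stalk (f y)) (Y.presheaf.stalk y)) :=
    inferInstanceAs (IsLocalHom (f.stalkMap y).hom)
  refine not_congr ?_
  rw [← (pullStalkEquiv f M y).toEquiv.subsingleton_congr]
  refine ⟨subsingleton_of_tensor_localHom, fun h ↦ ⟨fun a b ↦ ?_⟩⟩
  suffices H : ∀ z : Y.presheaf.stalk y ⊗[X.presheaf.stalk (f y)] M.presheaf.stalk (f y), z = 0 by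
    rw [H a, H b]
  intro z
  induction z using TensorProduct.induction_on with
  | zero => rfl
  | tmul b t => rw [Subsingleton.elim t 0, tmul_zero]
  | add p q hp hq => rw [hp, hq, add_zero]

/-- The support of a tensor product of quasi-coherent modules of finite type. -/
theorem support_tensorMod (M N : X.Modules) [M.IsQuasicoherent] [N.IsQuasicoherent]
    (hM : CohB1.IsFT M) (hN : CohB1.IsFT N) :
    CohB1.support (CohB1.tensorMod M N) = CohB1.support M ∩ CohB1.support N := by
  ext x
  have := finite_stalk M hM x
  have := finite_stalk N hN x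
  change ¬ _ ↔ ¬ _ ∧ ¬ _
  rw [← (stalkTensorEquiv M N x).toEquiv.subsingleton_congr, subsingleton_tensor_iff_of_finite,
    not_or]

end Groth.QCohMod
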