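import Groth.Agent.QCohMod.Affine

/-!
# Finite type quasi-coherent modules on affine opens
-/

universe u

open CategoryTheory Limits AlgebraicGeometry Opposite TopologicalSpace
open AlgebraicGeometry.Scheme.Modules (restrictFunctor overEquiv overFunctorEquiv)

namespace Groth.QCohMod

variable {X Y : Scheme.{u}}

set_option backward.isDefEq.respectTransparency false in
set_option maxHeartbeats 1600000 in
/-- A module of finite type is locally on opens generated by finitely many sections. -/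
theorem exists_generators_of_isFT (M : X.Modules) (hM : CohB1.IsFT M) (x : X) :
    ∃ (V : X.Opens) (_ : x ∈ V) (G : (M.restrict V.ι).GeneratingSections), Finite G.I := by
  obtain ⟨σ, hσ⟩ := hM.exists_localGeneratorsData
  have hcov : (⨆ i, σ.X i) = ⊤ := (Opens.coversTop_iff (U := σ.X)).mp σ.coversTop
  obtain ⟨i, hi⟩ := Opens.mem_iSup.mp (hcov.ge (Set.mem_univ x) : x ∈ ⨆ i, σ.X i)
  have : PreservesColimitsOfSize.{u, u} (overEquiv (σ.X i)).functor := inferInstance
  refine ⟨σ.X i, hi, ((σ.generators i).map (overEquiv (σ.X i)).functor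
    (overUnitIso (σ.X i)).symm).ofEpi ((overFunctorEquiv (σ.X i)).app M).hom, ?_⟩
  exact (hσ.isFiniteType i).finite

lemma app_sum {M N : X.Modules} {ι : Type*} (s : Finset ι) (φ : ι → (M ⟶ N)) (U : X.Opens)
    (m : Γ(M, U)) : (∑ i ∈ s, φ i).app U m = ∑ i ∈ s, (φ i).app U m := by
  classical
  induction s using Finset.induction_on with
  | empty => rfl
  | insert a s ha ih =>
      rw [Finset.sum_insert ha, Finset.sum_insert ha, Scheme.Modules.Hom.add_app, ← ih]
      rfl

/-- The global section `1` of the structure module over `U`. -/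
noncomputable def oneSec (U : X.Opens) : Γ(Coh.structureModule X, U) :=
  show Γ(X, U) from 1

lemma structureModule_eq_smul_one {U : X.Opens} (m : Γ(Coh.structureModule X, U)) :
    (show Γ(X, U) from m) • oneSec U = m :=
  mul_one (show Γ(X, U) from m)

/-- If `M` is generated by finitely many sections and quasi-coherent, its sections over an affine
open are spanned by the given sections. -/
theorem span_range_eq_top {M : X.Modules} [M.IsQuasicoherent] {ι : Type u} [Finite ι]
    (π : ∐ (fun _ : ι ↦ Coh.structureModule X) ⟶ M) [Epi π] {U : X.Opens} (hU : IsAffineOpen U) :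
    Submodule.span Γ(X, U)
      (Set.range fun i ↦ π.app U ((Sigma.ι (fun _ : ι ↦ Coh.structureModule X) i).app U (oneSec U))) = ⊤ := by
  classical
  have := Fintype.ofFinite ι
  refine eq_top_iff.mpr fun m _ ↦ ?_
  obtain ⟨y, rfl⟩ := app_surjective_of_epi π hU m
  let p : ι → (∐ (fun _ : ι ↦ Coh.structureModule X) ⟶ Coh.structureModule X) :=
    fun i ↦ Sigma.desc fun j ↦ if i = j then 𝟙 _ else 0
  have hp : ∑ i, p i ≫ Sigma.ι (fun _ : ι ↦ Coh.structureModule X) i = 𝟙 _ := by
    refine Sigma.hom_ext _ _ fun j ↦ ?_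
    rw [Preadditive.comp_sum, Finset.sum_eq_single j]
    · simp [p]
    · intro i _ hij
      simp [p, hij]
    · simp
  have hy : y = ∑ i, (p i ≫ Sigma.ι (fun _ : ι ↦ Coh.structureModule X) i).app U y := by
    rw [← app_sum, hp]; rfl
  rw [hy, map_sum]
  refine Submodule.sum_mem _ fun i _ ↦ ?_
  rw [Scheme.Modules.Hom.comp_app, ConcreteCategory.comp_apply,
    ← structureModule_eq_smul_one ((p i).app U y), Scheme.Modules.Hom.app_smul,
    Scheme.Modules.Hom.app_smul]
  exact Submodule.smul_mem _ _ (Submodule.subset_span ⟨i, rfl⟩)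

/-- The sections over the whole of an open subscheme. -/
lemma span_top_of_restrict (M : X.Modules) {W : X.Opens} (s : Set Γ(M.restrict W.ι, ⊤))
    (hs : Submodule.span Γ((W : Scheme.{u}), ⊤) s = ⊤) {t : Set Γ(M, W)}
    (ht : ∀ m ∈ s, res M (by simp) ((M.restrictAppIso W.ι ⊤).hom m) ∈ t) :
    Submodule.span Γ(X, W) t = ⊤ := by
  have hW : W.ι ''ᵁ ⊤ = W := by simp
  let e : Γ(M.restrict W.ι, ⊤) →+ Γ(M, W) :=
    (res M hW.ge).comp (M.restrictAppIso W.ι ⊤).hom.hom
  have he : Function.Surjective e := fun m ↦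
    ⟨(M.restrictAppIso W.ι ⊤).inv (res M hW.le m), by
      simp only [e, AddMonoidHom.coe_comp, Function.comp_apply]
      erw [Iso.inv_hom_id_apply]
      rw [res_res, res_self]⟩
  suffices key : ∀ y ∈ Submodule.span Γ((W : Scheme.{u}), ⊤) s, e y ∈ Submodule.span Γ(X, W) t by
    refine eq_top_iff.mpr fun m _ ↦ ?_
    obtain ⟨y, rfl⟩ := he m
    exact key y (hs.ge trivial)
  intro y hy
  induction hy using Submodule.span_induction with
  | mem y hy => exact Submodule.subset_span (ht y hy)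
  | zero => rw [map_zero]; exact Submodule.zero_mem _
  | add y z _ _ h₁ h₂ => rw [map_add]; exact Submodule.add_mem _ h₁ h₂
  | smul r y _ h =>
    have : e (r • y) = resFun X hW.ge ((W.ι.appIso ⊤).inv r) • e y := by
      change res M hW.ge ((M.restrictAppIso W.ι ⊤).hom (r • y)) =
        _ • res M hW.ge ((M.restrictAppIso W.ι ⊤).hom y)
      erw [Scheme.Modules.smul_restrictAppIso_hom_apply W.ι M ⊤ r y]
      exact res_smul M hW.ge _ _
    rw [this]
    exact Submodule.smul_mem _ _ h

/-- The sections of a finite type quasi-coherent module over an affine open form a finite module. -/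
theorem finite_sections (M : X.Modules) [M.IsQuasicoherent] (hM : CohB1.IsFT M) {U : X.Opens}
    (hU : IsAffineOpen U) : Module.Finite Γ(X, U) Γ(M, U) := by
  classical
  have h (x : U) : ∃ f : Γ(X, U), x.1 ∈ X.basicOpen f ∧
      ∃ s : Finset Γ(M, X.basicOpen f),
        Submodule.span Γ(X, X.basicOpen f) (s : Set Γ(M, X.basicOpen f)) = ⊤ := by
    obtain ⟨V, hxV, G, hG⟩ := exists_generators_of_isFT M hM x.1
    obtain ⟨f, hxf, hfV⟩ := exists_basicOpen_mem hU x.2 hxV
    refine ⟨f, hxf, ?_⟩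
    let W := X.basicOpen f
    have hWaff : IsAffineOpen W := hU.basicOpen f
    have : IsAffine (W : Scheme.{u}) := hWaff
    let G' := genRestrict (X.homOfLE hfV) G
    let φ : (restrictFunctor (X.homOfLE hfV)).obj (M.restrict V.ι) ≅ M.restrict W.ι :=
      ((Scheme.Modules.restrictFunctorComp _ _).app M).symm ≪≫
        (Scheme.Modules.restrictFunctorCongr (X.homOfLE_ι hfV)).app M
    have : Finite G'.I := hG
    let π₀ : ∐ (fun _ : G'.I ↦ Coh.structureModule (W : Scheme.{u})) ⟶
        (restrictFunctor (X.homOfLE hfV)).obj (M.restrict V.ι) := G'.π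
    have hπ₀ : Epi π₀ := G'.epi
    let π := π₀ ≫ φ.hom
    have : Epi π := epi_comp _ _
    have hspan := span_range_eq_top π (isAffineOpen_top (W : Scheme.{u}))
    let t := Set.range (fun i : G'.I ↦ res M (show W ≤ W.ι ''ᵁ ⊤ by simp)
      ((M.restrictAppIso W.ι ⊤).hom
        (π.app ⊤ ((Sigma.ι (fun _ : G'.I ↦ Coh.structureModule (W : Scheme.{u})) i).app ⊤
          (oneSec ⊤)))))
    refine ⟨(Set.finite_range _ : t.Finite).toFinset, ?_⟩
    rw [Set.Finite.coe_toFinset]
    exact span_top_of_restrict M _ hspan (by rintro _ ⟨i, rfl⟩; exact ⟨i, rfl⟩)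
  choose f hf s hs using h
  obtain ⟨T, hT⟩ := hU.isCompact.elim_finite_subcover (fun x : U ↦ (X.basicOpen (f x) : Set X))
    (fun x ↦ (X.basicOpen (f x)).2) (fun x hx ↦ Set.mem_iUnion.mpr ⟨⟨x, hx⟩, hf ⟨x, hx⟩⟩)
  have hspanT : Ideal.span (f '' {y | y ∈ T}) = ⊤ := by
    rw [← hU.self_le_iSup_basicOpen_iff]
    intro x hx
    obtain ⟨y, hy, hxy⟩ := Set.mem_iUnion₂.mp (hT hx)
    exact Opens.mem_iSup.mpr ⟨⟨f y, y, hy, rfl⟩, hxy⟩
  choose n t ht using fun (x : U) (g : Γ(M, X.basicOpen (f x))) ↦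
    exists_pow_smul_eq_res M hU (f x) g
  let N : Submodule Γ(X, U) Γ(M, U) := Submodule.span _ (T.biUnion fun x ↦ (s x).image (t x) : Finset Γ(M, U))
  refine ⟨⟨T.biUnion fun x ↦ (s x).image (t x), eq_top_iff.mpr fun m _ ↦ ?_⟩⟩
  refine Submodule.mem_of_span_eq_top_of_smul_pow_mem N _ hspanT m ?_
  rintro ⟨_, x, hx, rfl⟩
  -- the multiples of the restriction that come from `N`
  have key : ∀ w ∈ Submodule.span Γ(X, X.basicOpen (f x)) (s x : Set Γ(M, X.basicOpen (f x))),
      ∃ (k : ℕ) (g : Γ(M, U)), g ∈ N ∧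
        res M (X.basicOpen_le (f x)) g = resFun X (X.basicOpen_le (f x)) (f x) ^ k • w := by
    intro w hw
    induction hw using Submodule.span_induction with
    | mem w hw =>
      exact ⟨n x w, t x w, Submodule.subset_span
        (Finset.mem_biUnion.mpr ⟨x, hx, Finset.mem_image_of_mem _ hw⟩), ht x w⟩
    | zero => exact ⟨0, 0, N.zero_mem, by rw [map_zero, smul_zero]⟩
    | add w₁ w₂ _ _ h₁ h₂ =>
      obtain ⟨k₁, g₁, hg₁, e₁⟩ := h₁
      obtain ⟨k₂, g₂, hg₂, e₂⟩ := h₂
      refine ⟨k₁ + k₂, f x ^ k₂ • g₁ + f x ^ k₁ • g₂,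
        N.add_mem (N.smul_mem _ hg₁) (N.smul_mem _ hg₂), ?_⟩
      rw [map_add, res_smul, res_smul, e₁, e₂, map_pow, map_pow, smul_add, ← mul_smul, ← mul_smul,
        ← pow_add, ← pow_add, add_comm k₂ k₁]
    | smul r w _ h =>
      obtain ⟨k, g, hg, e⟩ := h
      let _ := hU.isLocalization_basicOpen (f x)
      obtain ⟨⟨a, _, l, rfl⟩, hal⟩ := IsLocalization.surj (Submonoid.powers (f x)) r
      have hal' : r * resFun X (X.basicOpen_le (f x)) (f x) ^ l = resFun X (X.basicOpen_le (f x)) a := by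
        rw [← map_pow]; exact hal
      refine ⟨k + l, a • g, N.smul_mem _ hg, ?_⟩
      rw [res_smul, e, ← hal', ← mul_smul, ← mul_smul]
      congr 1
      ring
  obtain ⟨k, g, hg, e⟩ := key (res M (X.basicOpen_le (f x)) m) ((hs x).ge trivial)
  obtain ⟨l, hl⟩ := exists_pow_smul_eq_zero M hU (f x) (g - f x ^ k • m)
    (by rw [map_sub, res_smul, map_pow, e, sub_self])
  refine ⟨l + k, ?_⟩
  rw [smul_sub, sub_eq_zero, ← mul_smul, ← pow_add] at hl
  rw [← hl]
  exact N.smul_mem _ hg

end Groth.QCohMod
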