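import Groth.Agent.QCohMod.Sections
import Groth.Prelude.Def_CohB1

/-!
# Quasi-coherence, finite type, finite presentation are local; the criterion on affine opens
-/

universe u

open CategoryTheory Limits AlgebraicGeometry Opposite TopologicalSpace
open AlgebraicGeometry.Scheme.Modules (restrictFunctor overEquiv overFunctorEquiv)

namespace Groth.QCohMod

variable {X Y : Scheme.{u}}

/-- The structure module of `X` on `U` as a module over the over-site. -/
noncomputable def overUnitIso (U : X.Opens) :
    (overEquiv U).functor.obj (SheafOfModules.unit (X.ringCatSheaf.over U)) ≅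
      SheafOfModules.unit (U : Scheme.{u}).ringCatSheaf :=
  (overFunctorEquiv U).app (SheafOfModules.unit X.ringCatSheaf) ≪≫
    Scheme.Modules.restrictUnitIso U.ι

noncomputable def overUnitIsoInv (U : X.Opens) :
    SheafOfModules.unit (X.ringCatSheaf.over U) ≅
      (overEquiv U).inverse.obj (SheafOfModules.unit (U : Scheme.{u}).ringCatSheaf) :=
  (overEquiv U).unitIso.app _ ≪≫ (overEquiv U).inverse.mapIso (overUnitIso U)

noncomputable def overIso (M : X.Modules) (U : X.Opens) :
    (overEquiv U).inverse.obj (M.restrict U.ι) ≅ SheafOfModules.over (R := X.ringCatSheaf) M U :=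
  (overEquiv U).inverse.mapIso ((overFunctorEquiv U).app M).symm ≪≫
    ((overEquiv U).unitIso.app _).symm

set_option backward.isDefEq.respectTransparency false in
set_option maxHeartbeats 1600000 in
/-- A presentation of `M|_U` gives one of `M.over U`. -/
noncomputable def presOver {M : X.Modules} {U : X.Opens} (p : (M.restrict U.ι).Presentation) :
    (SheafOfModules.over (R := X.ringCatSheaf) M U).Presentation :=
  haveI : PreservesColimitsOfSize.{u, u} (overEquiv U).inverse := inferInstance
  SheafOfModules.Presentation.ofIsIso.{u, u, u} (overIso M U).hom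
    (p.map (overEquiv U).inverse (overUnitIsoInv U))

set_option backward.isDefEq.respectTransparency false in
set_option maxHeartbeats 1600000 in
lemma presOver_isFinite {M : X.Modules} {U : X.Opens} (p : (M.restrict U.ι).Presentation)
    (hp : p.IsFinite) : (presOver p).IsFinite where
  isFiniteType_generators := ⟨hp.isFiniteType_generators.finite⟩
  isFiniteType_relations := ⟨hp.isFiniteType_relations.finite⟩

set_option backward.isDefEq.respectTransparency false in
set_option maxHeartbeats 1600000 in
/-- Generators of `M|_U` give generators of `M.over U`. -/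
noncomputable def genOver {M : X.Modules} {U : X.Opens} (p : (M.restrict U.ι).GeneratingSections) :
    (SheafOfModules.over (R := X.ringCatSheaf) M U).GeneratingSections :=
  haveI : PreservesColimitsOfSize.{u, u} (overEquiv U).inverse := inferInstance
  (p.map (overEquiv U).inverse (overUnitIsoInv U)).ofEpi (overIso M U).hom

set_option backward.isDefEq.respectTransparency false in
set_option maxHeartbeats 1600000 in
/-- Restriction of generators along an open immersion. -/
noncomputable def genRestrict (f : Y ⟶ X) [IsOpenImmersion f] {M : X.Modules}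
    (p : SheafOfModules.GeneratingSections (R := X.ringCatSheaf) M) :
    (M.restrict f).GeneratingSections :=
  haveI : PreservesColimitsOfSize.{u, u} (restrictFunctor f) := inferInstance
  p.map (restrictFunctor f) (Scheme.Modules.restrictUnitIso f).symm

lemma coversTop_of_cover {ι : Type u} (U : ι → X.Opens) (hU : ∀ x, ∃ i, x ∈ U i) :
    (Opens.grothendieckTopology X).CoversTop U := by
  rw [Opens.coversTop_iff]
  ext x
  simpa [Opens.mem_iSup] using hU x

set_option backward.isDefEq.respectTransparency false in
set_option maxHeartbeats 1600000 in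
lemma isQCoh_of_cover (M : X.Modules) {ι : Type u} (U : ι → X.Opens) (hU : ∀ x, ∃ i, x ∈ U i)
    (p : ∀ i, (M.restrict (U i).ι).Presentation) : M.IsQuasicoherent := by
  let σ : SheafOfModules.QuasicoherentData.{u} (R := X.ringCatSheaf) M :=
    { I := ι, X := U, coversTop := coversTop_of_cover U hU, presentation := fun i ↦ presOver (p i) }
  exact σ.isQuasicoherent

/-- Quasi-coherence is local. -/
theorem isQCoh_of_forall_exists (M : X.Modules)
    (h : ∀ x, ∃ U : X.Opens, x ∈ U ∧ (M.restrict U.ι).IsQuasicoherent) : M.IsQuasicoherent := by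
  choose U hxU hq using h
  have h' (x : X) : ∃ V : X.Opens, x ∈ V ∧ Nonempty (M.restrict V.ι).Presentation := by
    have := hq x
    obtain ⟨ι, W, p, hW, -⟩ := Scheme.Modules.exists_isOpenCover_presentation (M.restrict (U x).ι)
    obtain ⟨i, hi⟩ := hW.exists_mem ⟨x, hxU x⟩
    refine ⟨(U x).ι ''ᵁ W i, ⟨⟨x, hxU x⟩, hi, rfl⟩, ⟨?_⟩⟩
    let e := ((U x).ι.isoImage (W i))
    have hf : e.inv ≫ (W i).ι ≫ (U x).ι = ((U x).ι ''ᵁ W i).ι :=
      Scheme.Hom.isoImage_inv_ι (U x).ι (W i)
    let φ := (((Scheme.Modules.restrictFunctorCongr hf.symm).app M) ≪≫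
        (Scheme.Modules.restrictFunctorComp _ _).app M ≪≫
        (restrictFunctor e.inv).mapIso ((Scheme.Modules.restrictFunctorComp _ _).app M))
    have : IsIso (C := SheafOfModules.{u} _) φ.inv := inferInstanceAs (IsIso φ.inv)
    exact SheafOfModules.Presentation.ofIsIso.{u, u, u} φ.inv
      (Scheme.Modules.presentationRestrict e.inv (p i))
  choose V hxV pV using h'
  exact isQCoh_of_cover M V (fun x ↦ ⟨x, hxV x⟩) fun x ↦ (pV x).some

lemma isQCoh_iff_of_iso {M N : X.Modules} (e : M ≅ N) :
    M.IsQuasicoherent ↔ N.IsQuasicoherent :=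
  ⟨fun h ↦ (SheafOfModules.isQuasicoherent X.ringCatSheaf).prop_of_iso e h,
    fun h ↦ (SheafOfModules.isQuasicoherent X.ringCatSheaf).prop_of_iso e.symm h⟩

lemma isQCoh_restrict_ι_of_fromSpec (M : X.Modules) {U : X.Opens} (hU : IsAffineOpen U)
    [(M.restrict hU.fromSpec).IsQuasicoherent] : (M.restrict U.ι).IsQuasicoherent :=
  (isQCoh_iff_of_iso
    ((Scheme.Modules.restrictFunctorCongr hU.isoSpec_hom_fromSpec.symm).app M ≪≫
      (Scheme.Modules.restrictFunctorComp _ _).app M)).mpr
    (Scheme.Modules.isQuasicoherent_restrictFunctor hU.isoSpec.hom (M.restrict hU.fromSpec))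

/-- Quasi-coherence from an affine cover on which the module is an associated sheaf. -/
theorem isQCoh_of_isLocalizing (M : X.Modules)
    (h : ∀ x, ∃ (U : X.Opens) (hU : IsAffineOpen U), x ∈ U ∧
      IsLocalizing (modulesSpecToSheaf.obj (M.restrict hU.fromSpec))) : M.IsQuasicoherent := by
  refine isQCoh_of_forall_exists M fun x ↦ ?_
  obtain ⟨U, hU, hx, hl⟩ := h x
  have : (M.restrict hU.fromSpec).IsQuasicoherent :=
    (isQuasicoherent_iff_isIso_fromTildeΓ _).mpr
      ((isIso_fromTildeΓ_iff_isLocalizing _).mpr hl)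
  exact ⟨U, hx, isQCoh_restrict_ι_of_fromSpec M hU⟩

/-- Quasi-coherence from the two localization properties on the members of an affine cover. -/
theorem isQCoh_of_affine_cover (M : X.Modules)
    (h : ∀ x, ∃ (U : X.Opens) (_hU : IsAffineOpen U), x ∈ U ∧
      (∀ (f : Γ(X, U)) (s : Γ(M, X.basicOpen f)), ∃ (n : ℕ) (t : Γ(M, U)),
        res M (X.basicOpen_le f) t = resFun X (X.basicOpen_le f) f ^ n • s) ∧
      (∀ (f : Γ(X, U)) (t : Γ(M, U)),
        res M (X.basicOpen_le f) t = 0 → ∃ n : ℕ, f ^ n • t = 0)) : M.IsQuasicoherent := by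
  refine isQCoh_of_isLocalizing M fun x ↦ ?_
  obtain ⟨U, hU, hx, h₁, h₂⟩ := h x
  exact ⟨U, hU, hx, isLocalizing_restrict_fromSpec_of_forall M hU h₁ h₂⟩

/-- Quasi-coherence from the two localization properties on all affine opens. -/
theorem isQCoh_of_forall_affine (M : X.Modules)
    (h₁ : ∀ (U : X.Opens) (_hU : IsAffineOpen U) (f : Γ(X, U)) (s : Γ(M, X.basicOpen f)),
      ∃ (n : ℕ) (t : Γ(M, U)),
        res M (X.basicOpen_le f) t = resFun X (X.basicOpen_le f) f ^ n • s)
    (h₂ : ∀ (U : X.Opens) (_hU : IsAffineOpen U) (f : Γ(X, U)) (t : Γ(M, U)),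
      res M (X.basicOpen_le f) t = 0 → ∃ n : ℕ, f ^ n • t = 0) : M.IsQuasicoherent := by
  refine isQCoh_of_affine_cover M fun x ↦ ?_
  obtain ⟨U, hU, hx, -⟩ := X.isBasis_affineOpens.exists_subset_of_mem_open
    (Set.mem_univ x) isOpen_univ
  obtain ⟨V, hV, rfl⟩ := hU
  exact ⟨V, hV, hx, h₁ V hV, h₂ V hV⟩

set_option backward.isDefEq.respectTransparency false in
set_option maxHeartbeats 1600000 in
/-- A module is of finite type as soon as it is locally generated by finitely many sections. -/
theorem isFT_of_cover (M : X.Modules) {ι : Type u} (U : ι → X.Opens) (hU : ∀ x, ∃ i, x ∈ U i)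
    (p : ∀ i, (M.restrict (U i).ι).GeneratingSections) (hp : ∀ i, Finite (p i).I) :
    CohB1.IsFT M := by
  let σ : SheafOfModules.LocalGeneratorsData.{u} (R := X.ringCatSheaf) M :=
    { I := ι, X := U, coversTop := coversTop_of_cover U hU, generators := fun i ↦ genOver (p i) }
  have h : σ.IsFiniteType :=
    SheafOfModules.LocalGeneratorsData.IsFiniteType.mk (R := X.ringCatSheaf) (M := M) (p := σ)
      fun i ↦ { finite := (hp i : Finite (p i).I) }
  exact SheafOfModules.IsFiniteType.mk (R := X.ringCatSheaf) (M := M) ⟨σ, h⟩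

set_option backward.isDefEq.respectTransparency false in
set_option maxHeartbeats 1600000 in
/-- A module is of finite presentation as soon as it is locally finitely presented. -/
theorem isFP_of_cover (M : X.Modules) {ι : Type u} (U : ι → X.Opens) (hU : ∀ x, ∃ i, x ∈ U i)
    (p : ∀ i, (M.restrict (U i).ι).Presentation) (hp : ∀ i, (p i).IsFinite) :
    CohB1.IsFP M := by
  let σ : SheafOfModules.QuasicoherentData.{u} (R := X.ringCatSheaf) M :=
    { I := ι, X := U, coversTop := coversTop_of_cover U hU, presentation := fun i ↦ presOver (p i) }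
  have h : σ.IsFinitePresentation :=
    SheafOfModules.QuasicoherentData.IsFinitePresentation.mk (R := X.ringCatSheaf) (M := M) (q := σ)
      fun i ↦ presOver_isFinite (p i) (hp i)
  exact SheafOfModules.IsFinitePresentation.mk (R := X.ringCatSheaf) (M := M) ⟨σ, h⟩

end Groth.QCohMod
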