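import Groth.Agent.QCohMod.Pullback
import Groth.Agent.QCohMod.FiniteType
import Groth.Agent.QCohMod.Local

/-!
# Inverse images of quasi-coherent modules
-/

universe u

open CategoryTheory Limits AlgebraicGeometry Opposite TopologicalSpace TensorProduct
open AlgebraicGeometry.Scheme.Modules (restrictFunctor overEquiv overFunctorEquiv)

namespace Groth.QCohMod

variable {X Y : Scheme.{u}} (f : Y ⟶ X)

/-- `(f^*M)|_{f⁻¹V} ≅ (f|_V)^* (M|_V)`. -/
noncomputable def restrictPullbackIso (M : X.Modules) (V : X.Opens) :
    ((Scheme.Modules.pullback f).obj M).restrict (f ⁻¹ᵁ V).ι ≅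
      (Scheme.Modules.pullback (f ∣_ V)).obj (M.restrict V.ι) :=
  (Scheme.Modules.restrictFunctorIsoPullback (f ⁻¹ᵁ V).ι).app _ ≪≫
    (Scheme.Modules.pullbackComp (f ⁻¹ᵁ V).ι f).app M ≪≫
    (Scheme.Modules.pullbackCongr (morphismRestrict_ι f V).symm).app M ≪≫
    ((Scheme.Modules.pullbackComp (f ∣_ V) V.ι).app M).symm ≪≫
    (Scheme.Modules.pullback (f ∣_ V)).mapIso
      ((Scheme.Modules.restrictFunctorIsoPullback V.ι).app M).symm

/-- `f^*O_X ≅ O_Y`. -/
noncomputable def pullUnitIso :
    SheafOfModules.unit Y.ringCatSheaf ≅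
      (Scheme.Modules.pullback f).obj (SheafOfModules.unit X.ringCatSheaf) :=
  haveI := Groth.PicAux.isIso_pullUnit f
  (asIso (Groth.PicAux.pullUnit f)).symm

set_option backward.isDefEq.respectTransparency false in
set_option maxHeartbeats 1600000 in
/-- Inverse image of a presentation. -/
noncomputable def presPullback {M : X.Modules} (p : M.Presentation) :
    ((Scheme.Modules.pullback f).obj M).Presentation :=
  haveI : PreservesColimitsOfSize.{u, u} (Scheme.Modules.pullback f) :=
    (Scheme.Modules.pullbackPushforwardAdjunction f).leftAdjoint_preservesColimits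
  p.map (Scheme.Modules.pullback f) (pullUnitIso f)

set_option backward.isDefEq.respectTransparency false in
set_option maxHeartbeats 1600000 in
/-- Inverse image of generating sections. -/
noncomputable def genPullback {M : X.Modules}
    (p : SheafOfModules.GeneratingSections (R := X.ringCatSheaf) M) :
    SheafOfModules.GeneratingSections (R := Y.ringCatSheaf) ((Scheme.Modules.pullback f).obj M) :=
  haveI : PreservesColimitsOfSize.{u, u} (Scheme.Modules.pullback f) :=
    (Scheme.Modules.pullbackPushforwardAdjunction f).leftAdjoint_preservesColimits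
  p.map (Scheme.Modules.pullback f) (pullUnitIso f)

set_option backward.isDefEq.respectTransparency false in
set_option maxHeartbeats 1600000 in
/-- Presentations of `M|_V` give presentations of `(f^*M)|_{f⁻¹V}`. -/
noncomputable def presRestrictPullback {M : X.Modules} {V : X.Opens}
    (p : (M.restrict V.ι).Presentation) :
    (((Scheme.Modules.pullback f).obj M).restrict (f ⁻¹ᵁ V).ι).Presentation :=
  haveI : IsIso (C := SheafOfModules.{u} _) (restrictPullbackIso f M V).inv :=
    inferInstanceAs (IsIso (restrictPullbackIso f M V).inv)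
  SheafOfModules.Presentation.ofIsIso.{u, u, u} (restrictPullbackIso f M V).inv
    (presPullback (f ∣_ V) p)

/-- The inverse image of a quasi-coherent module is quasi-coherent. -/
theorem isQCoh_pullback_obj (M : X.Modules) [M.IsQuasicoherent] :
    ((Scheme.Modules.pullback f).obj M).IsQuasicoherent := by
  obtain ⟨ι, U, p, hU, -⟩ := Scheme.Modules.exists_isOpenCover_presentation M
  exact isQCoh_of_cover _ (fun i ↦ f ⁻¹ᵁ U i) (fun y ↦ hU.exists_mem (f y))
    fun i ↦ presRestrictPullback f (p i)

instance (M : X.Modules) [M.IsQuasicoherent] :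
    ((Scheme.Modules.pullback f).obj M).IsQuasicoherent := isQCoh_pullback_obj f M

set_option backward.isDefEq.respectTransparency false in
set_option maxHeartbeats 1600000 in
/-- The inverse image of a module of finite type is of finite type. -/
theorem isFT_pullback (M : X.Modules) (hM : CohB1.IsFT M) :
    CohB1.IsFT ((Scheme.Modules.pullback f).obj M) := by
  choose V hV G hG using exists_generators_of_isFT M hM
  refine isFT_of_cover _ (fun y : Y ↦ f ⁻¹ᵁ V (f y)) (fun y ↦ ⟨y, hV (f y)⟩)
    (fun y ↦ (genPullback (f ∣_ V (f y)) (G (f y))).ofEpi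
      (restrictPullbackIso f M (V (f y))).inv) fun y ↦ hG (f y)

set_option backward.isDefEq.respectTransparency false in
set_option maxHeartbeats 1600000 in
/-- A module of finite presentation is locally finitely presented on opens. -/
theorem exists_presentation_of_isFP (M : X.Modules) (hM : CohB1.IsFP M) (x : X) :
    ∃ (V : X.Opens) (_ : x ∈ V) (P : (M.restrict V.ι).Presentation), P.IsFinite := by
  obtain ⟨σ, hσ⟩ := hM.exists_quasicoherentData
  have hcov : (⨆ i, σ.X i) = ⊤ := (Opens.coversTop_iff (U := σ.X)).mp σ.coversTop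
  obtain ⟨i, hi⟩ := Opens.mem_iSup.mp (hcov.ge (Set.mem_univ x) : x ∈ ⨆ i, σ.X i)
  have : PreservesColimitsOfSize.{u, u} (overEquiv (σ.X i)).functor := inferInstance
  exact ⟨σ.X i, hi, SheafOfModules.Presentation.ofIsIso.{u, u, u}
    ((overFunctorEquiv (σ.X i)).app M).hom
      ((σ.presentation i).map (overEquiv (σ.X i)).functor (overUnitIso (σ.X i)).symm),
    ⟨⟨(hσ.isFinite_presentation i).isFiniteType_generators.finite⟩,
      ⟨(hσ.isFinite_presentation i).isFiniteType_relations.finite⟩⟩⟩

set_option backward.isDefEq.respectTransparency false in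
set_option maxHeartbeats 1600000 in
/-- The inverse image of a module of finite presentation is of finite presentation. -/
theorem isFP_pullback (M : X.Modules) (hM : CohB1.IsFP M) :
    CohB1.IsFP ((Scheme.Modules.pullback f).obj M) := by
  choose V hV P hP using exists_presentation_of_isFP M hM
  refine isFP_of_cover _ (fun y : Y ↦ f ⁻¹ᵁ V (f y)) (fun y ↦ ⟨y, hV (f y)⟩)
    (fun y ↦ presRestrictPullback f (P (f y))) fun y ↦ ?_
  exact ⟨⟨(hP (f y)).isFiniteType_generators.finite⟩, ⟨(hP (f y)).isFiniteType_relations.finite⟩⟩

end Groth.QCohMod
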