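import Mathlib.AlgebraicGeometry.Modules.Tilde
import Groth.Prelude.Def_Coh

/-!
# Sections of quasi-coherent modules over affine opens and their basic opens
-/

universe u

open CategoryTheory Limits AlgebraicGeometry Opposite TopologicalSpace

namespace Groth.QCohMod

variable {X : Scheme.{u}}

/-- The restriction map on sections, as an additive map. -/
noncomputable abbrev res (M : X.Modules) {U V : X.Opens} (h : V ≤ U) : Γ(M, U) →+ Γ(M, V) :=
  (M.presheaf.map (homOfLE h).op).hom

/-- The restriction of functions, as a ring map. -/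
noncomputable abbrev resFun (X : Scheme.{u}) {U V : X.Opens} (h : V ≤ U) : Γ(X, U) →+* Γ(X, V) :=
  (X.presheaf.map (homOfLE h).op).hom

lemma res_res (M : X.Modules) {U V W : X.Opens} (h : V ≤ U) (h' : W ≤ V) (x : Γ(M, U)) :
    res M h' (res M h x) = res M (h'.trans h) x := by
  change (M.presheaf.map _ ≫ M.presheaf.map _) x = _
  rw [← Functor.map_comp]
  rfl

lemma res_self (M : X.Modules) {U : X.Opens} (x : Γ(M, U)) : res M le_rfl x = x := by
  change M.presheaf.map (𝟙 (op U)) x = x
  rw [M.presheaf.map_id]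
  rfl

lemma resFun_resFun {U V W : X.Opens} (h : V ≤ U) (h' : W ≤ V) (x : Γ(X, U)) :
    resFun X h' (resFun X h x) = resFun X (h'.trans h) x := by
  change (X.presheaf.map _ ≫ X.presheaf.map _) x = _
  rw [← Functor.map_comp]
  rfl

lemma resFun_self {U : X.Opens} (x : Γ(X, U)) : resFun X le_rfl x = x := by
  change X.presheaf.map (𝟙 (op U)) x = x
  rw [X.presheaf.map_id]
  rfl

lemma res_smul (M : X.Modules) {U V : X.Opens} (h : V ≤ U) (r : Γ(X, U)) (x : Γ(M, U)) :
    res M h (r • x) = resFun X h r • res M h x :=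
  M.map_smul _ r x

lemma res_app {M N : X.Modules} (φ : M ⟶ N) {U V : X.Opens} (h : V ≤ U) (x : Γ(M, U)) :
    res N h (φ.app U x) = φ.app V (res M h x) :=
  congr($((φ.mapPresheaf.naturality (homOfLE h).op).symm) x)

lemma ΓSpecIso_inv_map_appIso_inv {U : X.Opens} (hU : IsAffineOpen U)
    (V : (Spec Γ(X, U)).Opens) (h : hU.fromSpec ''ᵁ V ≤ U) :
    (Scheme.ΓSpecIso Γ(X, U)).inv ≫ (Spec Γ(X, U)).presheaf.map V.leTop.op ≫
      (hU.fromSpec.appIso V).inv = X.presheaf.map (homOfLE h).op := by
  rw [← cancel_mono (hU.fromSpec.appIso V).hom]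
  simp only [Category.assoc, Iso.inv_hom_id, Category.comp_id]
  rw [Scheme.Hom.appIso_hom', Scheme.Hom.map_appLE]
  simp only [Scheme.Hom.appLE, hU.fromSpec_app_self, Category.assoc, ← Functor.map_comp]
  rfl

/-- Sections of the restriction of `M` to `Spec Γ(X, U)`. -/
noncomputable def secEquiv {U : X.Opens} (hU : IsAffineOpen U) (M : X.Modules)
    (V : (Spec Γ(X, U)).Opens) {W : X.Opens} (h : hU.fromSpec ''ᵁ V = W) :
    Γ(M.restrict hU.fromSpec, V) ≃+ Γ(M, W) :=
  ((M.restrictAppIso hU.fromSpec V) ≪≫ M.presheaf.mapIso (eqToIso h.symm).op).addCommGroupIsoToAddEquiv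

lemma secEquiv_apply {U : X.Opens} (hU : IsAffineOpen U) (M : X.Modules)
    (V : (Spec Γ(X, U)).Opens) {W : X.Opens} (h : hU.fromSpec ''ᵁ V = W)
    (x : Γ(M.restrict hU.fromSpec, V)) :
    secEquiv hU M V h x =
      res M h.ge ((M.restrictAppIso hU.fromSpec V).hom x) := rfl

lemma secEquiv_map {U : X.Opens} (hU : IsAffineOpen U) (M : X.Modules)
    {V V' : (Spec Γ(X, U)).Opens} {W W' : X.Opens} (h : hU.fromSpec ''ᵁ V = W)
    (h' : hU.fromSpec ''ᵁ V' = W') (hVV : V' ≤ V) (hWW : W' ≤ W)
    (x : Γ(M.restrict hU.fromSpec, V)) :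
    secEquiv hU M V' h' ((M.restrict hU.fromSpec).presheaf.map (homOfLE hVV).op x) =
      res M hWW (secEquiv hU M V h x) := by
  subst h h'
  rw [secEquiv_apply, secEquiv_apply, res_self, res_self]
  rfl

lemma secEquiv_smul {U : X.Opens} (hU : IsAffineOpen U) (M : X.Modules)
    (V : (Spec Γ(X, U)).Opens) {W : X.Opens} (h : hU.fromSpec ''ᵁ V = W) (hW : W ≤ U)
    (r : Γ(X, U)) (x : Γ(M.restrict hU.fromSpec, V)) :
    secEquiv hU M V h (r • x) = resFun X hW r • secEquiv hU M V h x := by
  subst h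
  rw [secEquiv_apply, secEquiv_apply, res_self, res_self]
  unfold resFun
  rw [← ΓSpecIso_inv_map_appIso_inv hU V hW]
  rw [Scheme.Modules.smul_Spec_def]
  exact Scheme.Modules.smul_restrictAppIso_hom_apply _ _ _ _ _

lemma isLocalizing_restrict_fromSpec {U : X.Opens} (hU : IsAffineOpen U) (M : X.Modules)
    [M.IsQuasicoherent] :
    IsLocalizing (modulesSpecToSheaf.obj (M.restrict hU.fromSpec)) :=
  (isIso_fromTildeΓ_iff_isLocalizing _).mp inferInstance

lemma image_top_fromSpec {U : X.Opens} (hU : IsAffineOpen U) : hU.fromSpec ''ᵁ ⊤ = U := by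
  rw [Scheme.Hom.image_top_eq_opensRange, hU.opensRange_fromSpec]

/-- Every section of a quasi-coherent module over `D(f) ⊆ U`, `U` affine, extends to `U` after
multiplication by a power of `f`. -/
theorem exists_pow_smul_eq_res (M : X.Modules) [M.IsQuasicoherent] {U : X.Opens}
    (hU : IsAffineOpen U) (f : Γ(X, U)) (s : Γ(M, X.basicOpen f)) :
    ∃ (n : ℕ) (t : Γ(M, U)),
      res M (X.basicOpen_le f) t = resFun X (X.basicOpen_le f) f ^ n • s := by
  have hl := isLocalizing_restrict_fromSpec hU M f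
  let V := PrimeSpectrum.basicOpen (R := Γ(X, U)) f
  obtain ⟨⟨t, _, n, rfl⟩, ht⟩ := IsLocalizedModule.surj (Submonoid.powers f)
    ((modulesSpecToSheaf.obj (M.restrict hU.fromSpec)).obj.map
      (PrimeSpectrum.basicOpen f).leTop.op).hom
    ((secEquiv hU M V (hU.fromSpec_image_basicOpen f)).symm s)
  refine ⟨n, secEquiv hU M ⊤ (image_top_fromSpec hU) t, ?_⟩
  have := congr(secEquiv hU M V (hU.fromSpec_image_basicOpen f) $ht)
  erw [secEquiv_smul hU M V (hU.fromSpec_image_basicOpen f) (X.basicOpen_le f),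
    AddEquiv.apply_symm_apply,
    secEquiv_map hU M (image_top_fromSpec hU) (hU.fromSpec_image_basicOpen f) le_top
      (X.basicOpen_le f)] at this
  rw [← this, map_pow]

/-- A section of a quasi-coherent module over an affine `U` that vanishes on `D(f)` is killed by a
power of `f`. -/
theorem exists_pow_smul_eq_zero (M : X.Modules) [M.IsQuasicoherent] {U : X.Opens}
    (hU : IsAffineOpen U) (f : Γ(X, U)) (t : Γ(M, U))
    (ht : res M (X.basicOpen_le f) t = 0) : ∃ n : ℕ, f ^ n • t = 0 := by
  have hl := isLocalizing_restrict_fromSpec hU M f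
  let V := PrimeSpectrum.basicOpen (R := Γ(X, U)) f
  obtain ⟨⟨_, n, rfl⟩, hn⟩ := (IsLocalizedModule.eq_zero_iff (Submonoid.powers f)
    ((modulesSpecToSheaf.obj (M.restrict hU.fromSpec)).obj.map
      (PrimeSpectrum.basicOpen f).leTop.op).hom
    (m := (secEquiv hU M ⊤ (image_top_fromSpec hU)).symm t)).mp (by
      apply (secEquiv hU M V (hU.fromSpec_image_basicOpen f)).injective
      erw [secEquiv_map hU M (image_top_fromSpec hU) (hU.fromSpec_image_basicOpen f) le_top
        (X.basicOpen_le f), AddEquiv.apply_symm_apply, map_zero]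
      exact ht)
  refine ⟨n, ?_⟩
  have := congr(secEquiv hU M ⊤ (image_top_fromSpec hU) $hn)
  erw [secEquiv_smul hU M ⊤ (image_top_fromSpec hU) le_rfl, AddEquiv.apply_symm_apply,
    map_zero, resFun_self] at this
  exact this

/-- Conversely, a module with the two localization properties on an affine open restricts to an
associated sheaf on it. -/
theorem isLocalizing_restrict_fromSpec_of_forall (M : X.Modules) {U : X.Opens}
    (hU : IsAffineOpen U)
    (h₁ : ∀ (f : Γ(X, U)) (s : Γ(M, X.basicOpen f)), ∃ (n : ℕ) (t : Γ(M, U)),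
      res M (X.basicOpen_le f) t = resFun X (X.basicOpen_le f) f ^ n • s)
    (h₂ : ∀ (f : Γ(X, U)) (t : Γ(M, U)),
      res M (X.basicOpen_le f) t = 0 → ∃ n : ℕ, f ^ n • t = 0) :
    IsLocalizing (modulesSpecToSheaf.obj (M.restrict hU.fromSpec)) := by
  intro f
  let V := PrimeSpectrum.basicOpen (R := Γ(X, U)) f
  let eV := secEquiv hU M V (hU.fromSpec_image_basicOpen f)
  let eT := secEquiv hU M ⊤ (image_top_fromSpec hU)
  refine IsLocalizedModule.Away.mk_of_addCommGroup ?_ ?_ ?_
  · exact Scheme.Modules.isUnit_algebraMap_end_of_le_basicOpen f le_rfl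
  · intro s
    obtain ⟨n, t, ht⟩ := h₁ f (eV s)
    refine ⟨n, eT.symm t, eV.injective ?_⟩
    erw [secEquiv_smul hU M V (hU.fromSpec_image_basicOpen f) (X.basicOpen_le f),
      secEquiv_map hU M (image_top_fromSpec hU) (hU.fromSpec_image_basicOpen f) le_top
        (X.basicOpen_le f), AddEquiv.apply_symm_apply, map_pow]
    exact ht.symm
  · intro x hx
    obtain ⟨n, hn⟩ := h₂ f (eT x) (by
      have := congr(eV $hx)
      erw [secEquiv_map hU M (image_top_fromSpec hU) (hU.fromSpec_image_basicOpen f) le_top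
        (X.basicOpen_le f), map_zero] at this
      exact this)
    refine ⟨n, eT.injective ?_⟩
    erw [secEquiv_smul hU M ⊤ (image_top_fromSpec hU) le_rfl, map_zero, resFun_self]
    exact hn

end Groth.QCohMod
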