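import Groth.Agent.QCohMod.ExtendCases
import Groth.Agent.QCohMod.Coherent
import Groth.Prelude.Def_RelSpec
import Mathlib.RingTheory.FiniteType

/-!
# Submodules and subalgebras of finite type of a quasi-coherent algebra
-/

universe u

open CategoryTheory CategoryTheory.Limits AlgebraicGeometry Opposite TopologicalSpace

namespace Groth.QCohMod

variable {X : Scheme.{u}} (B : RelSpec.QCAlg X)

/-- Sections of a quasi-coherent algebra. -/
abbrev BSec (W : X.Opens) : Type u := B.presheaf.obj (op W)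

/-- Restriction of sections of a quasi-coherent algebra. -/
noncomputable abbrev bres {W W' : X.Opens} (h : W' ≤ W) : BSec B W →+* BSec B W' :=
  (B.presheaf.map (homOfLE h).op).hom

/-- The structure map on sections. -/
noncomputable abbrev bstr (W : X.Opens) : Γ(X, W) →+* BSec B W := (B.str.app (op W)).hom

lemma bres_bres {U V W : X.Opens} (h : V ≤ U) (h' : W ≤ V) (x : BSec B U) :
    bres B h' (bres B h x) = bres B (h'.trans h) x := by
  change (B.presheaf.map _ ≫ B.presheaf.map _).hom x = _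
  rw [← Functor.map_comp]
  rfl

lemma bres_self {U : X.Opens} (x : BSec B U) : bres B le_rfl x = x := by
  change (B.presheaf.map (𝟙 _)).hom x = x
  rw [B.presheaf.map_id]
  rfl

lemma bres_bstr {U V : X.Opens} (h : V ≤ U) (r : Γ(X, U)) :
    bres B h (bstr B U r) = bstr B V (resFun X h r) :=
  (congr(($(B.str.naturality (homOfLE h).op)).hom r)).symm

/-- A section of the underlying module as a section of the algebra. -/
noncomputable abbrev toB {W : X.Opens} (s : Γ(B.toModule, W)) : BSec B W := s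

/-- A section of the algebra as a section of the underlying module. -/
noncomputable abbrev ofB {W : X.Opens} (s : BSec B W) : Γ(B.toModule, W) := s

lemma toB_res {W W' : X.Opens} (h : W' ≤ W) (s : Γ(B.toModule, W)) :
    toB B (res B.toModule h s) = bres B h (toB B s) := rfl

lemma toB_smul {W : X.Opens} (r : Γ(X, W)) (s : Γ(B.toModule, W)) :
    toB B (r • s) = bstr B W r * toB B s := rfl

lemma exists_pow_mul_eq_bres {U : X.Opens} (hU : IsAffineOpen U) (f : Γ(X, U))
    (z : BSec B (X.basicOpen f)) : ∃ (n : ℕ) (b : BSec B U),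
      bres B (X.basicOpen_le f) b = bstr B _ (resFun X (X.basicOpen_le f) f) ^ n * z := by
  let _ := (bres B (X.basicOpen_le f)).toAlgebra
  have : IsLocalization.Away (bstr B U f) (BSec B (X.basicOpen f)) := B.isQC U hU f
  obtain ⟨⟨b, _, n, rfl⟩, hb⟩ := IsLocalization.surj (Submonoid.powers (bstr B U f)) z
  refine ⟨n, b, ?_⟩
  have hb' : z * bres B (X.basicOpen_le f) (bstr B U f ^ n) = bres B (X.basicOpen_le f) b := hb
  rw [map_pow, bres_bstr, mul_comm] at hb'
  exact hb'.symm

lemma exists_pow_mul_eq_zero {U : X.Opens} (hU : IsAffineOpen U) (f : Γ(X, U)) (b : BSec B U)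
    (hb : bres B (X.basicOpen_le f) b = 0) : ∃ n : ℕ, bstr B U f ^ n * b = 0 := by
  let _ := (bres B (X.basicOpen_le f)).toAlgebra
  have : IsLocalization.Away (bstr B U f) (BSec B (X.basicOpen f)) := B.isQC U hU f
  obtain ⟨⟨_, n, rfl⟩, hn⟩ := (IsLocalization.map_eq_zero_iff (Submonoid.powers (bstr B U f))
    (BSec B (X.basicOpen f)) b).1 hb
  exact ⟨n, hn⟩

/-- The module of a quasi-coherent algebra is quasi-coherent. -/
theorem isQCoh_toModule : B.toModule.IsQuasicoherent := by
  refine isQCoh_of_forall_affine _ (fun U hU f s => ?_) (fun U hU f t ht => ?_)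
  · obtain ⟨n, b, hb⟩ := exists_pow_mul_eq_bres B hU f (toB B s)
    exact ⟨n, ofB B b, hb.trans (congrArg (· * toB B s) (map_pow (bstr B _) _ n).symm)⟩
  · obtain ⟨n, hn⟩ := exists_pow_mul_eq_zero B hU f (toB B t) ht
    exact ⟨n, (congrArg (· * toB B t) (map_pow (bstr B U) f n)).trans hn⟩

section Gen

variable {E : X.Modules} (j : E ⟶ B.toModule)

/-- The subalgebra generated by sections of a module mapping to the algebra. -/
noncomputable def algGen (W : X.Opens) : Subring (BSec B W) :=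
  Subring.closure (Set.range (bstr B W) ∪ Set.range fun e : Γ(E, W) => toB B (j.app W e))

lemma bstr_mem_gen {W : X.Opens} (r : Γ(X, W)) : bstr B W r ∈ algGen B j W :=
  Subring.subset_closure (Or.inl ⟨r, rfl⟩)

lemma app_mem_gen {W : X.Opens} (e : Γ(E, W)) : toB B (j.app W e) ∈ algGen B j W :=
  Subring.subset_closure (Or.inr ⟨e, rfl⟩)

lemma bres_mem_gen {W W' : X.Opens} (h : W' ≤ W) {z : BSec B W} (hz : z ∈ algGen B j W) :
    bres B h z ∈ algGen B j W' := by
  suffices algGen B j W ≤ (algGen B j W').comap (bres B h) from this hz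
  refine Subring.closure_le.2 ?_
  rintro _ (⟨r, rfl⟩ | ⟨e, rfl⟩)
  · rw [SetLike.mem_coe, Subring.mem_comap, bres_bstr]
    exact bstr_mem_gen B j _
  · rw [SetLike.mem_coe, Subring.mem_comap, ← toB_res, res_app]
    exact app_mem_gen B j _

variable [E.IsQuasicoherent]

/-- Clearing denominators in the generated subalgebra. -/
lemma exists_mem_gen_lift {U : X.Opens} (hU : IsAffineOpen U) (f : Γ(X, U))
    {z : BSec B (X.basicOpen f)} (hz : z ∈ algGen B j (X.basicOpen f)) :
    ∃ (n : ℕ) (s : BSec B U), s ∈ algGen B j U ∧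
      bres B (X.basicOpen_le f) s = bstr B _ (resFun X (X.basicOpen_le f) f) ^ n * z := by
  set c := bstr B _ (resFun X (X.basicOpen_le f) f) with hc
  have hf : bres B (X.basicOpen_le f) (bstr B U f) = c := bres_bstr B _ f
  induction hz using Subring.closure_induction with
  | mem z hz =>
    rcases hz with ⟨r, rfl⟩ | ⟨e, rfl⟩
    · have := hU.isLocalization_basicOpen f
      obtain ⟨⟨q, _, n, rfl⟩, hq⟩ := IsLocalization.surj (Submonoid.powers f) r
      have hq' : r * resFun X (X.basicOpen_le f) (f ^ n) = resFun X (X.basicOpen_le f) q := hq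
      refine ⟨n, bstr B U q, bstr_mem_gen B j q, ?_⟩
      rw [bres_bstr, ← hq', map_mul, map_pow, map_pow, mul_comm]
    · obtain ⟨n, t, ht⟩ := exists_pow_smul_eq_res E hU f e
      refine ⟨n, toB B (j.app U t), app_mem_gen B j t, ?_⟩
      rw [← toB_res, res_app, ht, Scheme.Modules.Hom.app_smul, toB_smul, map_pow]
  | zero => exact ⟨0, 0, zero_mem _, by simp⟩
  | one => exact ⟨0, 1, one_mem _, by simp⟩
  | add a b _ _ ha hb =>
    obtain ⟨n, s, hs, e⟩ := ha
    obtain ⟨m, t, ht, e'⟩ := hb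
    refine ⟨n + m, bstr B U f ^ m * s + bstr B U f ^ n * t,
      add_mem (mul_mem (pow_mem (bstr_mem_gen B j f) m) hs)
        (mul_mem (pow_mem (bstr_mem_gen B j f) n) ht), ?_⟩
    rw [map_add, map_mul, map_mul, map_pow, map_pow, hf, e, e', pow_add]
    ring
  | neg a _ ha =>
    obtain ⟨n, s, hs, e⟩ := ha
    exact ⟨n, -s, neg_mem hs, by rw [map_neg, e, mul_neg]⟩
  | mul a b _ _ ha hb =>
    obtain ⟨n, s, hs, e⟩ := ha
    obtain ⟨m, t, ht, e'⟩ := hb
    refine ⟨n + m, s * t, mul_mem hs ht, ?_⟩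
    rw [map_mul, e, e', pow_add]
    ring

/-- A section over an affine open which is locally in the generated subalgebra is in it. -/
theorem mem_gen_of_local {U : X.Opens} (hU : IsAffineOpen U) (b : BSec B U)
    (h : ∀ x ∈ U, ∃ (Z : X.Opens) (hZ : Z ≤ U), x ∈ Z ∧ bres B hZ b ∈ algGen B j Z) :
    b ∈ algGen B j U := by
  let I : Ideal Γ(X, U) :=
    { carrier := {a | bstr B U a * b ∈ algGen B j U}
      add_mem' := fun {p q} hp hq => by
        change bstr B U (p + q) * b ∈ algGen B j U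
        rw [map_add, add_mul]
        exact add_mem hp hq
      zero_mem' := by
        change bstr B U 0 * b ∈ algGen B j U
        rw [map_zero, zero_mul]
        exact zero_mem _
      smul_mem' := fun r p hp => by
        change bstr B U (r * p) * b ∈ algGen B j U
        rw [map_mul, mul_assoc]
        exact mul_mem (bstr_mem_gen B j r) hp }
  have key : ∀ x ∈ U, ∃ g, x ∈ X.basicOpen g ∧ g ∈ I.radical := by
    intro x hx
    obtain ⟨Z, hZ, hxZ, hbZ⟩ := h x hx
    obtain ⟨g, hxg, hgZ⟩ := exists_basicOpen_mem hU hx hxZ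
    have hg := bres_mem_gen B j hgZ hbZ
    rw [bres_bres] at hg
    obtain ⟨n, s, hs, e⟩ := exists_mem_gen_lift B j hU g hg
    obtain ⟨k, hk⟩ := exists_pow_mul_eq_zero B hU g (bstr B U g ^ n * b - s) (by
      rw [map_sub, map_mul, map_pow, bres_bstr, e, sub_self])
    refine ⟨g, hxg, k + n, ?_⟩
    change bstr B U (g ^ (k + n)) * b ∈ algGen B j U
    rw [mul_sub, sub_eq_zero, ← mul_assoc, ← pow_add] at hk
    rw [map_pow, hk]
    exact mul_mem (pow_mem (bstr_mem_gen B j g) k) hs
  choose g hxg hg using key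
  have hI : I.radical = ⊤ := by
    rw [eq_top_iff, ← hU.self_le_iSup_basicOpen_iff.1 (fun x hx =>
      Opens.mem_iSup.2 ⟨⟨g x hx, ⟨⟨x, hx⟩, rfl⟩⟩, hxg x hx⟩ :
      U ≤ ⨆ f : Set.range (fun x : U => g x.1 x.2), X.basicOpen f.1), Ideal.span_le]
    rintro _ ⟨x, rfl⟩
    exact hg x.1 x.2
  have h1 : (1 : Γ(X, U)) ∈ I := (Ideal.eq_top_iff_one I).1 (Ideal.radical_eq_top.1 hI)
  have h1' : bstr B U 1 * b ∈ algGen B j U := h1
  rwa [map_one, one_mul] at h1'

/-- Over an affine open with module generators, generators of the algebra give all sections. -/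
theorem gen_eq_top_of_generators {U : X.Opens} (hU : IsAffineOpen U)
    (hcov : ∀ x ∈ U, ∃ (V : X.Opens) (T : Set (BSec B V)), IsAffineOpen V ∧ x ∈ V ∧
      Subring.closure (Set.range (bstr B V) ∪ T) = ⊤ ∧
      ∀ t ∈ T, ∃ e : Γ(E, V), toB B (j.app V e) = t) :
    algGen B j U = ⊤ := by
  refine eq_top_iff.2 fun b _ => mem_gen_of_local B j hU b fun x hx => ?_
  obtain ⟨V, T, hV, hxV, hT, hTE⟩ := hcov x hx
  obtain ⟨f, f', hff, hxf⟩ := exists_basicOpen_le_affine_inter hU hV x ⟨hx, hxV⟩
  have hVtop : algGen B j V = ⊤ := by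
    refine eq_top_iff.2 (hT.ge.trans (Subring.closure_le.2 ?_))
    rintro _ (⟨r, rfl⟩ | ht)
    · exact bstr_mem_gen B j r
    · obtain ⟨e, rfl⟩ := hTE _ ht
      exact app_mem_gen B j e
  refine ⟨X.basicOpen f', hff ▸ X.basicOpen_le f, hff ▸ hxf, ?_⟩
  obtain ⟨n, c, hc⟩ := exists_pow_mul_eq_bres B hV f' (bres B (hff ▸ X.basicOpen_le f) b)
  have h1 := bres_mem_gen B j (X.basicOpen_le f') (hVtop.ge (Subring.mem_top c))
  rw [hc] at h1
  have hu : IsUnit (resFun X (X.basicOpen_le f') f' ^ n) :=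
    IsUnit.pow n (RingedSpace.isUnit_res_basicOpen _ f')
  obtain ⟨v, hv⟩ := hu
  have h2 := mul_mem (bstr_mem_gen B j (↑v⁻¹ : Γ(X, X.basicOpen f'))) h1
  rwa [← map_pow, ← hv, ← mul_assoc, ← map_mul, Units.inv_mul, map_one, one_mul] at h2

end Gen

/-- The join of two submodules of finite type of a quasi-coherent module. -/
theorem exists_sup {F E E' : X.Modules} [F.IsQuasicoherent] (j : E ⟶ F) (j' : E' ⟶ F)
    (hE : Coh.IsCoh E) (hE' : Coh.IsCoh E') :
    ∃ (G : X.Modules) (k : G ⟶ F) (a : E ⟶ G) (a' : E' ⟶ G),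
      Mono k ∧ Coh.IsCoh G ∧ a ≫ k = j ∧ a' ≫ k = j' := by
  have h := isCoh_biprod hE hE'
  have := h.1
  refine ⟨Abelian.image (biprod.desc j j'), Abelian.image.ι _,
    biprod.inl ≫ Abelian.factorThruImage _, biprod.inr ≫ Abelian.factorThruImage _,
    inferInstance, ⟨inferInstanceAs (Abelian.image (biprod.desc j j')).IsQuasicoherent,
      isFT_of_epi (Abelian.factorThruImage (biprod.desc j j')) h.2⟩, ?_, ?_⟩ <;>
    simp

end Groth.QCohMod
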