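import Groth.Agent.QCohMod.Category
import Mathlib.AlgebraicGeometry.Morphisms.QuasiSeparated

/-!
# The qcqs lemma for quasi-coherent modules, and direct images
-/

universe u

open CategoryTheory Limits AlgebraicGeometry Opposite TopologicalSpace

namespace Groth.QCohMod

variable {X Y : Scheme.{u}}

lemma basicOpen_resFun {U V : X.Opens} (h : V ≤ U) (f : Γ(X, U)) :
    X.basicOpen (resFun X h f) = V ⊓ X.basicOpen f :=
  X.basicOpen_res f (homOfLE h).op

/-- Glue two sections. -/
lemma exists_glue₂ (M : X.Modules) {S U W : X.Opens} (hS : S ≤ W) (hU : U ≤ W) (hW : W ≤ S ⊔ U)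
    (s : Γ(M, S)) (t : Γ(M, U))
    (h : res M (inf_le_left : S ⊓ U ≤ S) s = res M (inf_le_right : S ⊓ U ≤ U) t) :
    ∃ g : Γ(M, W), res M hS g = s ∧ res M hU g = t := by
  let V : Bool → X.Opens := fun b ↦ bif b then S else U
  let sf : ∀ b, Γ(M, V b) := fun b ↦ by cases b; exacts [t, s]
  have hle : ∀ b, V b ≤ W := by rintro (_ | _) <;> assumption
  obtain ⟨g, hg, -⟩ := TopCat.Sheaf.existsUnique_gluing' ⟨M.presheaf, M.isSheaf⟩ V W
    (fun b ↦ homOfLE (hle b))
    (hW.trans (sup_le (le_iSup V true) (le_iSup V false))) sf (by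
      rintro (_ | _) (_ | _)
      · rfl
      · have := congr(res M (le_inf inf_le_right inf_le_left : U ⊓ S ≤ S ⊓ U) $h)
        rw [res_res, res_res] at this
        exact this.symm
      · exact h
      · rfl)
  exact ⟨g, hg true, hg false⟩

/-- Two sections agreeing on the members of a cover by two opens are equal. -/
lemma eq_of_res_eq₂ (M : X.Modules) {S U W : X.Opens} (hS : S ≤ W) (hU : U ≤ W) (hW : W ≤ S ⊔ U)
    (x y : Γ(M, W)) (h₁ : res M hS x = res M hS y) (h₂ : res M hU x = res M hU y) : x = y :=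
  TopCat.Sheaf.eq_of_locally_eq₂ ⟨M.presheaf, M.isSheaf⟩ (homOfLE hS) (homOfLE hU) hW x y h₁ h₂

lemma subsingleton_bot (M : X.Modules) {W : X.Opens} (hW : W = ⊥) : Subsingleton Γ(M, W) := by
  refine ⟨fun x y ↦ eq_of_res_eq₂ M (S := ⊥) (U := ⊥) bot_le bot_le (by simp [hW]) x y ?_ ?_⟩
  all_goals
    refine TopCat.Sheaf.eq_of_locally_eq' ⟨M.presheaf, M.isSheaf⟩
      (fun e : Empty ↦ e.elim) ⊥ (fun e ↦ e.elim) bot_le _ _ (fun e ↦ e.elim)

variable (M : X.Modules) [M.IsQuasicoherent]

/-- Over a compact open `W`, a section vanishing on `W_f` is killed by a power of `f`. -/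
theorem exists_pow_smul_eq_zero_of_isCompact {W : X.Opens} (hW : IsCompact (W : Set X))
    (f : Γ(X, W)) (t : Γ(M, W)) (ht : res M (X.basicOpen_le f) t = 0) :
    ∃ n : ℕ, f ^ n • t = 0 := by
  revert f t
  refine compact_open_induction_on W hW (fun f t _ ↦ ⟨0, ?_⟩) fun S _ U hS f t ht ↦ ?_
  · exact (subsingleton_bot M rfl).elim _ _
  · obtain ⟨n, hn⟩ := hS (resFun X le_sup_left f) (res M le_sup_left t) (by
      have hle : X.basicOpen (resFun X (le_sup_left : S ≤ S ⊔ U.1) f) ≤ X.basicOpen f := by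
        rw [basicOpen_resFun]; exact inf_le_right
      rw [res_res, ← res_res M (X.basicOpen_le f) hle, ht, map_zero])
    obtain ⟨m, hm⟩ := exists_pow_smul_eq_zero M U.2 (resFun X le_sup_right f)
      (res M le_sup_right t) (by
      have hle : X.basicOpen (resFun X (le_sup_right : U.1 ≤ S ⊔ U.1) f) ≤ X.basicOpen f := by
        rw [basicOpen_resFun]; exact inf_le_right
      rw [res_res, ← res_res M (X.basicOpen_le f) hle, ht, map_zero])
    refine ⟨n + m, eq_of_res_eq₂ M (le_sup_left : S ≤ _) (le_sup_right : U.1 ≤ _) le_rfl _ _ ?_ ?_⟩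
    · rw [res_smul, map_pow, add_comm n, pow_add, mul_smul, hn, smul_zero, map_zero]
    · rw [res_smul, map_pow, pow_add, mul_smul, hm, smul_zero, map_zero]

/-- Over a qcqs open `W`, every section over `W_f` extends after multiplying by a power of `f`. -/
theorem exists_pow_smul_eq_res_of_qcqs {W : X.Opens} (hW : IsCompact (W : Set X))
    (hW' : IsQuasiSeparated (W : Set X)) (f : Γ(X, W)) (s : Γ(M, X.basicOpen f)) :
    ∃ (n : ℕ) (t : Γ(M, W)),
      res M (X.basicOpen_le f) t = resFun X (X.basicOpen_le f) f ^ n • s := by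
  revert hW' f s
  refine compact_open_induction_on W hW (fun _ f s ↦ ⟨0, 0, ?_⟩) fun S hSc U hS hSU f s ↦ ?_
  · exact (subsingleton_bot M (le_bot_iff.mp (X.basicOpen_le f))).elim _ _
  · have hbS : X.basicOpen (resFun X (le_sup_left : S ≤ S ⊔ U.1) f) ≤ X.basicOpen f := by
      rw [basicOpen_resFun]; exact inf_le_right
    have hbU : X.basicOpen (resFun X (le_sup_right : U.1 ≤ S ⊔ U.1) f) ≤ X.basicOpen f := by
      rw [basicOpen_resFun]; exact inf_le_right
    obtain ⟨n₁, t₁, h₁⟩ := hS (hSU.of_subset Set.subset_union_left) (resFun X le_sup_left f)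
      (res M hbS s)
    obtain ⟨n₂, t₂, h₂⟩ := exists_pow_smul_eq_res M U.2 (resFun X le_sup_right f) (res M hbU s)
    -- on the intersection
    have hI : IsCompact ((S ⊓ U.1 : X.Opens) : Set X) :=
      hSU _ _ Set.subset_union_left S.2 hSc Set.subset_union_right U.1.2 U.2.isCompact
    have hle : S ⊓ U.1 ≤ S ⊔ U.1 := inf_le_left.trans le_sup_left
    obtain ⟨m, hm⟩ := exists_pow_smul_eq_zero_of_isCompact M hI (resFun X hle f)
      (resFun X hle f ^ n₂ • res M inf_le_left t₁ - resFun X hle f ^ n₁ • res M inf_le_right t₂) (by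
      have hI₁ : X.basicOpen (resFun X hle f) ≤
          X.basicOpen (resFun X (le_sup_left : S ≤ S ⊔ U.1) f) := by
        rw [basicOpen_resFun, basicOpen_resFun]; exact inf_le_inf_right _ inf_le_left
      have hI₂ : X.basicOpen (resFun X hle f) ≤
          X.basicOpen (resFun X (le_sup_right : U.1 ≤ S ⊔ U.1) f) := by
        rw [basicOpen_resFun, basicOpen_resFun]; exact inf_le_inf_right _ inf_le_right
      have e₁ := congr(res M hI₁ $h₁)
      have e₂ := congr(res M hI₂ $h₂)
      rw [res_res, res_smul, map_pow, resFun_resFun, resFun_resFun, res_res] at e₁ e₂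
      rw [map_sub, res_smul, res_smul, map_pow, map_pow, resFun_resFun, res_res, res_res, e₁, e₂,
        ← mul_smul, ← mul_smul, ← pow_add, ← pow_add, add_comm n₂ n₁, sub_self])
    rw [smul_sub, sub_eq_zero, ← mul_smul, ← mul_smul, ← pow_add, ← pow_add] at hm
    obtain ⟨g, hg₁, hg₂⟩ := exists_glue₂ M (le_sup_left : S ≤ _) (le_sup_right : U.1 ≤ _) le_rfl
      (resFun X le_sup_left f ^ (m + n₂) • t₁) (resFun X le_sup_right f ^ (m + n₁) • t₂) (by
        rw [res_smul, res_smul, map_pow, map_pow, resFun_resFun, resFun_resFun]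
        exact hm)
    refine ⟨m + n₁ + n₂, g, ?_⟩
    refine eq_of_res_eq₂ M hbS hbU ?_ _ _ ?_ ?_
    · rw [basicOpen_resFun, basicOpen_resFun, ← inf_sup_right]
      exact le_inf (X.basicOpen_le f) le_rfl
    · rw [res_res, ← res_res M (le_sup_left : S ≤ S ⊔ U.1) (X.basicOpen_le _), hg₁, res_smul, h₁,
        res_smul, map_pow, map_pow, resFun_resFun, resFun_resFun, ← mul_smul, ← pow_add,
        add_right_comm m n₂ n₁]
    · rw [res_res, ← res_res M (le_sup_right : U.1 ≤ S ⊔ U.1) (X.basicOpen_le _), hg₂, res_smul, h₂,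
        res_smul, map_pow, map_pow, resFun_resFun, resFun_resFun, ← mul_smul, ← pow_add]

/-- Sections of a direct image. -/
noncomputable def pushEquiv (f : X ⟶ Y) (M : X.Modules) (V : Y.Opens) :
    Γ((Scheme.Modules.pushforward f).obj M, V) ≃+ Γ(M, f ⁻¹ᵁ V) :=
  AddEquiv.refl _

lemma pushEquiv_smul (f : X ⟶ Y) (M : X.Modules) {V : Y.Opens} (r : Γ(Y, V))
    (x : Γ((Scheme.Modules.pushforward f).obj M, V)) :
    pushEquiv f M V (r • x) = f.app V r • pushEquiv f M V x := rfl

lemma pushEquiv_res (f : X ⟶ Y) (M : X.Modules) {V W : Y.Opens} (h : W ≤ V)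
    (x : Γ((Scheme.Modules.pushforward f).obj M, V)) :
    pushEquiv f M W (res _ h x) = res M (f.preimage_mono h) (pushEquiv f M V x) := rfl

/-- The direct image of a quasi-coherent module by a qcqs morphism is quasi-coherent. -/
theorem isQCoh_pushforward (f : X ⟶ Y) [QuasiCompact f] [QuasiSeparated f] :
    ((Scheme.Modules.pushforward f).obj M).IsQuasicoherent := by
  have hpre : ∀ {V : Y.Opens}, IsAffineOpen V →
      IsCompact ((f ⁻¹ᵁ V : X.Opens) : Set X) ∧ IsQuasiSeparated ((f ⁻¹ᵁ V : X.Opens) : Set X) :=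
    fun hV ↦ ⟨f.isCompact_preimage hV.isCompact,
      f.isQuasiSeparated_preimage hV.isQuasiSeparated⟩
  have he : ∀ {V : Y.Opens} (g : Γ(Y, V)), X.basicOpen (f.app V g) = f ⁻¹ᵁ Y.basicOpen g :=
    fun g ↦ (f.preimage_basicOpen g).symm
  have hnat : ∀ {V : Y.Opens} (g : Γ(Y, V)),
      resFun X (f.preimage_mono (Y.basicOpen_le g)) (f.app V g) =
        f.app (Y.basicOpen g) (resFun Y (Y.basicOpen_le g) g) := fun g ↦
    congr($((f.naturality (homOfLE (Y.basicOpen_le g)).op).symm) g)
  refine isQCoh_of_forall_affine _ (fun V hV g s ↦ ?_) (fun V hV g t ht ↦ ?_)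
  · obtain ⟨n, t, ht⟩ := exists_pow_smul_eq_res_of_qcqs M (hpre hV).1 (hpre hV).2 (f.app V g)
      (res M (he g).le (pushEquiv f M _ s))
    refine ⟨n, (pushEquiv f M V).symm t, (pushEquiv f M _).injective ?_⟩
    have := congr(res M (he g).ge $ht)
    rw [res_res, res_smul, map_pow, resFun_resFun, res_res, res_self] at this
    rw [pushEquiv_res, AddEquiv.apply_symm_apply, pushEquiv_smul, map_pow, ← hnat]
    exact this
  · obtain ⟨n, hn⟩ := exists_pow_smul_eq_zero_of_isCompact M (hpre hV).1 (f.app V g)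
      (pushEquiv f M V t) (by
      have := congr(res M (he g).le (pushEquiv f M _ $ht))
      rw [pushEquiv_res, res_res, map_zero, map_zero] at this
      exact this)
    refine ⟨n, (pushEquiv f M V).injective ?_⟩
    rw [pushEquiv_smul, map_pow, hn, map_zero]

end Groth.QCohMod
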