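import Groth.Agent.QCohMod.Category
import Groth.Prelude.Def_FlatMod2
import Mathlib.Topology.Sheaves.Abelian
import Mathlib.Topology.Sheaves.Skyscraper

/-!
# Stalks of `O_X`-modules: the stalk functors are exact and detect exactness
-/

universe u v w v' u'

open CategoryTheory Limits AlgebraicGeometry Opposite TopologicalSpace

namespace Groth.QCohMod

section Site

variable {C : Type u'} [Category.{v'} C] {J : GrothendieckTopology C}
  (R : Sheaf J RingCat.{u}) [HasSheafify J AddCommGrpCat.{u}]
  [J.WEqualsLocallyBijective AddCommGrpCat.{u}]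
  (K : Type w) [Category.{v} K] [HasColimitsOfShape K AddCommGrpCat.{u}]

/-- The forgetful functor from sheaves of modules to abelian sheaves preserves colimits. -/
lemma preservesColimitsOfShape_toSheaf :
    PreservesColimitsOfShape K (SheafOfModules.toSheaf.{u} R) where
  preservesColimit {F} := by
    let adj := PresheafOfModules.sheafificationAdjunction.{u} (𝟙 R.obj)
    let F' := F ⋙ SheafOfModules.forget R
    let e : F ≅ F' ⋙ PresheafOfModules.sheafification (𝟙 R.obj) :=
      Functor.isoWhiskerLeft F (asIso adj.counit).symm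
    have : PreservesColimitsOfShape K (presheafToSheaf J AddCommGrpCat.{u}) :=
      (sheafificationAdjunction J AddCommGrpCat.{u}).leftAdjoint_preservesColimits
        |>.preservesColimitsOfShape
    have : PreservesColimit F' (PresheafOfModules.sheafification (𝟙 R.obj)) :=
      adj.leftAdjoint_preservesColimits.preservesColimitsOfShape.preservesColimit
    have : PreservesColimit F' (PresheafOfModules.sheafification (𝟙 R.obj) ⋙
        SheafOfModules.toSheaf R) :=
      preservesColimit_of_natIso F'
        (PresheafOfModules.sheafificationCompToSheaf.{u} (𝟙 R.obj)).symm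
    have : PreservesColimit (F' ⋙ PresheafOfModules.sheafification (𝟙 R.obj))
        (SheafOfModules.toSheaf R) :=
      preservesColimit_of_preserves_colimit_cocone
        (isColimitOfPreserves (PresheafOfModules.sheafification (𝟙 R.obj))
          (colimit.isColimit F'))
        (isColimitOfPreserves (PresheafOfModules.sheafification (𝟙 R.obj) ⋙
          SheafOfModules.toSheaf R) (colimit.isColimit F'))
    exact preservesColimit_of_iso_diagram _ e.symm

end Site

variable {X : Scheme.{u}}

/-- The underlying abelian sheaf functor of `X.Modules`. -/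
noncomputable abbrev toAbFunctor (X : Scheme.{u}) : X.Modules ⥤ TopCat.Sheaf AddCommGrpCat.{u} X :=
  SheafOfModules.toSheaf X.ringCatSheaf

/-- The stalk of a module at a point, as a functor to abelian groups. -/
noncomputable abbrev stalk (x : X) : X.Modules ⥤ AddCommGrpCat.{u} :=
  Scheme.Modules.toPresheaf X ⋙ TopCat.Presheaf.stalkFunctor AddCommGrpCat.{u} x

instance : (toAbFunctor X).ReflectsIsomorphisms :=
  inferInstanceAs (SheafOfModules.toSheaf.{u} X.ringCatSheaf).ReflectsIsomorphisms

instance (x : X) {K : Type w} [Category.{v} K] [HasColimitsOfShape K AddCommGrpCat.{u}] :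
    PreservesColimitsOfShape K (stalk x) := by
  have h₁ : PreservesColimitsOfShape K (toAbFunctor X) :=
    preservesColimitsOfShape_toSheaf X.ringCatSheaf K
  have : PreservesColimitsOfShape K
      (TopCat.Sheaf.forget AddCommGrpCat.{u} X ⋙
        TopCat.Presheaf.stalkFunctor AddCommGrpCat.{u} x) := by
    classical
    exact (stalkSkyscraperSheafAdjunction x).leftAdjoint_preservesColimits.preservesColimitsOfShape
  exact @comp_preservesColimitsOfShape _ _ _ _ _ _ _ _ (toAbFunctor X)
    (TopCat.Sheaf.forget AddCommGrpCat.{u} X ⋙ TopCat.Presheaf.stalkFunctor AddCommGrpCat.{u} x)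
    h₁ this

instance : PreservesFiniteLimits (toAbFunctor X) :=
  inferInstanceAs (PreservesFiniteLimits (SheafOfModules.toSheaf.{u} X.ringCatSheaf))

instance (x : X) : PreservesFiniteLimits (stalk x) :=
  have h₂ : PreservesFiniteLimits (TopCat.Sheaf.forget AddCommGrpCat.{u} X ⋙
      TopCat.Presheaf.stalkFunctor AddCommGrpCat.{u} x) := inferInstance
  @comp_preservesFiniteLimits _ _ _ _ _ _ (toAbFunctor X)
    (TopCat.Sheaf.forget AddCommGrpCat.{u} X ⋙ TopCat.Presheaf.stalkFunctor AddCommGrpCat.{u} x)
    inferInstance h₂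

instance (x : X) : PreservesFiniteColimits (stalk x) where
  preservesFiniteColimits _ _ _ := inferInstance

instance (x : X) : (stalk x).PreservesZeroMorphisms where
  map_zero M N := by
    have : (Scheme.Modules.toPresheaf X).map (0 : M ⟶ N) = 0 := rfl
    rw [Functor.comp_map, this, Functor.map_zero]

instance (x : X) : (stalk x).Additive where
  map_add {M N} {f g} := by
    have : (Scheme.Modules.toPresheaf X).map (f + g) =
      (Scheme.Modules.toPresheaf X).map f + (Scheme.Modules.toPresheaf X).map g := rfl
    rw [Functor.comp_map, this, Functor.map_add]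
    rfl

/-- A morphism that is bijective on all stalks is an isomorphism. -/
theorem isIso_of_stalk {M N : X.Modules} (φ : M ⟶ N) (h : ∀ x, IsIso ((stalk x).map φ)) :
    IsIso φ := by
  have : ∀ x : X, IsIso ((TopCat.Presheaf.stalkFunctor AddCommGrpCat.{u} x).map
      ((toAbFunctor X).map φ).hom) := h
  have := TopCat.Presheaf.isIso_of_stalkFunctor_map_iso ((toAbFunctor X).map φ)
  exact isIso_of_reflects_iso φ (toAbFunctor X)

/-- A module is zero iff all its stalks are zero. -/
theorem isZero_iff_stalk (M : X.Modules) : IsZero M ↔ ∀ x, IsZero ((stalk x).obj M) := by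
  refine ⟨fun h x ↦ (stalk x).map_isZero h, fun h ↦ ?_⟩
  let f : M ⟶ ⊥_ X.Modules := (IsZero.of_iso (isZero_zero _) (HasZeroObject.zeroIsoInitial).symm).from_ M
  have : IsIso f := isIso_of_stalk f fun x ↦ isIso_of_source_target_iso_zero _ (h x).isoZero
    ((stalk x).map_isZero
      (IsZero.of_iso (isZero_zero _) (HasZeroObject.zeroIsoInitial).symm)).isoZero
  exact IsZero.of_iso (IsZero.of_iso (isZero_zero _) (HasZeroObject.zeroIsoInitial).symm) (asIso f)

theorem isZero_iff_support_eq_empty (M : X.Modules) : IsZero M ↔ CohB1.support M = ∅ := by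
  rw [isZero_iff_stalk, Set.eq_empty_iff_forall_notMem]
  refine forall_congr' fun x ↦ ?_
  simp only [CohB1.support, Set.mem_ofPred_eq, not_not]
  exact ⟨fun h ↦ AddCommGrpCat.subsingleton_of_isZero h,
    fun h ↦ @AddCommGrpCat.isZero_of_subsingleton _ h⟩

/-- Exactness of a complex of modules can be checked on stalks. -/
theorem exact_iff_stalk (S : ShortComplex X.Modules) :
    S.Exact ↔ ∀ x, (S.map (stalk x)).Exact := by
  refine ⟨fun h x ↦ h.map (stalk x), fun h ↦ ?_⟩
  rw [ShortComplex.exact_iff_isZero_homology, isZero_iff_stalk]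
  exact fun x ↦ ((ShortComplex.exact_iff_isZero_homology _).mp (h x)).of_iso
    (ShortComplex.mapHomologyIso S (stalk x)).symm

/-- Mono can be checked on stalks. -/
theorem mono_iff_stalk {M N : X.Modules} (φ : M ⟶ N) :
    Mono φ ↔ ∀ x, Function.Injective ((stalk x).map φ) := by
  simp_rw [← AddCommGrpCat.mono_iff_injective]
  refine ⟨fun _ x ↦ inferInstance, fun h ↦ Preadditive.mono_of_kernel_zero ?_⟩
  refine ((isZero_iff_stalk _).mpr fun x ↦ ?_).eq_of_src _ _
  have := h x
  exact (isZero_kernel_of_mono ((stalk x).map φ)).of_iso (PreservesKernel.iso (stalk x) φ)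

/-- Epi can be checked on stalks. -/
theorem epi_iff_stalk {M N : X.Modules} (φ : M ⟶ N) :
    Epi φ ↔ ∀ x, Function.Surjective ((stalk x).map φ) := by
  simp_rw [← AddCommGrpCat.epi_iff_surjective]
  refine ⟨fun _ x ↦ inferInstance, fun h ↦ Preadditive.epi_of_cokernel_zero ?_⟩
  refine ((isZero_iff_stalk _).mpr fun x ↦ ?_).eq_of_tgt _ _
  have := h x
  exact (isZero_cokernel_of_epi ((stalk x).map φ)).of_iso (PreservesCokernel.iso (stalk x) φ)

/-- A morphism surjective on the sections over the members of a cover by opens containing each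
point, up to shrinking, is an epimorphism. -/
theorem epi_of_affine_surjective {M N : X.Modules} (φ : M ⟶ N)
    (h : ∀ U : X.Opens, IsAffineOpen U → Function.Surjective (φ.app U)) : Epi φ := by
  refine (epi_iff_stalk φ).mpr fun x t ↦ ?_
  obtain ⟨V, hxV, s, rfl⟩ := TopCat.Presheaf.exists_germ_eq N.presheaf t
  obtain ⟨_, ⟨U, hU, rfl⟩, hxU, hUV⟩ :=
    X.isBasis_affineOpens.exists_subset_of_mem_open hxV V.2
  obtain ⟨m, hm⟩ := h U hU (res N hUV s)
  refine ⟨M.presheaf.germ U x hxU m, ?_⟩
  erw [TopCat.Presheaf.stalkFunctor_map_germ_apply U x hxU φ.mapPresheaf m]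
  rw [Scheme.Modules.mapPresheaf_app, hm]
  exact TopCat.Presheaf.germ_res_apply N.presheaf (homOfLE hUV) x hxU s

end Groth.QCohMod
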