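import Groth.Agent.QCohMod.Affine
import Groth.Agent.PicAux.Pullback
import Mathlib.LinearAlgebra.TensorProduct.Tower

/-!
# The stalk of an inverse image: `(f^*M)_y = O_{Y,y} ⊗ M_{f y}`
-/

universe u

open CategoryTheory Limits AlgebraicGeometry Opposite TopologicalSpace TensorProduct

namespace Groth.QCohMod

open Groth.PicAux (pullSec pullSec_smul res_pullSec)

variable {X Y : Scheme.{u}}

section Sky

variable (x : X) (N : Type u) [AddCommGroup N] [Module (X.presheaf.stalk x) N]

/-- Sections over `U` of the skyscraper module at `x` with value `N`. -/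
abbrev SkyObj (U : X.Opens) : Type u := PLift.{0} (x ∈ U) → N

/-- Functions act on the skyscraper sections through their germ at `x`. -/
noncomputable instance skyModule (U : X.Opens) : Module Γ(X, U) (SkyObj x N U) where
  smul r s := fun h ↦ X.presheaf.germ U x h.down r • s h
  one_smul s := funext fun h ↦ by
    change X.presheaf.germ U x h.down 1 • s h = s h
    rw [map_one, one_smul]
  mul_smul r r' s := funext fun h ↦ by
    change X.presheaf.germ U x h.down (r * r') • s h = _
    rw [map_mul, mul_smul]; rfl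
  smul_zero r := funext fun h ↦ smul_zero (X.presheaf.germ U x h.down r)
  smul_add r s s' := funext fun h ↦ smul_add (X.presheaf.germ U x h.down r) _ _
  add_smul r r' s := funext fun h ↦ by
    change X.presheaf.germ U x h.down (r + r') • s h = _
    rw [map_add, add_smul]; rfl
  zero_smul s := funext fun h ↦ by
    change X.presheaf.germ U x h.down 0 • s h = _
    rw [map_zero, zero_smul]; rfl

noncomputable instance (U : X.Opensᵒᵖ) :
    Module (X.ringCatSheaf.obj.obj U) (SkyObj x N U.unop) :=
  skyModule x N U.unop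

/-- The skyscraper module at `x`, as a presheaf of modules. -/
noncomputable def skyPre : PresheafOfModules.{u} X.ringCatSheaf.obj where
  obj U := ModuleCat.of _ (SkyObj x N U.unop)
  map {U V} i := ModuleCat.ofHom
      (Y := (ModuleCat.restrictScalars (X.ringCatSheaf.obj.map i).hom).obj
        (ModuleCat.of _ (SkyObj x N V.unop)))
    { toFun := fun s h ↦ s ⟨leOfHom i.unop h.down⟩
      map_add' := fun _ _ ↦ rfl
      map_smul' := fun r s ↦ funext fun h ↦ congrArg (· • s ⟨leOfHom i.unop h.down⟩)
        (TopCat.Presheaf.germ_res_apply X.presheaf i.unop x h.down r).symm }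
  map_id U := by ext; rfl
  map_comp i j := by ext; rfl

lemma skyPre_isSheaf : Presheaf.IsSheaf (Opens.grothendieckTopology X) (skyPre x N).presheaf := by
  change TopCat.Presheaf.IsSheaf (skyPre x N).presheaf
  rw [TopCat.Presheaf.isSheaf_iff_isSheafUniqueGluing]
  intro ι U sf hsf
  classical
  refine ⟨fun h ↦ ?_, fun i ↦ ?_, fun s hs ↦ ?_⟩
  · have hi := Opens.mem_iSup.mp h.down
    exact sf hi.choose ⟨hi.choose_spec⟩
  · funext h
    have hi : ∃ j, x ∈ U j := ⟨i, h.down⟩
    exact (congrFun (hsf i hi.choose) ⟨⟨h.down, hi.choose_spec⟩⟩).symm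
  · funext h
    have hi := Opens.mem_iSup.mp h.down
    exact congrFun (hs hi.choose) ⟨hi.choose_spec⟩

/-- The skyscraper module at `x` with value `N`. -/
noncomputable def sky : X.Modules where
  val := skyPre x N
  isSheaf := skyPre_isSheaf x N

variable {x N}

/-- A compatible, semilinear family of maps to `N` gives a morphism to the skyscraper module. -/
noncomputable def toSky (M : X.Modules) (t : ∀ (U : X.Opens), x ∈ U → (Γ(M, U) →+ N))
    (hres : ∀ (U V : X.Opens) (h : V ≤ U) (hx : x ∈ V) (m : Γ(M, U)),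
      t V hx (res M h m) = t U (h hx) m)
    (hsmul : ∀ (U : X.Opens) (hx : x ∈ U) (r : Γ(X, U)) (m : Γ(M, U)),
      t U hx (r • m) = X.presheaf.germ U x hx r • t U hx m) : M ⟶ sky x N :=
  ⟨{ app := fun U ↦ ModuleCat.ofHom (X := M.val.obj U) (Y := SkyObj x N U.unop)
      { toFun := fun m h ↦ t U.unop h.down m
        map_add' := fun m m' ↦ funext fun h ↦ (t U.unop h.down).map_add m m'
        map_smul' := fun r m ↦ funext fun h ↦ hsmul U.unop h.down r m }
     naturality := fun {U V} i ↦ by
      ext m
      exact funext fun h ↦ hres U.unop V.unop (leOfHom i.unop) h.down m }⟩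

/-- The map on stalks of a morphism to a skyscraper module. -/
noncomputable def fromSky {M : X.Modules} (φ : M ⟶ sky x N) : M.presheaf.stalk x →+ N :=
  (colimit.desc ((OpenNhds.inclusion x).op ⋙ M.presheaf)
    { pt := AddCommGrpCat.of N
      ι :=
      { app := fun U ↦ AddCommGrpCat.ofHom
          { toFun := fun m ↦ (φ.app U.unop.1 m : SkyObj x N U.unop.1) ⟨U.unop.2⟩
            map_zero' := congrFun ((φ.app U.unop.1).hom.map_zero) _
            map_add' := fun m m' ↦ congrFun ((φ.app U.unop.1).hom.map_add m m') _ }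
        naturality := fun U V i ↦ by
          ext m
          exact congrFun (res_app φ (leOfHom ((OpenNhds.inclusion x).map i.unop)) m).symm
            ⟨V.unop.2⟩ } }).hom

lemma fromSky_germ {M : X.Modules} (φ : M ⟶ sky x N) {U : X.Opens} (hx : x ∈ U) (m : Γ(M, U)) :
    fromSky φ (germ M x hx m) = (φ.app U m : SkyObj x N U) ⟨hx⟩ :=
  ConcreteCategory.congr_hom (colimit.ι_desc
    (F := (OpenNhds.inclusion x).op ⋙ M.presheaf) _ (op ⟨U, hx⟩)) m

lemma fromSky_smul {M : X.Modules} (φ : M ⟶ sky x N) (r : X.presheaf.stalk x)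
    (t : M.presheaf.stalk x) : fromSky φ (r • t) = r • fromSky φ t := by
  obtain ⟨U, hxU, r, rfl⟩ := TopCat.Presheaf.exists_germ_eq X.presheaf r
  obtain ⟨V, hxV, m, rfl⟩ := exists_germ M x t
  have hxW : x ∈ U ⊓ V := ⟨hxU, hxV⟩
  rw [← TopCat.Presheaf.germ_res_apply X.presheaf (homOfLE (inf_le_left : U ⊓ V ≤ U)) x hxW r,
    ← germ_res M (inf_le_right : U ⊓ V ≤ V) x hxW m, ← germ_smul, fromSky_germ, fromSky_germ,
    Scheme.Modules.Hom.app_smul]
  rfl

end Sky

section PullbackStalk

variable (f : Y ⟶ X) (M : X.Modules) (y : Y)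

/-- The algebra structure `O_{X, f y} → O_{Y, y}`. -/
@[reducible]
noncomputable def stalkAlg : Algebra (X.presheaf.stalk (f y)) (Y.presheaf.stalk y) :=
  (f.stalkMap y).hom.toAlgebra

/-- `M_{f y} → (f^*M)_y`. -/
noncomputable def pullGerm :
    M.presheaf.stalk (f y) →+ ((Scheme.Modules.pullback f).obj M).presheaf.stalk y :=
  (colimit.desc ((OpenNhds.inclusion (f y)).op ⋙ M.presheaf)
    { pt := AddCommGrpCat.of (((Scheme.Modules.pullback f).obj M).presheaf.stalk y)
      ι :=
      { app := fun U ↦ AddCommGrpCat.ofHom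
          ((germ ((Scheme.Modules.pullback f).obj M) (U := f ⁻¹ᵁ U.unop.1) y U.unop.2).comp
            (((Scheme.Modules.pullbackPushforwardAdjunction f).unit.app M).app U.unop.1).hom)
        naturality := fun U V i ↦ by
          ext m
          refine Eq.trans ?_ (germ_res _ (f.preimage_mono
            (leOfHom ((OpenNhds.inclusion (f y)).map i.unop))) y V.unop.2 _)
          exact congrArg _ (res_pullSec f M
            (leOfHom ((OpenNhds.inclusion (f y)).map i.unop)) m).symm } }).hom

lemma pullGerm_germ {U : X.Opens} (hy : f y ∈ U) (m : Γ(M, U)) :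
    pullGerm f M y (germ M (f y) hy m) =
      germ ((Scheme.Modules.pullback f).obj M) (U := f ⁻¹ᵁ U) y hy (pullSec f M m) :=
  ConcreteCategory.congr_hom (colimit.ι_desc
    (F := (OpenNhds.inclusion (f y)).op ⋙ M.presheaf) _ (op ⟨U, hy⟩)) m

lemma pullGerm_smul (r : X.presheaf.stalk (f y)) (t : M.presheaf.stalk (f y)) :
    pullGerm f M y (r • t) = f.stalkMap y r • pullGerm f M y t := by
  obtain ⟨U, hU, r, rfl⟩ := TopCat.Presheaf.exists_germ_eq X.presheaf r
  obtain ⟨V, hV, m, rfl⟩ := exists_germ M (f y) t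
  have hW : f y ∈ U ⊓ V := ⟨hU, hV⟩
  rw [← TopCat.Presheaf.germ_res_apply X.presheaf (homOfLE (inf_le_left : U ⊓ V ≤ U)) (f y) hW r,
    ← germ_res M (inf_le_right : U ⊓ V ≤ V) (f y) hW m, ← germ_smul, pullGerm_germ, pullGerm_germ,
    pullSec_smul]
  erw [germ_smul]
  congr 1
  exact (Scheme.Hom.germ_stalkMap_apply f (U ⊓ V) y hW _).symm

/-- `O_{Y,y} ⊗ M_{f y} → (f^*M)_y`. -/
noncomputable def pullStalkHom :
    letI := stalkAlg f y
    Y.presheaf.stalk y ⊗[X.presheaf.stalk (f y)] M.presheaf.stalk (f y) →ₗ[Y.presheaf.stalk y]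
      ((Scheme.Modules.pullback f).obj M).presheaf.stalk y :=
  letI := stalkAlg f y
  letI : Module (X.presheaf.stalk (f y)) (((Scheme.Modules.pullback f).obj M).presheaf.stalk y) :=
    Module.compHom _ (f.stalkMap y).hom
  haveI : IsScalarTower (X.presheaf.stalk (f y)) (Y.presheaf.stalk y)
      (((Scheme.Modules.pullback f).obj M).presheaf.stalk y) :=
    IsScalarTower.of_algebraMap_smul fun _ _ ↦ rfl
  LinearMap.liftBaseChange (Y.presheaf.stalk y)
    ({ toFun := pullGerm f M y
       map_add' := map_add _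
       map_smul' := pullGerm_smul f M y } : M.presheaf.stalk (f y) →ₗ[X.presheaf.stalk (f y)]
        ((Scheme.Modules.pullback f).obj M).presheaf.stalk y)

lemma pullStalkHom_tmul (b : Y.presheaf.stalk y) (t : M.presheaf.stalk (f y)) :
    letI := stalkAlg f y
    pullStalkHom f M y (b ⊗ₜ t) = b • pullGerm f M y t :=
  rfl

/-- The stalk of the inverse image. -/
theorem pullStalkHom_bijective : Function.Bijective (pullStalkHom f M y) := by
  let _ := stalkAlg f y
  set P := (Scheme.Modules.pullback f).obj M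
  let N := Y.presheaf.stalk y ⊗[X.presheaf.stalk (f y)] M.presheaf.stalk (f y)
  let adj := Scheme.Modules.pullbackPushforwardAdjunction f
  let T : M ⟶ (Scheme.Modules.pushforward f).obj (sky y N) :=
    ⟨{ app := fun U ↦ ModuleCat.ofHom (X := M.val.obj U)
          (Y := (((Scheme.Modules.pushforward f).obj (sky y N)).val.obj U))
        { toFun := fun m (h : PLift.{0} (f y ∈ U.unop)) ↦
            ((1 : Y.presheaf.stalk y) ⊗ₜ germ M (f y) h.down m : N)
          map_add' := fun m m' ↦ funext fun (h : PLift.{0} (f y ∈ U.unop)) ↦ by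
            show (1 : Y.presheaf.stalk y) ⊗ₜ[X.presheaf.stalk (f y)] germ M (f y) h.down (m + m') = _
            erw [map_add, tmul_add]; rfl
          map_smul' := fun r m ↦ funext fun (h : PLift.{0} (f y ∈ U.unop)) ↦ by
            show (1 : Y.presheaf.stalk y) ⊗ₜ[X.presheaf.stalk (f y)] germ M (f y) h.down (r • m) =
              Y.presheaf.germ (f ⁻¹ᵁ U.unop) y h.down (f.app U.unop r) •
                ((1 : Y.presheaf.stalk y) ⊗ₜ[X.presheaf.stalk (f y)] germ M (f y) h.down m)
            erw [germ_smul, tmul_smul, ← algebraMap_smul (Y.presheaf.stalk y)]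
            congr 1
            exact Scheme.Hom.germ_stalkMap_apply f U.unop y h.down r }
       naturality := fun {U V} i ↦ by
        ext m
        exact funext fun (h : PLift.{0} (f y ∈ V.unop)) ↦
          congrArg (fun z ↦ (1 : Y.presheaf.stalk y) ⊗ₜ[X.presheaf.stalk (f y)] z)
            (germ_res M (leOfHom i.unop) (f y) h.down m) }⟩
  let φ : P ⟶ sky y N := (adj.homEquiv M (sky y N)).symm T
  have hφ : ∀ {U : X.Opens} (hy : f y ∈ U) (m : Γ(M, U)),
      fromSky φ (pullGerm f M y (germ M (f y) hy m)) = 1 ⊗ₜ germ M (f y) hy m := by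
    intro U hy m
    rw [pullGerm_germ]
    refine (fromSky_germ φ (U := f ⁻¹ᵁ U) hy _).trans ?_
    have h : adj.unit.app M ≫ (Scheme.Modules.pushforward f).map φ = T := by
      exact ((adj.homEquiv_unit M (sky y N) φ).symm).trans
        ((adj.homEquiv M (sky y N)).apply_symm_apply T)
    exact congrFun congr(($h).app U m) ⟨hy⟩
  have hleft : ∀ z, fromSky φ (pullStalkHom f M y z) = z := by
    intro z
    induction z using TensorProduct.induction_on with
    | zero => simp
    | tmul b t =>
      obtain ⟨U, hy, m, rfl⟩ := exists_germ M (f y) t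
      rw [pullStalkHom_tmul, fromSky_smul, hφ, smul_tmul', smul_eq_mul, mul_one]
    | add p q hp hq => simp [hp, hq]
  refine ⟨Function.LeftInverse.injective hleft, fun s ↦ ⟨fromSky φ s, ?_⟩⟩
  let g₁ : P ⟶ sky y (P.presheaf.stalk y) := toSky P (fun U hy ↦ germ P y hy)
    (fun U V h hy m ↦ germ_res P h y hy m) (fun U hy r m ↦ germ_smul P y hy r m)
  let g₂ : P ⟶ sky y (P.presheaf.stalk y) := toSky P
    (fun U hy ↦ (pullStalkHom f M y).toAddMonoidHom.comp ((fromSky φ).comp (germ P y hy)))
    (fun U V h hy m ↦ by simp [germ_res P h y hy m])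
    (fun U hy r m ↦ by simp [germ_smul P y hy r m, fromSky_smul])
  have hg : g₁ = g₂ := by
    apply (adj.homEquiv M _).injective
    rw [adj.homEquiv_unit, adj.homEquiv_unit]
    ext U : 1
    refine AddCommGrpCat.hom_ext (AddMonoidHom.ext fun m ↦
      funext fun (h : PLift.{0} (f y ∈ U)) ↦ ?_)
    show germ P y h.down (pullSec f M m) =
      pullStalkHom f M y (fromSky φ (germ P y h.down (pullSec f M m)))
    rw [← pullGerm_germ, hφ, pullStalkHom_tmul, one_smul]
  obtain ⟨V, hy, p, rfl⟩ := exists_germ P y s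
  exact (congrFun congr(($hg).app V p) ⟨hy⟩).symm

/-- The stalk of the inverse image, as a linear equivalence. -/
noncomputable def pullStalkEquiv :
    letI := stalkAlg f y
    Y.presheaf.stalk y ⊗[X.presheaf.stalk (f y)] M.presheaf.stalk (f y) ≃ₗ[Y.presheaf.stalk y]
      ((Scheme.Modules.pullback f).obj M).presheaf.stalk y :=
  letI := stalkAlg f y
  LinearEquiv.ofBijective (pullStalkHom f M y) (pullStalkHom_bijective f M y)

end PullbackStalk

end Groth.QCohMod
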