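import Groth.Agent.QCohMod.FTCriterion
import Groth.Agent.PicAux.Tensor
import Groth.Prelude.Def_SecTwist

/-!
# The stalks of a tensor product of `O_X`-modules
-/

universe u

open CategoryTheory Limits AlgebraicGeometry Opposite TopologicalSpace TensorProduct

namespace Groth.QCohMod

open Groth.PicAux (PTen ptenRes ptenUnit tmulSec)

variable {X : Scheme.{u}} {M N : X.Modules}

lemma res_tmulSec {U V : X.Opens} (h : V ≤ U) (a : Γ(M, U)) (b : Γ(N, U)) :
    res (CohB1.tensorMod M N) h (tmulSec a b) = tmulSec (res M h a) (res N h b) :=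
  Groth.PicAux.res_tmulSec h a b

lemma secTwist_tmul_eq {U : X.Opens} (a : Γ(M, U)) (b : Γ(N, U)) :
    SecTwist.tmul M N U a b = tmulSec a b := rfl

lemma exists_common_germ (x : X) (s : M.presheaf.stalk x) (t : N.presheaf.stalk x) :
    ∃ (W : X.Opens) (hx : x ∈ W) (a : Γ(M, W)) (b : Γ(N, W)),
      germ M x hx a = s ∧ germ N x hx b = t := by
  obtain ⟨U, hU, a, rfl⟩ := exists_germ M x s
  obtain ⟨V, hV, b, rfl⟩ := exists_germ N x t
  exact ⟨U ⊓ V, ⟨hU, hV⟩, res M inf_le_left a, res N inf_le_right b, germ_res _ _ _ _ _,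
    germ_res _ _ _ _ _⟩

lemma exists_res_eq_of_germ_eq {P : X.Modules} (x : X) {U V : X.Opens} (hU : x ∈ U) (hV : x ∈ V)
    (a : Γ(P, U)) (b : Γ(P, V)) (h : germ P x hU a = germ P x hV b) :
    ∃ (W : X.Opens) (_ : x ∈ W) (h₁ : W ≤ U) (h₂ : W ≤ V), res P h₁ a = res P h₂ b := by
  obtain ⟨W, hW, i, j, e⟩ := TopCat.Presheaf.germ_eq P.presheaf x hU hV a b h
  exact ⟨W, hW, i.le, j.le, e⟩

lemma germ_tmulSec_congr (x : X) {U V : X.Opens} (hU : x ∈ U) (hV : x ∈ V) (a : Γ(M, U))
    (b : Γ(N, U)) (a' : Γ(M, V)) (b' : Γ(N, V)) (ha : germ M x hU a = germ M x hV a')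
    (hb : germ N x hU b = germ N x hV b') :
    germ (CohB1.tensorMod M N) x hU (tmulSec a b) =
      germ (CohB1.tensorMod M N) x hV (tmulSec a' b') := by
  obtain ⟨W₁, hW₁, i₁, j₁, e₁⟩ := exists_res_eq_of_germ_eq x hU hV _ _ ha
  obtain ⟨W₂, hW₂, i₂, j₂, e₂⟩ := exists_res_eq_of_germ_eq x hU hV _ _ hb
  have hW : x ∈ W₁ ⊓ W₂ := ⟨hW₁, hW₂⟩
  rw [← germ_res _ (inf_le_left.trans i₁ : W₁ ⊓ W₂ ≤ U) x hW (tmulSec a b),
    ← germ_res _ (inf_le_left.trans j₁ : W₁ ⊓ W₂ ≤ V) x hW (tmulSec a' b'), res_tmulSec,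
    res_tmulSec]
  congr 2
  · rw [← res_res M i₁ (inf_le_left : W₁ ⊓ W₂ ≤ W₁), ← res_res M j₁ (inf_le_left : W₁ ⊓ W₂ ≤ W₁),
      e₁]
  · rw [← res_res N i₂ (inf_le_right : W₁ ⊓ W₂ ≤ W₂), ← res_res N j₂ (inf_le_right : W₁ ⊓ W₂ ≤ W₂),
      e₂]

/-- `germ a ⊗ germ b ↦ germ (a ⊗ b)`, as a function. -/
noncomputable def stalkMul (x : X) (s : M.presheaf.stalk x) (t : N.presheaf.stalk x) :
    (CohB1.tensorMod M N).presheaf.stalk x :=
  germ (CohB1.tensorMod M N) x (exists_common_germ x s t).choose_spec.choose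
    (tmulSec (exists_common_germ x s t).choose_spec.choose_spec.choose
      (exists_common_germ x s t).choose_spec.choose_spec.choose_spec.choose)

lemma stalkMul_germ (x : X) {W : X.Opens} (hx : x ∈ W) (a : Γ(M, W)) (b : Γ(N, W)) :
    stalkMul x (germ M x hx a) (germ N x hx b) = germ (CohB1.tensorMod M N) x hx (tmulSec a b) := by
  obtain ⟨ha, hb⟩ := (exists_common_germ x (germ M x hx a) (germ N x hx b)).choose_spec.choose_spec.choose_spec.choose_spec
  exact germ_tmulSec_congr x _ hx _ _ a b ha hb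

lemma stalkMul_add_left (x : X) (s s' : M.presheaf.stalk x) (t : N.presheaf.stalk x) :
    stalkMul x (s + s') t = stalkMul x s t + stalkMul x s' t := by
  obtain ⟨U, hU, a, a', rfl, rfl⟩ := exists_common_germ (M := M) (N := M) x s s'
  obtain ⟨V, hV, b, rfl⟩ := exists_germ N x t
  have hW : x ∈ U ⊓ V := ⟨hU, hV⟩
  rw [← germ_res M (inf_le_left : U ⊓ V ≤ U) x hW a, ← germ_res M (inf_le_left : U ⊓ V ≤ U) x hW a',
    ← germ_res N (inf_le_right : U ⊓ V ≤ V) x hW b, ← map_add, stalkMul_germ, stalkMul_germ,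
    stalkMul_germ, ← map_add]
  simp only [tmulSec, add_tmul, map_add]

lemma stalkMul_add_right (x : X) (s : M.presheaf.stalk x) (t t' : N.presheaf.stalk x) :
    stalkMul x s (t + t') = stalkMul x s t + stalkMul x s t' := by
  obtain ⟨U, hU, b, b', rfl, rfl⟩ := exists_common_germ (M := N) (N := N) x t t'
  obtain ⟨V, hV, a, rfl⟩ := exists_germ M x s
  have hW : x ∈ U ⊓ V := ⟨hU, hV⟩
  rw [← germ_res N (inf_le_left : U ⊓ V ≤ U) x hW b, ← germ_res N (inf_le_left : U ⊓ V ≤ U) x hW b',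
    ← germ_res M (inf_le_right : U ⊓ V ≤ V) x hW a, ← map_add, stalkMul_germ, stalkMul_germ,
    stalkMul_germ, ← map_add]
  simp only [tmulSec, tmul_add, map_add]

lemma exists_common_germ₃ (x : X) (r : X.presheaf.stalk x) (s : M.presheaf.stalk x)
    (t : N.presheaf.stalk x) : ∃ (W : X.Opens) (hx : x ∈ W) (c : Γ(X, W)) (a : Γ(M, W))
      (b : Γ(N, W)), X.presheaf.germ W x hx c = r ∧ germ M x hx a = s ∧ germ N x hx b = t := by
  obtain ⟨U, hU, a, b, rfl, rfl⟩ := exists_common_germ x s t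
  obtain ⟨V, hV, c, rfl⟩ := TopCat.Presheaf.exists_germ_eq X.presheaf r
  exact ⟨U ⊓ V, ⟨hU, hV⟩, resFun X inf_le_right c, res M inf_le_left a, res N inf_le_left b,
    TopCat.Presheaf.germ_res_apply X.presheaf (homOfLE inf_le_right) x ⟨hU, hV⟩ c,
    germ_res _ _ _ _ _, germ_res _ _ _ _ _⟩

lemma stalkMul_smul_left (x : X) (r : X.presheaf.stalk x) (s : M.presheaf.stalk x)
    (t : N.presheaf.stalk x) : stalkMul x (r • s) t = r • stalkMul x s t := by
  obtain ⟨W, hW, c, a, b, rfl, rfl, rfl⟩ := exists_common_germ₃ x r s t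
  rw [← germ_smul, stalkMul_germ, stalkMul_germ, Groth.PicAux.tmulSec_smul_left, germ_smul]

lemma stalkMul_smul_right (x : X) (r : X.presheaf.stalk x) (s : M.presheaf.stalk x)
    (t : N.presheaf.stalk x) : stalkMul x s (r • t) = r • stalkMul x s t := by
  obtain ⟨W, hW, c, a, b, rfl, rfl, rfl⟩ := exists_common_germ₃ x r s t
  rw [← germ_smul, stalkMul_germ, stalkMul_germ, Groth.PicAux.tmulSec_smul_right, germ_smul]

variable (M N)

/-- The comparison map `M_x ⊗ N_x → (M ⊗ N)_x`. -/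
noncomputable def stalkTensorHom (x : X) :
    M.presheaf.stalk x ⊗[X.presheaf.stalk x] N.presheaf.stalk x →ₗ[X.presheaf.stalk x]
      (CohB1.tensorMod M N).presheaf.stalk x :=
  TensorProduct.lift (LinearMap.mk₂ _ (stalkMul x) (stalkMul_add_left x) (stalkMul_smul_left x)
    (stalkMul_add_right x) (stalkMul_smul_right x))

lemma stalkTensorHom_tmul (x : X) {W : X.Opens} (hx : x ∈ W) (a : Γ(M, W)) (b : Γ(N, W)) :
    stalkTensorHom M N x (germ M x hx a ⊗ₜ germ N x hx b) =
      germ (CohB1.tensorMod M N) x hx (tmulSec a b) :=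
  stalkMul_germ x hx a b

/-- The presheaf tensor product maps to the tensor product of the stalks. -/
noncomputable def preGerm (x : X) {W : X.Opens} (hx : x ∈ W) :
    PTen M N W →+ M.presheaf.stalk x ⊗[X.presheaf.stalk x] N.presheaf.stalk x :=
  TensorProduct.liftAddHom
    { toFun := fun a ↦
        { toFun := fun b ↦ germ M x hx a ⊗ₜ germ N x hx b
          map_zero' := by simp
          map_add' := fun b b' ↦ by simp [tmul_add] }
      map_zero' := by ext b; simp
      map_add' := fun a a' ↦ by ext b; simp [add_tmul] }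
    (fun r a b ↦ by simp [germ_smul, smul_tmul])

lemma preGerm_tmul (x : X) {W : X.Opens} (hx : x ∈ W) (a : Γ(M, W)) (b : Γ(N, W)) :
    preGerm M N x hx (a ⊗ₜ b) = germ M x hx a ⊗ₜ germ N x hx b := rfl

lemma preGerm_res (x : X) {W W' : X.Opens} (h : W' ≤ W) (hx : x ∈ W') (p : PTen M N W) :
    preGerm M N x hx (ptenRes M N h p) = preGerm M N x (h hx) p := by
  induction p using TensorProduct.induction_on with
  | zero => simp
  | tmul a b =>
    rw [Groth.PicAux.ptenRes_tmul, preGerm_tmul, preGerm_tmul]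
    congr 1 <;> exact germ_res _ h x hx _
  | add p q hp hq => simp [hp, hq]

lemma exists_preGerm_eq (x : X) (z : M.presheaf.stalk x ⊗[X.presheaf.stalk x] N.presheaf.stalk x) :
    ∃ (W : X.Opens) (hx : x ∈ W) (p : PTen M N W), preGerm M N x hx p = z := by
  induction z using TensorProduct.induction_on with
  | zero => exact ⟨⊤, trivial, 0, map_zero _⟩
  | tmul s t =>
    obtain ⟨W, hW, a, b, rfl, rfl⟩ := exists_common_germ x s t
    exact ⟨W, hW, a ⊗ₜ b, rfl⟩
  | add z w hz hw =>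
    obtain ⟨U, hU, p, rfl⟩ := hz
    obtain ⟨V, hV, q, rfl⟩ := hw
    exact ⟨U ⊓ V, (⟨hU, hV⟩ : x ∈ U ⊓ V), ptenRes M N inf_le_left p + ptenRes M N inf_le_right q, by
      rw [map_add]
      erw [preGerm_res M N x (inf_le_left : U ⊓ V ≤ U), preGerm_res M N x (inf_le_right : U ⊓ V ≤ V)]⟩

lemma stalkTensorHom_preGerm (x : X) {W : X.Opens} (hx : x ∈ W) (p : PTen M N W) :
    stalkTensorHom M N x (preGerm M N x hx p) =
      germ (CohB1.tensorMod M N) x hx (ptenUnit M N W p) := by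
  induction p using TensorProduct.induction_on with
  | zero => simp
  | tmul a b => exact stalkTensorHom_tmul M N x hx a b
  | add p q hp hq => simp [hp, hq]

theorem stalkTensorHom_bijective (x : X) : Function.Bijective (stalkTensorHom M N x) := by
  refine ⟨(injective_iff_map_eq_zero _).mpr fun z hz ↦ ?_, fun t ↦ ?_⟩
  · obtain ⟨W, hx, p, rfl⟩ := exists_preGerm_eq M N x z
    rw [stalkTensorHom_preGerm, ← map_zero (germ (CohB1.tensorMod M N) x hx)] at hz
    obtain ⟨W', hxW', h, h', e⟩ := exists_res_eq_of_germ_eq x hx hx _ _ hz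
    rw [map_zero] at e
    obtain ⟨W'', h'', hx'', e'⟩ := Groth.PicAux.ptenUnit_locally_injective M N W'
      (ptenRes M N h p) 0 (by rw [Groth.PicAux.ptenUnit_res, map_zero]; exact e) x hxW'
    rw [← preGerm_res M N x h hxW', ← preGerm_res M N x h'' hx'', e', map_zero, map_zero]
  · obtain ⟨W, hx, s, rfl⟩ := exists_germ _ x t
    obtain ⟨W', h, p, hxW', hp⟩ := Groth.PicAux.ptenUnit_locally_surjective M N W s x hx
    exact ⟨preGerm M N x hxW' p, by
      rw [stalkTensorHom_preGerm, hp]; exact germ_res _ h x hxW' s⟩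

/-- The stalk of a tensor product is the tensor product of the stalks. -/
noncomputable def stalkTensorEquiv (x : X) :
    M.presheaf.stalk x ⊗[X.presheaf.stalk x] N.presheaf.stalk x ≃ₗ[X.presheaf.stalk x]
      (CohB1.tensorMod M N).presheaf.stalk x :=
  LinearEquiv.ofBijective (stalkTensorHom M N x) (stalkTensorHom_bijective M N x)

lemma stalkTensorEquiv_tmul (x : X) {W : X.Opens} (hx : x ∈ W) (a : Γ(M, W)) (b : Γ(N, W)) :
    stalkTensorEquiv M N x (germ M x hx a ⊗ₜ germ N x hx b) =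
      germ (CohB1.tensorMod M N) x hx (tmulSec a b) :=
  stalkTensorHom_tmul M N x hx a b

end Groth.QCohMod
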