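import Groth.Agent.QCohMod.ExtendFT
import Mathlib.Topology.NoetherianSpace
import Mathlib.SetTheory.Cardinal.Order

/-!
# Covers along which submodules of finite type extend
-/

universe u

open CategoryTheory Limits AlgebraicGeometry Opposite TopologicalSpace

namespace Groth.QCohMod

variable {X : Scheme.{u}}

lemma isCompact_inter_of_quasiCompact {U V : X.Opens} [QuasiCompact U.ι] (hV : IsAffineOpen V) :
    IsCompact ((V : Set X) ∩ U) := by
  have h := (U.ι.isCompact_preimage hV.isCompact).image U.ι.continuous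
  have e : U.ι '' ((U.ι ⁻¹ᵁ V : (U : Scheme.{u}).Opens) : Set _) = (V : Set X) ∩ U := by
    rw [Scheme.Hom.coe_preimage, Set.image_preimage_eq_inter_range, Scheme.Opens.range_ι]
  rwa [e] at h

/-- A locally Noetherian space: open subsets of affine opens are quasi-compact. -/
lemma isCompact_inter_of_locallyNoetherianSpace
    (hX : ∀ x : X, ∃ U : X.Opens, x ∈ U ∧ NoetherianSpace (U : Set X))
    {V : X.Opens} (hV : IsAffineOpen V) {W : Set X} (hW : IsOpen W) :
    IsCompact ((V : Set X) ∩ W) := by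
  choose N hxN hN using hX
  obtain ⟨T, hT⟩ := hV.isCompact.elim_finite_subcover (fun x : X => (N x : Set X))
    (fun x => (N x).2) (fun x _ => Set.mem_iUnion.mpr ⟨x, hxN x⟩)
  have e : (V : Set X) ∩ W = ⋃ x ∈ T, (N x : Set X) ∩ ((V : Set X) ∩ W) := by
    rw [← Set.iUnion₂_inter, eq_comm, Set.inter_eq_right]
    exact Set.inter_subset_left.trans hT
  rw [e]
  refine T.finite_toSet.isCompact_biUnion fun x _ => ?_
  have := hN x
  have hc : IsCompact ((Subtype.val : ((N x : Set X) : Type u) → X) ⁻¹' ((V : Set X) ∩ W)) :=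
    NoetherianSpace.isCompact _
  have h := hc.image continuous_subtype_val
  rwa [Subtype.image_preimage_coe] at h

/-- A well-ordered affine cover suitable for extensions on a locally Noetherian space. -/
lemma exists_wellOrdered_cover
    (hX : ∀ x : X, ∃ U : X.Opens, x ∈ U ∧ NoetherianSpace (U : Set X)) :
    ∃ (L : Type u) (_ : LinearOrder L) (_ : WellFoundedLT L) (V : L → X.Opens),
      (∀ l, IsAffineOpen (V l)) ∧ (⨆ l, V l = ⊤) ∧
      (∀ l, IsCompact ((V l : Set X) ∩ ⋃ m ∈ Set.Iio l, (V m : Set X))) ∧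
      ∀ (U : X.Opens) l, IsCompact ((V l : Set X) ∩ U) := by
  classical
  choose V hV hxV using fun x : X => exists_affine_mem x
  let r := @WellOrderingRel (X : Type u)
  let o : LinearOrder (X : Type u) := linearOrderOfSTO r
  have : @WellFoundedLT (X : Type u) o.toLT := ⟨(IsWellFounded.wf : WellFounded r)⟩
  exact ⟨(X : Type u), o, this, V, hV,
    top_le_iff.mp fun x _ => Opens.mem_iSup.mpr ⟨x, hxV x⟩,
    fun l => isCompact_inter_of_locallyNoetherianSpace hX (hV l)
      (isOpen_biUnion fun m _ => (V m).2),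
    fun U l => isCompact_inter_of_locallyNoetherianSpace hX (hV l) U.2⟩

/-- A finite affine cover suitable for extensions on a qcqs scheme. -/
lemma exists_finite_cover [CompactSpace X] [QuasiSeparatedSpace X] :
    ∃ (n : ℕ) (V : Fin n → X.Opens),
      (∀ l, IsAffineOpen (V l)) ∧ (⨆ l, V l = ⊤) ∧
      (∀ l, IsCompact ((V l : Set X) ∩ ⋃ m ∈ Set.Iio l, (V m : Set X))) ∧
      ∀ (U : X.Opens), IsCompact (U : Set X) → ∀ l, IsCompact ((V l : Set X) ∩ U) := by
  choose V hV hxV using fun x : X => exists_affine_mem x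
  obtain ⟨T, hT⟩ := CompactSpace.isCompact_univ.elim_finite_subcover (fun x : X => (V x : Set X))
    (fun x => (V x).2) (fun x _ => Set.mem_iUnion.mpr ⟨x, hxV x⟩)
  let e := T.equivFin
  refine ⟨T.card, fun l => V (e.symm l).1, fun l => hV _, top_le_iff.mp fun x _ => ?_, fun l => ?_,
    fun U hU l => QuasiSeparatedSpace.inter_isCompact _ _ (V _).2 (hV _).isCompact U.2 hU⟩
  · obtain ⟨y, hy, hxy⟩ := Set.mem_iUnion₂.mp (hT (Set.mem_univ x))
    exact Opens.mem_iSup.mpr ⟨e ⟨y, hy⟩, by simpa using hxy⟩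
  · exact QuasiSeparatedSpace.inter_isCompact _ _ (V _).2 (hV _).isCompact
      (isOpen_biUnion fun m _ => (V _).2)
      ((Set.finite_Iio l).isCompact_biUnion fun m _ => (hV _).isCompact)

end Groth.QCohMod
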