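import Groth.Agent.QCohMod.Local
import Mathlib.CategoryTheory.Abelian.Exact
import Mathlib.Algebra.Homology.ShortComplex.Ab

/-!
# Closure properties of quasi-coherent modules; sections on affine opens are exact
-/

universe u v w

open CategoryTheory Limits AlgebraicGeometry Opposite TopologicalSpace

namespace Groth.QCohMod

variable {X Y : Scheme.{u}}

lemma exists_affine_mem (x : X) : ∃ U : X.Opens, IsAffineOpen U ∧ x ∈ U := by
  obtain ⟨_, ⟨U, hU, rfl⟩, hx, -⟩ := X.isBasis_affineOpens.exists_subset_of_mem_open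
    (Set.mem_univ x) isOpen_univ
  exact ⟨U, hU, hx⟩

/-- Sections over an open, as a functor to abelian groups. -/
noncomputable abbrev sec (U : X.Opens) : X.Modules ⥤ AddCommGrpCat.{u} :=
  Scheme.Modules.toPresheaf X ⋙ (evaluation _ _).obj (op U)

noncomputable instance (U : X.Opens) : PreservesLimits (sec U) where
  preservesLimitsOfShape {J} _ :=
    haveI : PreservesLimitsOfShape J ((evaluation (Opens X)ᵒᵖ AddCommGrpCat.{u}).obj (op U)) :=
      evaluation_preservesLimitsOfShape _
    comp_preservesLimitsOfShape (Scheme.Modules.toPresheaf X) _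

instance (U : X.Opens) : (sec U).PreservesZeroMorphisms where
  map_zero _ _ := rfl

lemma app_injective_of_mono {M N : X.Modules} (φ : M ⟶ N) [Mono φ] (U : X.Opens) :
    Function.Injective (φ.app U) :=
  (AddCommGrpCat.mono_iff_injective ((sec U).map φ)).mp inferInstance

/-- Sections are left exact. -/
lemma exists_app_eq_of_mono_exact {S : ShortComplex X.Modules} (hS : S.Exact) [Mono S.f]
    (U : X.Opens) (x : Γ(S.X₂, U)) (hx : S.g.app U x = 0) : ∃ y, S.f.app U y = x := by
  have : PreservesLimitsOfSize.{0, 0} (sec U) := preservesLimitsOfSize_shrink _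
  have hT : (S.map (sec U)).Exact :=
    ShortComplex.exact_of_f_is_kernel _
      (KernelFork.mapIsLimit _ hS.fIsKernel (sec U))
  exact (ShortComplex.ab_exact_iff _).mp hT x hx

/-- Global sections of `M` over `U` as the sections of the restriction to `Spec Γ(X, U)`. -/
noncomputable def topEquiv {U : X.Opens} (hU : IsAffineOpen U) (M : X.Modules) :
    Γ(M.restrict hU.fromSpec, ⊤) ≃+ Γ(M, U) :=
  secEquiv hU M ⊤ (image_top_fromSpec hU)

lemma topEquiv_app {U : X.Opens} (hU : IsAffineOpen U) {M N : X.Modules} (φ : M ⟶ N)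
    (x : Γ(M.restrict hU.fromSpec, ⊤)) :
    φ.app U (topEquiv hU M x) =
      topEquiv hU N (((Scheme.Modules.restrictFunctor hU.fromSpec).map φ).app ⊤ x) := by
  dsimp only [topEquiv]
  rw [secEquiv_apply, secEquiv_apply, ← res_app]
  rfl


lemma surjective_app_top_of_epi_spec {R : CommRingCat.{u}} {M N : (Spec R).Modules}
    [M.IsQuasicoherent] [N.IsQuasicoherent] (φ : M ⟶ N) [Epi φ] :
    Function.Surjective (φ.app ⊤) := by
  let ψ := (moduleSpecΓFunctor (R := R)).map φ
  have hnat : (tilde.functor R).map ψ ≫ N.fromTildeΓ = M.fromTildeΓ ≫ φ :=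
    (tilde.adjunction (R := R)).counit.naturality φ
  have hM : IsIso M.fromTildeΓ := inferInstance
  have hN : IsIso N.fromTildeΓ := inferInstance
  have : Epi ((tilde.functor R).map ψ ≫ N.fromTildeΓ) := by
    rw [hnat]; exact epi_comp M.fromTildeΓ φ
  have : Epi ((tilde.functor R).map ψ) := (epi_comp_iff_of_isIso _ N.fromTildeΓ).mp this
  have : Epi ψ := (tilde.functor R).epi_of_epi_map inferInstance
  exact (ModuleCat.epi_iff_surjective ψ).mp inferInstance

/-- An epimorphism of quasi-coherent modules is surjective on sections over affine opens. -/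
theorem app_surjective_of_epi {M N : X.Modules} [M.IsQuasicoherent] [N.IsQuasicoherent]
    (φ : M ⟶ N) [Epi φ] {U : X.Opens} (hU : IsAffineOpen U) :
    Function.Surjective (φ.app U) := fun y ↦ by
  have : Epi ((Scheme.Modules.restrictFunctor hU.fromSpec).map φ) := inferInstance
  obtain ⟨x, hx⟩ := surjective_app_top_of_epi_spec
    ((Scheme.Modules.restrictFunctor hU.fromSpec).map φ) ((topEquiv hU N).symm y)
  exact ⟨topEquiv hU M x, by rw [topEquiv_app, hx, AddEquiv.apply_symm_apply]⟩

/-! ### Colimits -/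

lemma isQCoh_spec_of_isColimit {R : CommRingCat.{u}} {J : Type w} [Category.{v} J]
    [HasColimitsOfShape J (ModuleCat.{u} R)]
    (K : J ⥤ (Spec R).Modules) [∀ j, (K.obj j).IsQuasicoherent] (c : Cocone K) (hc : IsColimit c) :
    c.pt.IsQuasicoherent := by
  have hiso : ∀ j, IsIso (K.obj j).fromTildeΓ := fun j ↦ inferInstance
  let α : (K ⋙ moduleSpecΓFunctor (R := R)) ⋙ tilde.functor R ≅ K :=
    NatIso.ofComponents (fun j ↦ @asIso _ _ _ _ (K.obj j).fromTildeΓ (hiso j))
      (fun f ↦ (tilde.adjunction (R := R)).counit.naturality (K.map f))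
  have : PreservesColimitsOfShape J (tilde.functor R) :=
    (tilde.adjunction (R := R)).leftAdjoint_preservesColimits.preservesColimitsOfShape
  let e : (tilde.functor R).obj (colimit (K ⋙ moduleSpecΓFunctor (R := R))) ≅ c.pt :=
    IsColimit.coconePointsIsoOfNatIso
      (isColimitOfPreserves (tilde.functor R) (colimit.isColimit (K ⋙ moduleSpecΓFunctor (R := R))))
      hc α
  exact (isQCoh_iff_of_iso e).mp inferInstance

/-- Quasi-coherent modules are closed under colimits. -/
theorem isQCoh_of_isColimit {J : Type w} [Category.{v} J]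
    [∀ R : CommRingCat.{u}, HasColimitsOfShape J (ModuleCat.{u} R)]
    (K : J ⥤ X.Modules) [∀ j, (K.obj j).IsQuasicoherent] (c : Cocone K) (hc : IsColimit c) :
    c.pt.IsQuasicoherent := by
  refine isQCoh_of_isLocalizing _ fun x ↦ ?_
  obtain ⟨U, hU, hx⟩ := exists_affine_mem x
  refine ⟨U, hU, hx, ?_⟩
  let F := Scheme.Modules.restrictFunctor hU.fromSpec
  have : PreservesColimitsOfShape J F :=
    (Scheme.Modules.restrictAdjunction hU.fromSpec).leftAdjoint_preservesColimits
      |>.preservesColimitsOfShape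
  have : ∀ j, ((K ⋙ F).obj j).IsQuasicoherent := fun j ↦
    Scheme.Modules.isQuasicoherent_restrictFunctor hU.fromSpec (K.obj j)
  have := isQCoh_spec_of_isColimit (K ⋙ F) _ (isColimitOfPreserves F hc)
  exact (isIso_fromTildeΓ_iff_isLocalizing _).mp
    ((isQuasicoherent_iff_isIso_fromTildeΓ (c.pt.restrict hU.fromSpec)).mp this)

instance isQCoh_cokernel {M N : X.Modules} [M.IsQuasicoherent] [N.IsQuasicoherent] (φ : M ⟶ N) :
    (cokernel φ).IsQuasicoherent := by
  have : ∀ j, ((parallelPair φ 0).obj j).IsQuasicoherent := by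
    rintro (_ | _) <;> simpa
  exact isQCoh_of_isColimit (parallelPair φ 0) _ (colimit.isColimit _)

instance isQCoh_sigma {ι : Type u} (M : ι → X.Modules) [∀ i, (M i).IsQuasicoherent] :
    (∐ M).IsQuasicoherent := by
  have : ∀ j, ((Discrete.functor M).obj j).IsQuasicoherent := fun j ↦ by dsimp; infer_instance
  exact isQCoh_of_isColimit (Discrete.functor M) _ (colimit.isColimit _)

instance isQCoh_biprod (M N : X.Modules) [M.IsQuasicoherent] [N.IsQuasicoherent] :
    (M ⊞ N).IsQuasicoherent := by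
  have : ∀ j, ((pair M N).obj j).IsQuasicoherent := by
    rintro ⟨_ | _⟩ <;> simpa
  exact (isQCoh_iff_of_iso (biprod.isoCoprod M N)).mpr
    (isQCoh_of_isColimit (pair M N) _ (colimit.isColimit _))

/-! ### Kernels -/

lemma isQCoh_of_mono_exact {S : ShortComplex X.Modules} (hS : S.Exact) [Mono S.f]
    [S.X₂.IsQuasicoherent] [S.X₃.IsQuasicoherent] : S.X₁.IsQuasicoherent := by
  refine isQCoh_of_forall_affine _ (fun U hU f s ↦ ?_) (fun U hU f t ht ↦ ?_)
  · obtain ⟨n, t, ht⟩ := exists_pow_smul_eq_res S.X₂ hU f (S.f.app _ s)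
    have h0 : res S.X₃ (X.basicOpen_le f) (S.g.app U t) = 0 := by
      rw [res_app, ht, ← S.f.app_smul, ← ConcreteCategory.comp_apply,
        ← Scheme.Modules.Hom.comp_app, S.zero]
      rfl
    obtain ⟨m, hm⟩ := exists_pow_smul_eq_zero S.X₃ hU f _ h0
    rw [← S.g.app_smul] at hm
    obtain ⟨y, hy⟩ := exists_app_eq_of_mono_exact hS U _ hm
    refine ⟨m + n, y, app_injective_of_mono S.f _ ?_⟩
    rw [← res_app, hy, res_smul, ht, S.f.app_smul, map_pow, pow_add, mul_smul]
  · obtain ⟨n, hn⟩ := exists_pow_smul_eq_zero S.X₂ hU f (S.f.app U t)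
      (by rw [res_app, ht, map_zero])
    refine ⟨n, app_injective_of_mono S.f _ ?_⟩
    rw [map_zero, S.f.app_smul, hn]

instance isQCoh_kernel {M N : X.Modules} [M.IsQuasicoherent] [N.IsQuasicoherent] (φ : M ⟶ N) :
    (kernel φ).IsQuasicoherent :=
  isQCoh_of_mono_exact (S := ShortComplex.mk _ _ (kernel.condition φ))
    (ShortComplex.exact_of_f_is_kernel _ (kernelIsKernel φ))

instance isQCoh_pullback {M N P : X.Modules} [M.IsQuasicoherent] [N.IsQuasicoherent]
    [P.IsQuasicoherent] (f : M ⟶ P) (g : N ⟶ P) : (pullback f g).IsQuasicoherent :=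
  (isQCoh_iff_of_iso (IsLimit.conePointUniqueUpToIso
    (Abelian.PullbackToBiproductIsKernel.isLimitPullbackToBiproduct f g)
    (kernelIsKernel (biprod.desc f (-g))))).mpr
    (isQCoh_kernel (biprod.desc f (-g)))

instance isQCoh_image {M N : X.Modules} [M.IsQuasicoherent] [N.IsQuasicoherent] (φ : M ⟶ N) :
    (Abelian.image φ).IsQuasicoherent :=
  inferInstanceAs (kernel (cokernel.π φ)).IsQuasicoherent

lemma isQCoh_of_epi_exact {S : ShortComplex X.Modules} (hS : S.Exact) [Epi S.g]
    [S.X₁.IsQuasicoherent] [S.X₂.IsQuasicoherent] : S.X₃.IsQuasicoherent :=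
  (isQCoh_iff_of_iso
    (IsColimit.coconePointUniqueUpToIso (cokernelIsCokernel S.f) hS.gIsCokernel)).mp
    (isQCoh_cokernel S.f)

/-- Sections over affine opens of quasi-coherent modules are exact. -/
theorem exists_app_eq_of_exact {S : ShortComplex X.Modules} (hS : S.Exact)
    [S.X₁.IsQuasicoherent] [S.X₂.IsQuasicoherent] [S.X₃.IsQuasicoherent] {U : X.Opens}
    (hU : IsAffineOpen U) (x : Γ(S.X₂, U)) (hx : S.g.app U x = 0) :
    ∃ y, S.f.app U y = x := by
  have : Epi (kernel.lift S.g S.f S.zero) := hS.epi_kernelLift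
  obtain ⟨k, hk⟩ := exists_app_eq_of_mono_exact (S := ShortComplex.mk _ _ (kernel.condition S.g))
    (ShortComplex.exact_of_f_is_kernel _ (kernelIsKernel S.g)) U x hx
  obtain ⟨y, hy⟩ := app_surjective_of_epi (kernel.lift S.g S.f S.zero) hU k
  exact ⟨y, by rw [← kernel.lift_ι S.g S.f S.zero, Scheme.Modules.Hom.comp_app,
    ConcreteCategory.comp_apply, hy, hk]⟩

instance isQCoh_unit (X : Scheme.{u}) : (Coh.structureModule X).IsQuasicoherent := by
  refine isQCoh_of_isLocalizing _ fun x ↦ ?_
  obtain ⟨U, hU, hx⟩ := exists_affine_mem x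
  refine ⟨U, hU, hx, ?_⟩
  exact isLocalizing_of_iso
    (modulesSpecToSheaf.mapIso (Scheme.Modules.restrictUnitIso hU.fromSpec)).symm
    (isLocalizing_of_iso (modulesSpecToSheaf.mapIso tildeSelf) (isLocalizing_tilde _))

instance isQCoh_free (X : Scheme.{u}) (ι : Type u) :
    (SheafOfModules.free (R := X.ringCatSheaf) ι : X.Modules).IsQuasicoherent :=
  isQCoh_sigma fun _ : ι ↦ Coh.structureModule X

end Groth.QCohMod
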