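import Groth.Agent.QCohMod.PullbackQCoh
import Mathlib.RingTheory.Localization.BaseChange

/-!
# Sections of the inverse image of a quasi-coherent module over affine opens
-/

universe u

open CategoryTheory Limits AlgebraicGeometry Opposite TopologicalSpace TensorProduct

namespace Groth.QCohMod

open Groth.PicAux (pullSec pullSec_smul res_pullSec)

variable {X Y : Scheme.{u}} (f : Y ⟶ X) (M : X.Modules) {U : X.Opens} {V : Y.Opens}
  (e : V ≤ f ⁻¹ᵁ U)

/-- The algebra structure `Γ(X, U) → Γ(Y, V)`. -/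
@[reducible]
noncomputable def sectionsAlg : Algebra Γ(X, U) Γ(Y, V) := (f.appLE U V e).hom.toAlgebra

lemma res_pullSec_smul (r : Γ(X, U)) (m : Γ(M, U)) :
    res _ e (pullSec f M (r • m)) = f.appLE U V e r • res _ e (pullSec f M m) := by
  rw [pullSec_smul]
  exact res_smul _ e _ _

/-- `Γ(Y, V) ⊗ Γ(M, U) → Γ(f^*M, V)`. -/
noncomputable def pullSecTensor :
    letI := sectionsAlg f e
    Γ(Y, V) ⊗[Γ(X, U)] Γ(M, U) →ₗ[Γ(Y, V)] Γ((Scheme.Modules.pullback f).obj M, V) :=
  letI := sectionsAlg f e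
  letI : Module Γ(X, U) Γ((Scheme.Modules.pullback f).obj M, V) :=
    Module.compHom _ (f.appLE U V e).hom
  haveI : IsScalarTower Γ(X, U) Γ(Y, V) Γ((Scheme.Modules.pullback f).obj M, V) :=
    IsScalarTower.of_algebraMap_smul fun _ _ ↦ rfl
  LinearMap.liftBaseChange Γ(Y, V)
    ({ toFun := fun m ↦ res _ e (pullSec f M m)
       map_add' := fun m m' ↦ by
        rw [← map_add]; exact congrArg _ (map_add _ m m')
       map_smul' := res_pullSec_smul f M e } : Γ(M, U) →ₗ[Γ(X, U)]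
        Γ((Scheme.Modules.pullback f).obj M, V))

lemma pullSecTensor_tmul (b : Γ(Y, V)) (m : Γ(M, U)) :
    letI := sectionsAlg f e
    pullSecTensor f M e (b ⊗ₜ m) = b • res _ e (pullSec f M m) :=
  rfl

variable [M.IsQuasicoherent] (hU : IsAffineOpen U) (hV : IsAffineOpen V)
include hU hV

lemma pullSecTensor_local (y : Y) (hy : y ∈ V) :
    letI := sectionsAlg f e
    (∀ z : Γ(Y, V) ⊗[Γ(X, U)] Γ(M, U),
      germ ((Scheme.Modules.pullback f).obj M) y hy (pullSecTensor f M e z) = 0 →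
        ∃ a : Γ(Y, V), y ∈ Y.basicOpen a ∧ a • z = 0) ∧
    (∀ t : ((Scheme.Modules.pullback f).obj M).presheaf.stalk y,
      ∃ (a : Γ(Y, V)) (z : Γ(Y, V) ⊗[Γ(X, U)] Γ(M, U)), y ∈ Y.basicOpen a ∧
        Y.presheaf.germ V y hy a • t =
          germ ((Scheme.Modules.pullback f).obj M) y hy (pullSecTensor f M e z)) := by
  let _ := sectionsAlg f e
  have hx : f y ∈ U := e hy
  let _ : Algebra Γ(X, U) (X.presheaf.stalk (f y)) :=
    TopCat.Presheaf.algebra_section_stalk X.presheaf ⟨f y, hx⟩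
  have : IsLocalization.AtPrime (X.presheaf.stalk (f y)) (hU.primeIdealOf ⟨f y, hx⟩).asIdeal :=
    hU.isLocalization_stalk ⟨f y, hx⟩
  let _ : Algebra Γ(Y, V) (Y.presheaf.stalk y) :=
    TopCat.Presheaf.algebra_section_stalk Y.presheaf ⟨y, hy⟩
  have hlocY : IsLocalization.AtPrime (Y.presheaf.stalk y) (hV.primeIdealOf ⟨y, hy⟩).asIdeal :=
    hV.isLocalization_stalk ⟨y, hy⟩
  let _ := stalkAlg f y
  let _ := stalkModule M (f y) hx
  have : IsScalarTower Γ(X, U) (X.presheaf.stalk (f y)) (M.presheaf.stalk (f y)) :=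
    IsScalarTower.of_compHom _ _ _
  let _ : Algebra Γ(X, U) (Y.presheaf.stalk y) :=
    ((Y.presheaf.germ V y hy).hom.comp (f.appLE U V e).hom).toAlgebra
  have : IsScalarTower Γ(X, U) Γ(Y, V) (Y.presheaf.stalk y) :=
    IsScalarTower.of_algebraMap_eq fun _ ↦ rfl
  have : IsScalarTower Γ(X, U) (X.presheaf.stalk (f y)) (Y.presheaf.stalk y) := by
    refine IsScalarTower.of_algebraMap_eq fun r ↦ ?_
    change Y.presheaf.germ V y hy (f.appLE U V e r) =
      f.stalkMap y (X.presheaf.germ U (f y) hx r)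
    rw [Scheme.Hom.germ_stalkMap_apply]
    exact TopCat.Presheaf.germ_res_apply Y.presheaf (homOfLE e) y hy _
  set S := (hV.primeIdealOf ⟨y, hy⟩).asIdeal.primeCompl
  have := isLocalizedModule_germ M hU (f y) hx
  have hbc : IsBaseChange (X.presheaf.stalk (f y)) (germₗ M (f y) hx) :=
    IsLocalizedModule.isBaseChange (hU.primeIdealOf ⟨f y, hx⟩).asIdeal.primeCompl _ _
  let ε : Y.presheaf.stalk y ⊗[Γ(X, U)] Γ(M, U) ≃ₗ[Y.presheaf.stalk y]
      Y.presheaf.stalk y ⊗[X.presheaf.stalk (f y)] M.presheaf.stalk (f y) :=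
    (TensorProduct.AlgebraTensorModule.cancelBaseChange Γ(X, U) (X.presheaf.stalk (f y))
      (Y.presheaf.stalk y) (Y.presheaf.stalk y) Γ(M, U)).symm ≪≫ₗ
      TensorProduct.AlgebraTensorModule.congr (LinearEquiv.refl _ _) hbc.equiv
  let g := TensorProduct.AlgebraTensorModule.rTensor Γ(X, U) Γ(M, U)
    (Algebra.linearMap Γ(Y, V) (Y.presheaf.stalk y))
  have hg : IsLocalizedModule S g := by
    have : IsLocalizedModule S (Algebra.linearMap Γ(Y, V) (Y.presheaf.stalk y)) := inferInstance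
    exact inferInstance
  have key : ∀ z, germ ((Scheme.Modules.pullback f).obj M) y hy (pullSecTensor f M e z) =
      pullStalkHom f M y (ε (g z)) := by
    intro z
    induction z using TensorProduct.induction_on with
    | zero => simp
    | tmul b m =>
      rw [pullSecTensor_tmul, germ_smul, germ_res]
      have hε : ε (g (b ⊗ₜ m)) = Y.presheaf.germ V y hy b ⊗ₜ germ M (f y) hx m := by
        simp [ε, g]
        rfl
      rw [hε, pullStalkHom_tmul, pullGerm_germ]
    | add p q hp hq => simp [hp, hq]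
  refine ⟨fun z hz ↦ ?_, fun t ↦ ?_⟩
  · rw [key, map_eq_zero_iff _ (pullStalkHom_bijective f M y).1,
      map_eq_zero_iff _ ε.injective] at hz
    obtain ⟨⟨a, ha⟩, haz⟩ := (IsLocalizedModule.eq_zero_iff S g).mp hz
    exact ⟨a, (mem_basicOpen_iff_notMem_primeIdealOf hV a y hy).mpr ha, haz⟩
  · obtain ⟨w, rfl⟩ := (pullStalkHom_bijective f M y).2 t
    obtain ⟨⟨z, a, ha⟩, haz⟩ := IsLocalizedModule.surj S g (ε.symm w)
    refine ⟨a, z, (mem_basicOpen_iff_notMem_primeIdealOf hV a y hy).mpr ha, ?_⟩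
    rw [key, ← haz]
    change _ = pullStalkHom f M y (ε (a • ε.symm w))
    rw [← algebraMap_smul (Y.presheaf.stalk y) a, map_smul, map_smul, ε.apply_symm_apply]
    rfl

/-- Sections of the inverse image of a quasi-coherent module over affine opens. -/
theorem pullSecTensor_bijective : Function.Bijective (pullSecTensor f M e) := by
  let _ := sectionsAlg f e
  have hpoint : ∀ q : PrimeSpectrum Γ(Y, V), ∃ (y : Y) (hy : y ∈ V),
      hV.primeIdealOf ⟨y, hy⟩ = q := by
    intro q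
    have hqV : hV.fromSpec q ∈ V := by
      change hV.fromSpec q ∈ (V : Set Y)
      rw [← hV.range_fromSpec]; exact ⟨q, rfl⟩
    exact ⟨_, hqV, hV.fromSpec.isOpenEmbedding.injective (hV.fromSpec_primeIdealOf _)⟩
  refine ⟨(injective_iff_map_eq_zero _).mpr fun z hz ↦ ?_, fun s ↦ ?_⟩
  · let I : Ideal Γ(Y, V) :=
      LinearMap.ker (LinearMap.toSpanSingleton Γ(Y, V) (Γ(Y, V) ⊗[Γ(X, U)] Γ(M, U)) z)
    suffices hI : I = ⊤ by
      simpa [I] using hI.ge (Submodule.mem_top (x := (1 : Γ(Y, V))))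
    by_contra hI
    obtain ⟨m, hm, hIm⟩ := Ideal.exists_le_maximal I hI
    obtain ⟨y, hy, hq⟩ := hpoint ⟨m, hm.isPrime⟩
    obtain ⟨a, ha, haz⟩ := (pullSecTensor_local f M e hU hV y hy).1 z (by rw [hz, map_zero])
    rw [mem_basicOpen_iff_notMem_primeIdealOf hV a y hy, hq] at ha
    exact ha (hIm haz)
  · let I : Ideal Γ(Y, V) := (LinearMap.range (pullSecTensor f M e)).comap
      (LinearMap.toSpanSingleton Γ(Y, V) _ s)
    suffices hI : I = ⊤ by
      obtain ⟨z, hz⟩ := hI.ge (Submodule.mem_top (x := (1 : Γ(Y, V))))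
      exact ⟨z, hz.trans (one_smul _ _)⟩
    by_contra hI
    obtain ⟨m, hm, hIm⟩ := Ideal.exists_le_maximal I hI
    obtain ⟨y, hy, hq⟩ := hpoint ⟨m, hm.isPrime⟩
    obtain ⟨a, z, ha, haz⟩ := (pullSecTensor_local f M e hU hV y hy).2
      (germ ((Scheme.Modules.pullback f).obj M) y hy s)
    rw [← germ_smul] at haz
    obtain ⟨c, hc, hcz⟩ := exists_smul_eq_zero_of_germ_eq_zero _ hV y hy
      (a • s - pullSecTensor f M e z) (by rw [map_sub, haz, sub_self])
    rw [smul_sub, sub_eq_zero, ← mul_smul] at hcz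
    rw [mem_basicOpen_iff_notMem_primeIdealOf hV a y hy, hq] at ha
    rw [mem_basicOpen_iff_notMem_primeIdealOf hV c y hy, hq] at hc
    exact (hm.isPrime.mul_notMem hc ha) (hIm ⟨c • z, by rw [map_smul]; exact hcz.symm⟩)

/-- Sections of the inverse image of a quasi-coherent module over affine opens. -/
noncomputable def pullSecEquiv :
    letI := sectionsAlg f e
    Γ(Y, V) ⊗[Γ(X, U)] Γ(M, U) ≃ₗ[Γ(Y, V)] Γ((Scheme.Modules.pullback f).obj M, V) :=
  letI := sectionsAlg f e
  LinearEquiv.ofBijective (pullSecTensor f M e) (pullSecTensor_bijective f M e hU hV)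

end Groth.QCohMod
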