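import Groth.Agent.QCohMod.SpanSub
import Groth.Agent.Ega2Proj.IsoAffine

/-!
# A small family of quasi-coherent modules detecting sections (Gabber)
-/

universe u

open CategoryTheory Limits AlgebraicGeometry Opposite TopologicalSpace

namespace Groth.QCohMod

variable {X : Scheme.{u}} {ι : Type u} (U : ι → X.Opens)

/-- Indices of the sections generated by one section through iterated transfers between the
members of a cover. -/
inductive Idx (i₀ : ι) : ι → Type u
  | base : Idx i₀ i₀
  | step (i j : ι) (p : BOv (U i) (U j)) (t : Idx i₀ i) : Idx i₀ j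

/-- The data classifying a quasi-coherent module generated by one section. -/
structure GenData where
  /-- the index of the starting open -/
  i₀ : ι
  /-- the exponents -/
  n : ∀ i j, BOv (U i) (U j) → Idx U i₀ i → ℕ
  /-- the relations -/
  R : ∀ i, Submodule Γ(X, U i) (Idx U i₀ i →₀ Γ(X, U i))

/-- A module with sections realising given data. -/
structure GenReal (d : GenData U) where
  /-- the module -/
  K : X.Modules
  qcoh : K.IsQuasicoherent
  /-- the sections -/
  g : ∀ i, Idx U d.i₀ i → Γ(K, U i)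
  linked : Linked K d.n (fun i j p t => Idx.step i j p t) g
  span : ∀ i, Submodule.span Γ(X, U i) (Set.range (g i)) = ⊤
  ker : ∀ i, LinearMap.ker (Finsupp.linearCombination Γ(X, U i) (g i)) = d.R i

/-- The indices of the small family of generators. -/
abbrev GenIdx : Type u := {d : GenData U // Nonempty (GenReal U d)}

/-- The small family of generators. -/
noncomputable def gen (d : GenIdx U) : X.Modules := d.2.some.K

instance (d : GenIdx U) : (gen U d).IsQuasicoherent := d.2.some.qcoh

variable {U}

lemma app_sum_inl_inr (K M : X.Modules) (W : X.Opens) (a : Γ(K ⊞ M, W)) :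
    (biprod.inl : K ⟶ K ⊞ M).app W ((biprod.fst : K ⊞ M ⟶ K).app W a) +
      (biprod.inr : M ⟶ K ⊞ M).app W ((biprod.snd : K ⊞ M ⟶ M).app W a) = a := by
  have := congr($(congrArg (fun φ : K ⊞ M ⟶ K ⊞ M => φ.app W) (biprod.total (X := K) (Y := M))) a)
  exact this

/-- A morphism out of a module spanned by linked sections is given by a linked family with no
fewer relations. -/
lemma exists_hom_of_linked (hU : ∀ i, IsAffineOpen (U i)) (hcov : iSup U = ⊤) {T : ι → Type u}
    {n : ∀ i j, BOv (U i) (U j) → T i → ℕ} {s : ∀ i j, BOv (U i) (U j) → T i → T j}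
    {K M : X.Modules} [K.IsQuasicoherent] [M.IsQuasicoherent]
    {gK : ∀ i, T i → Γ(K, U i)} (hK : Linked K n s gK)
    (hspanK : ∀ i, Submodule.span Γ(X, U i) (Set.range (gK i)) = ⊤)
    {g : ∀ i, T i → Γ(M, U i)} (hg : Linked M n s g)
    (hR : ∀ i, LinearMap.ker (Finsupp.linearCombination Γ(X, U i) (gK i)) ≤
      LinearMap.ker (Finsupp.linearCombination Γ(X, U i) (g i))) :
    ∃ ψ : K ⟶ M, ∀ i t, ψ.app (U i) (gK i t) = g i t := by
  let q : ∀ i, T i → Γ(K ⊞ M, U i) := fun i t =>
    (biprod.inl : K ⟶ K ⊞ M).app (U i) (gK i t) +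
      (biprod.inr : M ⟶ K ⊞ M).app (U i) (g i t)
  have hfst : ∀ i t, (biprod.fst : K ⊞ M ⟶ K).app (U i) (q i t) = gK i t := fun i t => by
    simp only [q, map_add]
    rw [← ConcreteCategory.comp_apply, ← Scheme.Modules.Hom.comp_app, ← ConcreteCategory.comp_apply,
      ← Scheme.Modules.Hom.comp_app, biprod.inl_fst, biprod.inr_fst]
    exact add_zero _
  have hsnd : ∀ i t, (biprod.snd : K ⊞ M ⟶ M).app (U i) (q i t) = g i t := fun i t => by
    simp only [q, map_add]
    rw [← ConcreteCategory.comp_apply, ← Scheme.Modules.Hom.comp_app, ← ConcreteCategory.comp_apply,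
      ← Scheme.Modules.Hom.comp_app, biprod.inl_snd, biprod.inr_snd]
    exact zero_add _
  have hq : Linked (K ⊞ M) n s q := by
    intro i j p t
    simp only [q, map_add, smul_add, res_app, hK i j p t, hg i j p t,
      Scheme.Modules.Hom.app_smul]
  obtain ⟨Q, k, g', hk, hQ, hg', hspan, -⟩ := exists_span_sub hU hcov hq
  have hπg : ∀ i t, (k ≫ biprod.fst).app (U i) (g' i t) = gK i t := fun i t => by
    rw [Scheme.Modules.Hom.comp_app, ConcreteCategory.comp_apply, hg', hfst]
  have : IsIso (k ≫ biprod.fst) := by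
    refine Groth.Ega2Proj.isIso_of_affine_cover _ U hU hcov fun i =>
      ⟨(injective_iff_map_eq_zero _).mpr fun a ha => ?_, ?_⟩
    · obtain ⟨c, rfl⟩ : a ∈ LinearMap.range (Finsupp.linearCombination Γ(X, U i) (g' i)) := by
        rw [Finsupp.range_linearCombination, hspan]; trivial
      have hc : c ∈ LinearMap.ker (Finsupp.linearCombination Γ(X, U i) (gK i)) := by
        rw [LinearMap.mem_ker]
        change appₗ (k ≫ biprod.fst) (U i) _ = 0 at ha
        rw [Finsupp.apply_linearCombination] at ha
        rwa [show (appₗ (k ≫ biprod.fst) (U i) ∘ g' i) = gK i from funext (hπg i)] at ha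
      have h2 : (k ≫ biprod.snd).app (U i) (Finsupp.linearCombination _ (g' i) c) = 0 := by
        change appₗ (k ≫ biprod.snd) (U i) _ = 0
        rw [Finsupp.apply_linearCombination, show (appₗ (k ≫ biprod.snd) (U i) ∘ g' i) = g i from
          funext fun t => by
            simp only [Function.comp_apply, appₗ_apply, Scheme.Modules.Hom.comp_app,
              ConcreteCategory.comp_apply, hg', hsnd]]
        exact hR i hc
      refine app_injective_of_mono k _ ?_
      rw [← app_sum_inl_inr K M (U i) (k.app _ _), map_zero]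
      rw [Scheme.Modules.Hom.comp_app, ConcreteCategory.comp_apply] at ha h2
      rw [ha, h2, map_zero, map_zero, add_zero]
    · change Function.Surjective (appₗ (k ≫ biprod.fst) (U i))
      rw [← LinearMap.range_eq_top, ← top_le_iff, ← hspanK i, Submodule.span_le]
      rintro _ ⟨t, rfl⟩
      exact ⟨g' i t, hπg i t⟩
  refine ⟨inv (k ≫ biprod.fst) ≫ k ≫ biprod.snd, fun i t => ?_⟩
  have h1 : (inv (k ≫ biprod.fst)).app (U i) (gK i t) = g' i t := by
    rw [← hπg i t, ← ConcreteCategory.comp_apply, ← Scheme.Modules.Hom.comp_app, IsIso.hom_inv_id]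
    rfl
  rw [Scheme.Modules.Hom.comp_app, ConcreteCategory.comp_apply, h1,
    Scheme.Modules.Hom.comp_app, ConcreteCategory.comp_apply, hg', hsnd]

/-- A morphism out of a realisation is determined by a family with the same exponents and no
fewer relations. -/
lemma exists_hom_of_real (hU : ∀ i, IsAffineOpen (U i)) (hcov : iSup U = ⊤) {d : GenData U}
    (G : GenReal U d) {M : X.Modules} [M.IsQuasicoherent] {g : ∀ i, Idx U d.i₀ i → Γ(M, U i)}
    (hg : Linked M d.n (fun i j p t => Idx.step i j p t) g)
    (hR : ∀ i, d.R i ≤ LinearMap.ker (Finsupp.linearCombination Γ(X, U i) (g i))) :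
    ∃ ψ : G.K ⟶ M, ∀ i t, ψ.app (U i) (G.g i t) = g i t := by
  have := G.qcoh
  exact exists_hom_of_linked hU hcov G.linked G.span hg fun i => (G.ker i).le.trans (hR i)

/-- Every section over a member of the cover is hit by a map from a generator. -/
theorem exists_gen_hit (hU : ∀ i, IsAffineOpen (U i)) (hcov : iSup U = ⊤) (M : X.Modules)
    [M.IsQuasicoherent] (i₀ : ι) (m : Γ(M, U i₀)) :
    ∃ (d : GenIdx U) (ψ : gen U d ⟶ M) (a : Γ(gen U d, U i₀)), ψ.app (U i₀) a = m := by
  have hlift : ∀ (i j : ι) (p : BOv (U i) (U j)) (a : Γ(M, U i)), ∃ (n : ℕ) (b : Γ(M, U j)),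
      res M (p.2.le.trans (X.basicOpen_le _)) b =
        resFun X (p.2.le.trans (X.basicOpen_le _)) p.1.2 ^ n • res M (X.basicOpen_le p.1.1) a := by
    intro i j p a
    obtain ⟨n, b, hb⟩ := exists_pow_smul_eq_res M (hU j) p.1.2
      (res M p.2.ge (res M (X.basicOpen_le p.1.1) a))
    refine ⟨n, b, ?_⟩
    have := congr(res M p.2.le $hb)
    rw [res_res, res_smul, map_pow, resFun_resFun, res_res, res_self] at this
    exact this
  choose L hL using hlift
  choose B hB using hL
  let g : ∀ i, Idx U i₀ i → Γ(M, U i) := fun i t =>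
    Idx.rec (motive := fun i _ => Γ(M, U i)) m (fun i j p _ ih => B i j p ih) t
  let n : ∀ i j, BOv (U i) (U j) → Idx U i₀ i → ℕ := fun i j p t => L i j p (g i t)
  have hg : Linked M n (fun i j p t => Idx.step i j p t) g := fun i j p t => hB i j p (g i t)
  let d : GenData U := ⟨i₀, n, fun i => LinearMap.ker (Finsupp.linearCombination Γ(X, U i) (g i))⟩
  obtain ⟨K, k, g', hk, hK, hkg, hspan, hlink⟩ := exists_span_sub hU hcov hg
  have hreal : Nonempty (GenReal U d) := by
    refine ⟨⟨K, hK, g', hlink, hspan, fun i => ?_⟩⟩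
    ext c
    simp only [d, LinearMap.mem_ker]
    rw [← show (appₗ k (U i) ∘ g' i) = g i from funext (hkg i), ← Finsupp.apply_linearCombination]
    exact ⟨fun h => by rw [h, map_zero],
      fun h => app_injective_of_mono k (U i) (h.trans (map_zero _).symm)⟩
  obtain ⟨ψ, hψ⟩ := exists_hom_of_real hU hcov hreal.some (M := M) (g := g) hg fun i => le_rfl
  exact ⟨⟨d, hreal⟩, ψ, hreal.some.g i₀ Idx.base, hψ i₀ Idx.base⟩

end Groth.QCohMod
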