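import Groth.Agent.QCohMod.ExtendCases
import Groth.Agent.QCohMod.Generators
import Groth.Agent.QCohMod.ClosedImm
import Groth.Agent.LocFree.FP
import Groth.Agent.PropsBasic.FPSections
import Mathlib

/-!
# Extension of modules of finite presentation
-/

universe u

open CategoryTheory CategoryTheory.Limits AlgebraicGeometry Opposite TopologicalSpace

set_option backward.isDefEq.respectTransparency.types false

namespace Groth.QCohMod

variable {X : Scheme.{u}}

/-! ### Elementary facts on sections -/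

lemma kernel_exists_app {M N : X.Modules} (g : M ⟶ N) {W : X.Opens} (s : Γ(M, W))
    (h : g.app W s = 0) : ∃ t : Γ((kernel g : X.Modules), W), (kernel.ι g).app W t = s :=
  exists_app_eq_of_mono_exact (S := ShortComplex.mk (kernel.ι g) g (kernel.condition g))
    (ShortComplex.exact_of_f_is_kernel _ (kernelIsKernel g)) W s h

lemma kernel_app_zero {M N : X.Modules} (g : M ⟶ N) {W : X.Opens}
    (t : Γ((kernel g : X.Modules), W)) : g.app W ((kernel.ι g).app W t) = 0 :=
  congr(($(kernel.condition g)).app W t)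

/-- A map which is bijective on a basis of opens below `W` is bijective below `W`. -/
lemma bijective_of_basis {M N : X.Modules} (f : M ⟶ N) {W : X.Opens}
    (h : ∀ x ∈ W, ∀ Z : X.Opens, x ∈ Z → ∃ B ≤ Z, x ∈ B ∧ Function.Bijective (f.app B)) :
    ∀ Z ≤ W, Function.Bijective (f.app Z) := by
  have hinj : ∀ Z ≤ W, Function.Injective (f.app Z) := fun Z hZ => by
    rw [injective_iff_map_eq_zero]
    intro s hs
    refine Groth.CohTwo.eq_of_local M s 0 fun x hx => ?_
    obtain ⟨B, hB, hxB, hbij⟩ := h x (hZ hx) Z hx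
    refine ⟨B, hB, hxB, hbij.1 ?_⟩
    rw [Groth.CohTwo.app_res, hs, map_zero, map_zero, map_zero]
  intro Z hZ
  refine ⟨hinj Z hZ, fun s => ?_⟩
  choose B hB hxB hbij using fun x : Z => h x.1 (hZ x.2) Z x.2
  choose t ht using fun x : Z => (hbij x).2 (Groth.CohTwo.res N (hB x) s)
  obtain ⟨g, hg⟩ := Groth.CohTwo.exists_glue M B hB (fun x hx => ⟨⟨x, hx⟩, hxB ⟨x, hx⟩⟩) t
    (fun i j => hinj _ ((inf_le_left.trans (hB i)).trans hZ) (by
      rw [Groth.CohTwo.app_res, Groth.CohTwo.app_res, ht, ht, Groth.CohTwo.res_res,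
        Groth.CohTwo.res_res]))
  refine ⟨g, Groth.CohTwo.eq_of_local N _ _ fun x hx => ⟨B ⟨x, hx⟩, hB _, hxB ⟨x, hx⟩, ?_⟩⟩
  rw [← Groth.CohTwo.app_res, hg, ht]

/-- Finite presentation moves along semilinear bijections. -/
theorem finitePresentation_of_semilinear {R S M N : Type u} [CommRing R] [CommRing S]
    [AddCommGroup M] [AddCommGroup N] [Module R M] [Module S N] (σ : R ≃+* S) (e : M ≃+ N)
    (h : ∀ (r : R) (m : M), e (r • m) = σ r • e m) [Module.FinitePresentation R M] :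
    Module.FinitePresentation S N := by
  let _ : Algebra S R := σ.symm.toRingHom.toAlgebra
  let _ : Module S M := Module.compHom M σ.symm.toRingHom
  have : IsScalarTower S R M := ⟨fun s r m => mul_smul (σ.symm s) r m⟩
  have : Module.FinitePresentation S R :=
    .of_equiv (LinearEquiv.ofBijective (Algebra.linearMap S R) σ.symm.bijective)
  have : Module.FinitePresentation S M := Module.FinitePresentation.trans (R := S) M R
  exact .of_equiv ({ e with
    map_smul' := fun s m => by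
      change e (σ.symm s • m) = s • e m
      rw [h, RingEquiv.apply_symm_apply] } : M ≃ₗ[S] N)

/-- Finite presentation passes to smaller affine opens. -/
theorem fp_of_le (M : X.Modules) [M.IsQuasicoherent] {A D : X.Opens} (hA : IsAffineOpen A)
    (h : Module.FinitePresentation Γ(X, A) Γ(M, A)) (hD : IsAffineOpen D) (hDA : D ≤ A) :
    Module.FinitePresentation Γ(X, D) Γ(M, D) := by
  have : IsAffine (A : Scheme.{u}) := hA
  obtain ⟨p, hp⟩ := Groth.LocFree.exists_presentation_of_finitePresentation _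
    (Groth.LocFree.finitePresentation_restrict_sections M A h)
  exact Groth.PropsBasic.FPSections.finitePresentation_sections_of_presentation M p hp hD hDA

/-- `M` is of finite presentation near every point of `W`. -/
def FPOn (M : X.Modules) (W : X.Opens) : Prop :=
  ∀ x ∈ W, ∃ A ≤ W, IsAffineOpen A ∧ x ∈ A ∧ Module.FinitePresentation Γ(X, A) Γ(M, A)

theorem fpOn_of_isFP (M : X.Modules) [M.IsQuasicoherent] (hM : CohB1.IsFP M) (W : X.Opens) :
    FPOn M W := fun x hx => by
  obtain ⟨A, hA, hxA, hAW⟩ := exists_isAffineOpen_mem_and_subset (x := x) (U := W) hx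
  exact ⟨A, hAW, hA, hxA, Groth.PropsBasic.FPSections.finitePresentation_sections M hM hA⟩

theorem isFP_of_fpOn_top (M : X.Modules) [M.IsQuasicoherent] (h : FPOn M ⊤) : CohB1.IsFP M :=
  Groth.LocFree.isFP_of_affine_cover M fun x => by
    obtain ⟨A, -, hA, hxA, hfp⟩ := h x trivial
    exact ⟨A, hA, hxA, hfp⟩

/-- The free module on a finite type is of finite presentation. -/
theorem isFP_freeOn (ι : Type u) [Finite ι] : CohB1.IsFP (Groth.LocFree.freeOn X ι) := by
  obtain ⟨n, s, hs⟩ := Groth.LocFree.exists_basis_free (X := X) ι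
  have : (Groth.LocFree.freeOn X ι).IsQuasicoherent := isQCoh_free X ι
  refine Groth.LocFree.isFP_of_affine_cover _ fun x => ?_
  obtain ⟨A, hA, hxA⟩ := exists_affine_mem x
  let b := Groth.LocFree.basisOfBasis' hs (le_top : A ≤ ⊤)
  have : Module.Free Γ(X, A) Γ((Groth.LocFree.freeOn X ι), A) := .of_basis b
  have : Module.Finite Γ(X, A) Γ((Groth.LocFree.freeOn X ι), A) := .of_basis b
  exact ⟨A, hA, hxA, Module.finitePresentation_of_projective _ _⟩

/-- A finite type submodule killed; the quotient of a finitely presented module stays so. -/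
theorem isFP_cokernel_of_isFT {M N : X.Modules} [M.IsQuasicoherent] [N.IsQuasicoherent]
    (u : N ⟶ M) (hM : CohB1.IsFP M) (hN : CohB1.IsFT N) : CohB1.IsFP (cokernel u) :=
  Groth.LocFree.isFP_of_affine_cover _ fun x => by
    obtain ⟨A, hA, hxA⟩ := exists_affine_mem x
    have := Groth.PropsBasic.FPSections.finitePresentation_sections M hM hA
    have := finite_sections N hN hA
    refine ⟨A, hA, hxA, Module.finitePresentation_of_surjective (appₗ (cokernel.π u) A)
      (app_surjective_of_epi _ hA) ?_⟩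
    have hr : LinearMap.ker (appₗ (cokernel.π u) A) = LinearMap.range (appₗ u A) := by
      ext m
      refine ⟨fun hm => exists_app_eq_of_exact (S := ShortComplex.mk u (cokernel.π u)
        (cokernel.condition u)) (ShortComplex.exact_of_g_is_cokernel _ (cokernelIsCokernel u)) hA m hm,
        ?_⟩
      rintro ⟨a, rfl⟩
      exact congr(($(cokernel.condition u)).app A a)
    rw [hr]
    exact Submodule.fg_range _

/-- The kernel of a surjection between finitely presented sections is finite. -/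
theorem finite_kernel_sections {M N : X.Modules} (π : M ⟶ N) {A : X.Opens}
    [Module.FinitePresentation Γ(X, A) Γ(N, A)] [Module.Finite Γ(X, A) Γ(M, A)]
    (hs : Function.Surjective (π.app A)) :
    Module.Finite Γ(X, A) Γ((kernel π : X.Modules), A) := by
  have hfg := Module.FinitePresentation.fg_ker (appₗ π A) hs
  have hr : LinearMap.range (appₗ (kernel.ι π) A) = LinearMap.ker (appₗ π A) := by
    refine le_antisymm ?_ fun m hm => kernel_exists_app π m hm
    rintro _ ⟨a, rfl⟩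
    exact kernel_app_zero π a
  rw [← hr] at hfg
  have : Module.Finite Γ(X, A) (LinearMap.range (appₗ (kernel.ι π) A)) := Module.Finite.iff_fg.2 hfg
  exact Module.Finite.equiv (LinearEquiv.ofInjective (appₗ (kernel.ι π) A)
    (app_injective_of_mono (kernel.ι π) A)).symm

/-! ### Finite type submodules -/

/-- The whole module, as a sheaf of submodules. -/
noncomputable def SubMod.univ (K : X.Modules) : SubMod K where
  mem _ := ⊤
  res_mem _ _ _ := trivial
  local_mem _ _ := trivial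

lemma SubMod.univ_goodAt (K : X.Modules) [K.IsQuasicoherent] {A : X.Opens} (hA : IsAffineOpen A)
    (h : Module.Finite Γ(X, A) Γ(K, A)) : (SubMod.univ K).GoodAt A :=
  ⟨hA, h.fg_top, fun f s _ => by
    obtain ⟨n, t, ht⟩ := exists_pow_smul_eq_res K hA f s
    exact ⟨n, t, trivial, ht⟩⟩

/-- A finite type submodule equal to the whole on a quasi-compact open. -/
theorem exists_good_sub_agree [CompactSpace X] [QuasiSeparatedSpace X] (K : X.Modules)
    [K.IsQuasicoherent] {U : X.Opens} (hU : IsCompact (U : Set X))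
    (hK : ∀ x ∈ U, ∃ A ≤ U, IsAffineOpen A ∧ x ∈ A ∧ Module.Finite Γ(X, A) Γ(K, A)) :
    ∃ P : SubMod K, P.GoodOn ⊤ ∧ ∀ Y ≤ U, P.mem Y = ⊤ := by
  obtain ⟨n, V, hV, hcov, hW, hUc⟩ := exists_finite_cover (X := X)
  obtain ⟨P, hP, hgood⟩ := SubMod.exists_extension V hV hcov hW U (hUc U hU) (SubMod.univ K)
    fun x hx => by
      obtain ⟨A, hAU, hA, hxA, hfin⟩ := hK x hx
      exact ⟨A, hAU, hxA, SubMod.univ_goodAt K hA hfin⟩
  exact ⟨P, hgood, fun Y hY => hP Y hY⟩

/-- Every section over an affine open lies in a submodule of finite type. -/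
theorem exists_good_sub_mem [CompactSpace X] [QuasiSeparatedSpace X] (K : X.Modules)
    [K.IsQuasicoherent] {A : X.Opens} (hA : IsAffineOpen A) (a : Γ(K, A)) :
    ∃ P : SubMod K, P.GoodOn ⊤ ∧ a ∈ P.mem A := by
  obtain ⟨n, V, hV, hcov, hW, hUc⟩ := exists_finite_cover (X := X)
  obtain ⟨P, hP, hgood⟩ := SubMod.exists_extension V hV hcov hW A (hUc A hA.isCompact)
    (SubMod.locSpan A {a}) fun x hx =>
      ⟨A, le_rfl, hx, SubMod.locSpan_goodAt hA _ (Set.finite_singleton a)⟩
  refine ⟨P, hgood, ?_⟩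
  rw [hP A le_rfl]
  intro x hx
  exact ⟨A, le_rfl, le_rfl, hx.1, Submodule.subset_span ⟨a, rfl, rfl⟩⟩

/-! ### The affine step -/

theorem exists_affine_step {Y : Scheme.{u}} [IsAffine Y] (N : Y.Modules) [N.IsQuasicoherent]
    {W : Y.Opens} (hWc : IsCompact (W : Set Y)) (hN : FPOn N W) :
    ∃ (M : Y.Modules) (_ : M.IsQuasicoherent) (f : M ⟶ N), CohB1.IsFP M ∧
      ∀ Z ≤ W, Function.Bijective (f.app Z) := by
  classical
  have hY : IsAffineOpen (⊤ : Y.Opens) := isAffineOpen_top Y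
  have hloc : ∀ x : Y, ∃ g : Γ(Y, ⊤), x ∈ W → x ∈ Y.basicOpen g ∧ Y.basicOpen g ≤ W ∧
      Module.FinitePresentation Γ(Y, Y.basicOpen g) Γ(N, Y.basicOpen g) := by
    intro x
    by_cases hx : x ∈ W
    · obtain ⟨A, hAW, hA, hxA, hfp⟩ := hN x hx
      obtain ⟨g, hxg, hgA⟩ := exists_basicOpen_mem hY (show x ∈ (⊤ : Y.Opens) from trivial) hxA
      exact ⟨g, fun _ => ⟨hxg, hgA.trans hAW, fp_of_le N hA hfp (hY.basicOpen g) hgA⟩⟩
    · exact ⟨0, fun h => absurd h hx⟩
  choose g hg using hloc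
  obtain ⟨T, hT⟩ := hWc.elim_finite_subcover (fun x : W => (Y.basicOpen (g x.1) : Set Y))
    (fun x => (Y.basicOpen (g x.1)).2) fun x hx => Set.mem_iUnion.2 ⟨⟨x, hx⟩, (hg x hx).1⟩
  have hfin : ∀ k : T, Module.Finite Γ(Y, Y.basicOpen (g k.1.1)) Γ(N, Y.basicOpen (g k.1.1)) :=
    fun k => by have := (hg _ k.1.2).2.2; infer_instance
  choose G hG using fun k : T => (hfin k).fg_top
  choose n t ht using fun (k : T) (m : G k) => exists_pow_smul_eq_res N hY (g k.1.1) m.1
  let ι := Σ k : T, G k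
  let s : ι → Γ(N, (⊤ : Y.Opens)) := fun i => t i.1 i.2
  let E := Groth.LocFree.freeOn Y ι
  have : E.IsQuasicoherent := isQCoh_free Y ι
  let f₀ : E ⟶ N := freeHom N s
  have hhit : ∀ i, ∃ e : Γ(E, (⊤ : Y.Opens)), f₀.app ⊤ e = s i := fun i => by
    refine ⟨(Sigma.ι (fun _ : ι => Coh.structureModule Y) i).app ⊤ (oneSec ⊤), ?_⟩
    change ((Sigma.ι (fun _ : ι => Coh.structureModule Y) i ≫ freeHom N s)).app ⊤ _ = _
    rw [ι_freeHom, secHom_app_one]
    exact res_self N _
  have hsurj : ∀ k : T, Function.Surjective (f₀.app (Y.basicOpen (g k.1.1))) := by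
    intro k
    change Function.Surjective (appₗ f₀ (Y.basicOpen (g k.1.1)))
    rw [← LinearMap.range_eq_top, eq_top_iff, ← hG k, Submodule.span_le]
    intro m hm
    obtain ⟨e, he⟩ := hhit ⟨k, m, hm⟩
    have h1 : res N (Y.basicOpen_le _) (t k ⟨m, hm⟩) ∈
        LinearMap.range (appₗ f₀ (Y.basicOpen (g k.1.1))) :=
      ⟨res E (Y.basicOpen_le _) e, by rw [appₗ_apply, ← res_app, he]⟩
    rw [ht] at h1
    exact (Submodule.smul_mem_iff_of_isUnit _
      ((RingedSpace.isUnit_res_basicOpen _ (g k.1.1)).pow _)).1 h1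
  have hsub : ∀ (x : Y), x ∈ W → ∀ Z : Y.Opens, x ∈ Z → ∃ (k : T)
      (h : Γ(Y, Y.basicOpen (g k.1.1))), x ∈ Y.basicOpen h ∧ Y.basicOpen h ≤ Z := by
    intro x hx Z hxZ
    obtain ⟨k, hk, hxk⟩ := Set.mem_iUnion₂.1 (hT hx)
    obtain ⟨h, hxh, hhZ⟩ := exists_basicOpen_mem (hY.basicOpen (g k.1)) hxk hxZ
    exact ⟨⟨k, hk⟩, h, hxh, hhZ⟩
  have hsurj' : ∀ (k : T) (h : Γ(Y, Y.basicOpen (g k.1.1))),
      Function.Surjective (f₀.app (Y.basicOpen h)) := by
    intro k h b
    obtain ⟨n, c, hc⟩ := exists_pow_smul_eq_res N (hY.basicOpen (g k.1.1)) h b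
    obtain ⟨e, he⟩ := hsurj k c
    have h1 : res N (Y.basicOpen_le h) c ∈ LinearMap.range (appₗ f₀ (Y.basicOpen h)) :=
      ⟨res E (Y.basicOpen_le h) e, by rw [appₗ_apply, ← res_app, he]⟩
    rw [hc] at h1
    exact (Submodule.smul_mem_iff_of_isUnit _
      ((RingedSpace.isUnit_res_basicOpen _ h).pow _)).1 h1
  have hK : ∀ x ∈ W, ∃ A ≤ W, IsAffineOpen A ∧ x ∈ A ∧
      Module.Finite Γ(Y, A) Γ((kernel f₀ : Y.Modules), A) := by
    intro x hx
    obtain ⟨k, hk, hxk⟩ := Set.mem_iUnion₂.1 (hT hx)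
    have := (hg _ k.2).2.2
    have := finite_sections E (isFT_iff E |>.2 fun A hA => by
      have := Groth.PropsBasic.FPSections.finitePresentation_sections E (isFP_freeOn ι) hA
      infer_instance) (hY.basicOpen (g k.1))
    exact ⟨_, (hg _ k.2).2.1, hY.basicOpen _, hxk, finite_kernel_sections f₀ (hsurj ⟨k, hk⟩)⟩
  obtain ⟨P, hP, hPW⟩ := exists_good_sub_agree (kernel f₀ : Y.Modules) hWc hK
  obtain ⟨hPq, hPft⟩ := SubMod.isQCoh_toMod hP
  let u : P.toMod ⟶ E := P.ι ≫ kernel.ι f₀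
  have hu : u ≫ f₀ = 0 := by rw [Category.assoc, kernel.condition, comp_zero]
  let f : cokernel u ⟶ N := cokernel.desc u f₀ hu
  refine ⟨cokernel u, inferInstance, f, isFP_cokernel_of_isFT u (isFP_freeOn ι) hPft,
    bijective_of_basis f fun x hx Z hxZ => ?_⟩
  obtain ⟨k, h, hxh, hhZ⟩ := hsub x hx Z hxZ
  have hB := (hY.basicOpen (g k.1.1)).basicOpen h
  have hBW : Y.basicOpen h ≤ W := (Y.basicOpen_le h).trans (hg _ k.1.2).2.1
  have hcomp : ∀ a, f.app (Y.basicOpen h) ((cokernel.π u).app _ a) = f₀.app _ a := fun a =>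
    congr(($(cokernel.π_desc u f₀ hu)).app _ a)
  refine ⟨_, hhZ, hxh, (injective_iff_map_eq_zero _).2 fun c hc => ?_, fun b => ?_⟩
  · obtain ⟨a, rfl⟩ := app_surjective_of_epi (cokernel.π u) hB c
    rw [hcomp] at hc
    obtain ⟨q, rfl⟩ := kernel_exists_app f₀ a hc
    obtain ⟨p, rfl⟩ := P.exists_ι_app_eq q (by rw [hPW _ hBW]; trivial)
    exact congr(($(cokernel.condition u)).app _ p)
  · obtain ⟨a, rfl⟩ := hsurj' k h b
    exact ⟨_, hcomp a⟩

/-! ### Glueing a module on an open along a map -/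

theorem exists_push_step (N : X.Modules) [N.IsQuasicoherent] (V : X.Opens)
    [QuasiCompact V.ι] (M : (V : Scheme.{u}).Modules) [M.IsQuasicoherent]
    (f : M ⟶ N.restrict V.ι) :
    ∃ (N' : X.Modules) (_ : N'.IsQuasicoherent) (p : N' ⟶ N) (e : N'.restrict V.ι ≅ M),
      e.hom ≫ f = (Scheme.Modules.restrictFunctor V.ι).map p ∧
      ∀ Z : X.Opens, Function.Bijective (f.app (V.ι ⁻¹ᵁ Z)) → Function.Bijective (p.app Z) := by
  let j := V.ι
  have : (N.restrict j).IsQuasicoherent := Scheme.Modules.isQuasicoherent_restrictFunctor j N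
  let Pm := (Scheme.Modules.pushforward j).obj M
  let Qm := (Scheme.Modules.pushforward j).obj (N.restrict j)
  have : Pm.IsQuasicoherent := isQCoh_pushforward M j
  have : Qm.IsQuasicoherent := isQCoh_pushforward _ j
  let φ : Pm ⟶ Qm := (Scheme.Modules.pushforward j).map f
  let ρ : N ⟶ Qm := (Scheme.Modules.restrictAdjunction j).unit.app N
  let d : N ⊞ Pm ⟶ Qm := biprod.desc ρ (-φ)
  let p : kernel d ⟶ N := kernel.ι d ≫ biprod.fst
  let q : kernel d ⟶ Pm := kernel.ι d ≫ biprod.snd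
  have hpq : p ≫ ρ = q ≫ φ := by
    have h := kernel.condition d
    simp only [d, biprod.desc_eq, Preadditive.comp_add, Preadditive.comp_neg, ← Category.assoc] at h
    exact sub_eq_zero.mp (by rw [sub_eq_add_neg]; exact h)
  have happ : ∀ (Z : X.Opens) (a : Γ((N ⊞ Pm : X.Modules), Z)), d.app Z a =
      ρ.app Z ((biprod.fst : N ⊞ Pm ⟶ N).app Z a) -
        φ.app Z ((biprod.snd : N ⊞ Pm ⟶ Pm).app Z a) := by
    intro Z a
    conv_lhs => rw [← app_sum_inl_inr N Pm Z a]
    rw [map_add, sub_eq_add_neg]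
    congr 1
    · exact congr(($(biprod.inl_desc ρ (-φ))).app Z _)
    · exact (congr(($(biprod.inr_desc ρ (-φ))).app Z _)).trans rfl
  have hext : ∀ (Z : X.Opens) (t : Γ((kernel d : X.Modules), Z)),
      p.app Z t = 0 → q.app Z t = 0 → t = 0 := fun Z t hp hq => by
    refine app_injective_of_mono (kernel.ι d) Z ?_
    rw [← app_sum_inl_inr N Pm Z ((kernel.ι d).app Z t)]
    change (biprod.inl : N ⟶ N ⊞ Pm).app Z (p.app Z t) +
      (biprod.inr : Pm ⟶ N ⊞ Pm).app Z (q.app Z t) = _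
    rw [hp, hq, map_zero, map_zero, add_zero, map_zero]
  have hlift : ∀ (Z : X.Opens) (a : Γ(N, Z)) (b : Γ(Pm, Z)), ρ.app Z a = φ.app Z b →
      ∃ t, p.app Z t = a ∧ q.app Z t = b := fun Z a b hab => by
    let w : Γ((N ⊞ Pm : X.Modules), Z) :=
      (biprod.inl : N ⟶ N ⊞ Pm).app Z a + (biprod.inr : Pm ⟶ N ⊞ Pm).app Z b
    have h1 : (biprod.fst : N ⊞ Pm ⟶ N).app Z w = a := by
      simp only [w, map_add]
      rw [← ConcreteCategory.comp_apply, ← Scheme.Modules.Hom.comp_app, ← ConcreteCategory.comp_apply,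
        ← Scheme.Modules.Hom.comp_app, biprod.inl_fst, biprod.inr_fst]
      exact add_zero _
    have h2 : (biprod.snd : N ⊞ Pm ⟶ Pm).app Z w = b := by
      simp only [w, map_add]
      rw [← ConcreteCategory.comp_apply, ← Scheme.Modules.Hom.comp_app, ← ConcreteCategory.comp_apply,
        ← Scheme.Modules.Hom.comp_app, biprod.inl_snd, biprod.inr_snd]
      exact zero_add _
    obtain ⟨t, ht⟩ := kernel_exists_app d w (by rw [happ, h1, h2, hab, sub_self])
    refine ⟨t, ?_, ?_⟩
    · exact (congrArg ((biprod.fst : N ⊞ Pm ⟶ N).app Z) ht).trans h1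
    · exact (congrArg ((biprod.snd : N ⊞ Pm ⟶ Pm).app Z) ht).trans h2
  have hpqa : ∀ Z t, ρ.app Z (p.app Z t) = φ.app Z (q.app Z t) := fun Z t =>
    congr(($hpq).app Z t)
  let R := Scheme.Modules.restrictFunctor j
  let ε := (Scheme.Modules.restrictAdjunction j).counit
  have tri : R.map ρ ≫ ε.app (N.restrict j) = 𝟙 _ :=
    (Scheme.Modules.restrictAdjunction j).left_triangle_components N
  have hρiso : IsIso (R.map ρ) := by
    have : IsIso (R.map ρ ≫ ε.app (N.restrict j)) := by rw [tri]; exact inferInstanceAs (IsIso (𝟙 _))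
    exact IsIso.of_isIso_comp_right (R.map ρ) (ε.app (N.restrict j))
  have hρ : ∀ B, Function.Bijective (ρ.app (j ''ᵁ B)) := fun B =>
    (ConcreteCategory.isIso_iff_bijective _).1
      (inferInstanceAs (IsIso ((R.map ρ).app B)))
  have hqiso : IsIso (R.map q) := Groth.CohTwo.isIso_of_app_bijective _ fun B => by
    refine ⟨(injective_iff_map_eq_zero _).2 fun t ht => hext _ t ((hρ B).1 ?_) ht, fun b => ?_⟩
    · change ρ.app _ (p.app _ t) = ρ.app _ 0
      rw [hpqa, map_zero]
      exact (congrArg (φ.app _) ht).trans (map_zero _)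
    · obtain ⟨a, ha⟩ := (hρ B).2 (φ.app (j ''ᵁ B) b)
      obtain ⟨t, -, ht⟩ := hlift _ a b ha
      exact ⟨t, ht⟩
  refine ⟨kernel d, inferInstance, p, asIso (R.map q) ≪≫ asIso (ε.app M), ?_, fun Z hZ => ?_⟩
  · change (R.map q ≫ ε.app M) ≫ f = R.map p
    have hnat : R.map φ ≫ ε.app (N.restrict j) = ε.app M ≫ f := ε.naturality f
    rw [Category.assoc, ← hnat, ← Category.assoc, ← R.map_comp, ← hpq, R.map_comp, Category.assoc,
      tri, Category.comp_id]
  · have hφ : Function.Bijective (φ.app Z) := hZ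
    refine ⟨(injective_iff_map_eq_zero _).2 fun t ht => hext Z t ht (hφ.1 ?_), fun a => ?_⟩
    · rw [← hpqa, ht, map_zero, map_zero]
    · obtain ⟨b, hb⟩ := hφ.2 (ρ.app Z a)
      obtain ⟨t, ht, -⟩ := hlift Z a b hb.symm
      exact ⟨t, ht⟩

/-- Finite presentation over the points of an open subscheme, read upstairs. -/
theorem fp_image_iff {V : X.Opens} (N : X.Modules) (B : (V : Scheme.{u}).Opens) :
    Module.FinitePresentation Γ((V : Scheme.{u}), B) Γ(N.restrict V.ι, B) ↔
      Module.FinitePresentation Γ(X, V.ι ''ᵁ B) Γ(N, V.ι ''ᵁ B) := by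
  constructor
  · intro h
    exact finitePresentation_of_semilinear (R := Γ((V : Scheme.{u}), B)) (M := Γ(N.restrict V.ι, B))
      (RingEquiv.refl _) (AddEquiv.refl _) fun r m => ofRestr_smul N V B r m
  · intro h
    exact finitePresentation_of_semilinear (R := Γ(X, V.ι ''ᵁ B)) (M := Γ(N, V.ι ''ᵁ B))
      (RingEquiv.refl _) (AddEquiv.refl _) fun r m => (ofRestr_smul N V B r m).symm

/-- An isomorphic module with finitely presented sections. -/
theorem fp_of_iso {M N : X.Modules} (e : M ≅ N) {A : X.Opens}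
    (h : Module.FinitePresentation Γ(X, A) Γ(N, A)) :
    Module.FinitePresentation Γ(X, A) Γ(M, A) := by
  have : IsIso e.inv := inferInstance
  exact .of_equiv (LinearEquiv.ofBijective (appₗ e.inv A)
    ((ConcreteCategory.isIso_iff_bijective (e.inv.app A)).1 inferInstance))

theorem fpOn_of_restrict {N : X.Modules} {V : X.Opens} {M : (V : Scheme.{u}).Modules}
    [M.IsQuasicoherent] (hM : CohB1.IsFP M) (e : N.restrict V.ι ≅ M) : FPOn N V := by
  intro x hx
  obtain ⟨B, hB, hxB⟩ := exists_affine_mem (X := (V : Scheme.{u})) ⟨x, hx⟩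
  refine ⟨V.ι ''ᵁ B, V.ι_image_le B, hB.image_of_isOpenImmersion V.ι, ⟨⟨x, hx⟩, hxB, rfl⟩,
    (fp_image_iff N B).1 (fp_of_iso e ?_)⟩
  exact Groth.PropsBasic.FPSections.finitePresentation_sections M hM hB

/-- One more affine open. -/
theorem exists_grow [QuasiSeparatedSpace X] (N : X.Modules) [N.IsQuasicoherent] {W V : X.Opens}
    (hV : IsAffineOpen V) (hWc : IsCompact (W : Set X)) (hN : FPOn N W) :
    ∃ (N' : X.Modules) (_ : N'.IsQuasicoherent) (p : N' ⟶ N),
      (∀ Z ≤ W, Function.Bijective (p.app Z)) ∧ FPOn N' (W ⊔ V) := by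
  have : IsAffine (V : Scheme.{u}) := hV
  have : QuasiCompact V.ι := quasiCompact_of_compactSpace V.ι
  have : (N.restrict V.ι).IsQuasicoherent := Scheme.Modules.isQuasicoherent_restrictFunctor V.ι N
  have hWV : IsCompact ((V.ι ⁻¹ᵁ W : (V : Scheme.{u}).Opens) : Set (V : Scheme.{u})) :=
    V.ι.isCompact_preimage hWc
  have hfp : FPOn (N.restrict V.ι) (V.ι ⁻¹ᵁ W) := by
    intro y hy
    obtain ⟨A, hAW, hA, hxA, h⟩ := hN (V.ι y) hy
    obtain ⟨B, hB, hyB, hBA⟩ :=
      exists_isAffineOpen_mem_and_subset (x := y) (U := V.ι ⁻¹ᵁ A) hxA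
    refine ⟨B, le_trans hBA (V.ι.preimage_mono hAW), hB, hyB, (fp_image_iff N B).2 ?_⟩
    refine fp_of_le N hA h (hB.image_of_isOpenImmersion V.ι) ?_
    exact (V.ι.image_mono hBA).trans (V.ι.image_preimage_le A)
  obtain ⟨M, hMq, f, hM, hf⟩ := exists_affine_step (N.restrict V.ι) hWV hfp
  obtain ⟨N', hN'q, p, e, -, hp⟩ := exists_push_step N V M f
  have hpW : ∀ Z ≤ W, Function.Bijective (p.app Z) := fun Z hZ =>
    hp Z (hf _ (V.ι.preimage_mono hZ))
  refine ⟨N', hN'q, p, hpW, fun x hx => ?_⟩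
  rcases hx with hxW | hxV
  · obtain ⟨A, hAW, hA, hxA, h⟩ := hN x hxW
    exact ⟨A, hAW.trans le_sup_left, hA, hxA,
      .of_equiv (LinearEquiv.ofBijective (appₗ p A) (hpW A hAW)).symm⟩
  · obtain ⟨A, hAV, hA, hxA, h⟩ := fpOn_of_restrict hM e x hxV
    exact ⟨A, hAV.trans le_sup_right, hA, hxA, h⟩

/-- Extension of finitely presented modules with a map. -/
theorem exists_extension_fp [CompactSpace X] [QuasiSeparatedSpace X] (F : X.Modules)
    [F.IsQuasicoherent] (U : X.Opens) (hU : IsCompact (U : Set X)) (G : (U : Scheme.{u}).Modules)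
    (hG : CohB1.IsFP G) (φ : G ⟶ F.restrict U.ι) :
    ∃ (G' : X.Modules) (φ' : G' ⟶ F) (e : G'.restrict U.ι ≅ G), G'.IsQuasicoherent ∧
      CohB1.IsFP G' ∧ e.hom ≫ φ = (Scheme.Modules.restrictFunctor U.ι).map φ' := by
  classical
  have : CompactSpace (U : Scheme.{u}) := isCompact_iff_compactSpace.mp hU
  have : QuasiCompact U.ι := quasiCompact_of_compactSpace U.ι
  have : G.IsQuasicoherent := by
    have := hG; infer_instance
  obtain ⟨N₀, hN₀q, p₀, e₀, he₀, -⟩ := exists_push_step F U G φ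
  obtain ⟨n, V, hV, hcov, -, -⟩ := exists_finite_cover (X := X)
  have key : ∀ s : Finset (Fin n), ∃ (N : X.Modules) (_ : N.IsQuasicoherent) (g : N ⟶ N₀),
      (∀ Z ≤ U, Function.Bijective (g.app Z)) ∧ FPOn N (U ⊔ s.sup V) := by
    intro s
    induction s using Finset.induction_on with
    | empty =>
      refine ⟨N₀, hN₀q, 𝟙 _, fun Z _ => Function.bijective_id, ?_⟩
      rw [Finset.sup_empty, sup_bot_eq]
      exact fpOn_of_restrict hG e₀
    | insert a s _ ih =>
      obtain ⟨N, hNq, g, hg, hfp⟩ := ih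
      have hc : IsCompact ((U ⊔ s.sup V : X.Opens) : Set X) := by
        rw [Opens.coe_sup, Opens.coe_finset_sup, Finset.sup_set_eq_biUnion]
        exact hU.union (s.finite_toSet.isCompact_biUnion fun i _ => (hV i).isCompact)
      obtain ⟨N', hN'q, p, hp, hfp'⟩ := exists_grow N (hV a) hc hfp
      refine ⟨N', hN'q, p ≫ g, fun Z hZ => ?_, ?_⟩
      · rw [Scheme.Modules.Hom.comp_app]
        exact (hg Z hZ).comp (hp Z (hZ.trans le_sup_left))
      · rw [Finset.sup_insert, sup_left_comm, ← sup_assoc, sup_comm (V a), sup_assoc,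
          sup_comm (V a), ← sup_assoc]
        exact hfp'
  obtain ⟨N, hNq, g, hg, hfp⟩ := key Finset.univ
  have htop : U ⊔ Finset.univ.sup V = ⊤ := by
    rw [Finset.sup_univ_eq_iSup, hcov, sup_top_eq]
  have hgiso : IsIso ((Scheme.Modules.restrictFunctor U.ι).map g) :=
    Groth.CohTwo.isIso_of_app_bijective _ fun B => hg _ (U.ι_image_le B)
  refine ⟨N, g ≫ p₀, asIso ((Scheme.Modules.restrictFunctor U.ι).map g) ≪≫ e₀, hNq,
    isFP_of_fpOn_top N (htop ▸ hfp), ?_⟩
  rw [Iso.trans_hom, Category.assoc, he₀, asIso_hom, Functor.map_comp]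

end Groth.QCohMod
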