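import Groth.Agent.QCohMod.QCQS
import Groth.Agent.QCohMod.Stalk

/-!
# Sections supported off an open subscheme
-/

universe u

open CategoryTheory Limits AlgebraicGeometry Opposite TopologicalSpace

namespace Groth.QCohMod

variable {X : Scheme.{u}}

/-- Restriction to an open is zero iff the stalks at its points are. -/
theorem isZero_restrict_iff_stalk (M : X.Modules) (U : X.Opens) :
    IsZero ((Scheme.Modules.restrictFunctor U.ι).obj M) ↔ ∀ x ∈ U, IsZero ((stalk x).obj M) := by
  rw [isZero_iff_stalk]
  refine ⟨fun h x hx ↦ (h ⟨x, hx⟩).of_iso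
    ((Scheme.Modules.restrictStalkNatIso U.ι ⟨x, hx⟩).app M).symm, fun h x ↦ ?_⟩
  exact (h x.1 x.2).of_iso ((Scheme.Modules.restrictStalkNatIso U.ι x).app M)

/-- A module with zero stalks on an open has no nonzero sections on it. -/
theorem subsingleton_sections_of_stalk (M : X.Modules) (W : X.Opens)
    (h : ∀ x ∈ W, IsZero ((stalk x).obj M)) : Subsingleton Γ(M, W) := by
  refine ⟨fun a b ↦ ?_⟩
  refine TopCat.Presheaf.section_ext ⟨M.presheaf, M.isSheaf⟩ W a b fun x hx ↦ ?_
  exact @Subsingleton.elim _ (AddCommGrpCat.subsingleton_of_isZero (h x hx)) _ _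

/-- The unit `F ⟶ j_* j^* F` of an open. -/
noncomputable abbrev openUnit (U : X.Opens) (F : X.Modules) :
    F ⟶ (Scheme.Modules.pushforward U.ι).obj ((Scheme.Modules.restrictFunctor U.ι).obj F) :=
  (Scheme.Modules.restrictAdjunction U.ι).unit.app F

instance (U : X.Opens) (F : X.Modules) :
    IsIso ((Scheme.Modules.restrictFunctor U.ι).map (openUnit U F)) := by
  have h := (Scheme.Modules.restrictAdjunction U.ι).left_triangle_components F
  have : IsIso ((Scheme.Modules.restrictAdjunction U.ι).counit.app
      ((Scheme.Modules.restrictFunctor U.ι).obj F)) := inferInstance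
  exact IsIso.of_isIso_fac_right h

lemma isIso_stalk_openUnit (U : X.Opens) (F : X.Modules) {x : X} (hx : x ∈ U) :
    IsIso ((stalk x).map (openUnit U F)) :=
  (NatIso.isIso_map_iff (Scheme.Modules.restrictStalkNatIso U.ι ⟨x, hx⟩) (openUnit U F)).mp
    (by dsimp only [Functor.comp_map]; infer_instance)

end Groth.QCohMod
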