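import Groth.Agent.QCohMod.Stalk
import Groth.Agent.QCohMod.QCQS
import Mathlib.RingTheory.Support

/-!
# Quasi-coherent modules on an affine open: stalks, support
-/

universe u

open CategoryTheory Limits AlgebraicGeometry Opposite TopologicalSpace

namespace Groth.QCohMod

variable {X : Scheme.{u}}

/-- The germ map on sections. -/
noncomputable abbrev germ (M : X.Modules) {U : X.Opens} (x : X) (hx : x ∈ U) :
    Γ(M, U) →+ M.presheaf.stalk x :=
  (M.presheaf.germ U x hx).hom

lemma germ_res (M : X.Modules) {U V : X.Opens} (h : V ≤ U) (x : X) (hx : x ∈ V) (m : Γ(M, U)) :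
    germ M x hx (res M h m) = germ M x (h hx) m :=
  TopCat.Presheaf.germ_res_apply M.presheaf (homOfLE h) x hx m

lemma germ_smul (M : X.Modules) {U : X.Opens} (x : X) (hx : x ∈ U) (r : Γ(X, U)) (m : Γ(M, U)) :
    germ M x hx (r • m) = X.presheaf.germ U x hx r • germ M x hx m :=
  PresheafOfModules.germ_smul (R := X.presheaf)
    (show PresheafOfModules (X.presheaf ⋙ forget₂ CommRingCat RingCat) from M.val) x U hx r m

lemma exists_germ (M : X.Modules) (x : X) (t : M.presheaf.stalk x) :
    ∃ (U : X.Opens) (hx : x ∈ U) (m : Γ(M, U)), germ M x hx m = t :=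
  TopCat.Presheaf.exists_germ_eq M.presheaf t

lemma stalk_map_germ {M N : X.Modules} (φ : M ⟶ N) {U : X.Opens} (x : X) (hx : x ∈ U)
    (m : Γ(M, U)) : (stalk x).map φ (germ M x hx m) = germ N x hx (φ.app U m) :=
  TopCat.Presheaf.stalkFunctor_map_germ_apply U x hx φ.mapPresheaf m

lemma exists_basicOpen_mem {U V : X.Opens} (hU : IsAffineOpen U) {x : X} (hxU : x ∈ U)
    (hxV : x ∈ V) : ∃ f : Γ(X, U), x ∈ X.basicOpen f ∧ X.basicOpen f ≤ V := by
  obtain ⟨f, hf, hf'⟩ := hU.exists_basicOpen_le (⟨x, hxV⟩ : V) hxU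
  exact ⟨f, hf', hf⟩

/-- Every element of the stalk of a quasi-coherent module at a point of an affine open `U` is a
germ of a section over `U` up to a function invertible at the point. -/
theorem exists_smul_germ_eq (M : X.Modules) [M.IsQuasicoherent] {U : X.Opens}
    (hU : IsAffineOpen U) (x : X) (hx : x ∈ U) (t : M.presheaf.stalk x) :
    ∃ (a : Γ(X, U)) (m : Γ(M, U)), x ∈ X.basicOpen a ∧
      X.presheaf.germ U x hx a • t = germ M x hx m := by
  obtain ⟨V, hxV, s, rfl⟩ := exists_germ M x t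
  obtain ⟨f, hxf, hfV⟩ := exists_basicOpen_mem hU hx hxV
  obtain ⟨n, m, hm⟩ := exists_pow_smul_eq_res M hU f (res M hfV s)
  refine ⟨f ^ n, m, ?_, ?_⟩
  · rw [Scheme.mem_basicOpen X (f ^ n) x hx, map_pow]
    exact ((Scheme.mem_basicOpen X f x hx).mp hxf).pow n
  · have := congr(germ M x hxf $hm)
    rw [germ_smul, germ_res, germ_res, ← map_pow] at this
    rw [this]
    congr 1
    exact (TopCat.Presheaf.germ_res_apply X.presheaf (homOfLE (X.basicOpen_le f)) x hxf _).symm

/-- A section over an affine open with zero germ at a point is killed by a function invertible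
there. -/
theorem exists_smul_eq_zero_of_germ_eq_zero (M : X.Modules) [M.IsQuasicoherent] {U : X.Opens}
    (hU : IsAffineOpen U) (x : X) (hx : x ∈ U) (m : Γ(M, U)) (h : germ M x hx m = 0) :
    ∃ a : Γ(X, U), x ∈ X.basicOpen a ∧ a • m = 0 := by
  obtain ⟨W, hxW, i, i', hW⟩ := TopCat.Presheaf.germ_eq M.presheaf x hx hx m 0
    (h.trans (map_zero (germ M x hx)).symm)
  obtain ⟨f, hxf, hfW⟩ := exists_basicOpen_mem hU hx hxW
  have hres : res M (X.basicOpen_le f) m = 0 := by
    rw [← res_res M i.le hfW]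
    exact (congr(res M hfW $hW)).trans (by erw [map_zero, map_zero])
  obtain ⟨n, hn⟩ := exists_pow_smul_eq_zero M hU f m hres
  refine ⟨f ^ n, ?_, hn⟩
  rw [Scheme.mem_basicOpen X (f ^ n) x hx, map_pow]
  exact ((Scheme.mem_basicOpen X f x hx).mp hxf).pow n

lemma mem_basicOpen_iff_notMem_primeIdealOf {U : X.Opens} (hU : IsAffineOpen U) (a : Γ(X, U))
    (x : X) (hx : x ∈ U) :
    x ∈ X.basicOpen a ↔ a ∉ (hU.primeIdealOf ⟨x, hx⟩).asIdeal := by
  conv_lhs => rw [show x = hU.fromSpec (hU.primeIdealOf ⟨x, hx⟩) from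
    (hU.fromSpec_primeIdealOf ⟨x, hx⟩).symm]
  change hU.primeIdealOf ⟨x, hx⟩ ∈ hU.fromSpec ⁻¹ᵁ X.basicOpen a ↔ _
  rw [hU.fromSpec_preimage_basicOpen]
  rfl

/-- The `Γ(X, U)`-module structure on the stalk at a point of `U`. -/
@[reducible]
noncomputable def stalkModule (M : X.Modules) {U : X.Opens} (x : X) (hx : x ∈ U) :
    Module Γ(X, U) (M.presheaf.stalk x) :=
  Module.compHom (M.presheaf.stalk x) (X.presheaf.germ U x hx).hom

/-- The germ map as a linear map over `Γ(X, U)`. -/
noncomputable def germₗ (M : X.Modules) {U : X.Opens} (x : X) (hx : x ∈ U) :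
    letI := stalkModule M x hx
    Γ(M, U) →ₗ[Γ(X, U)] M.presheaf.stalk x :=
  let _ := stalkModule M x hx
  { toFun := germ M x hx
    map_add' := map_add _
    map_smul' := fun r m ↦ germ_smul M x hx r m }

/-- The stalk of a quasi-coherent module is the localization of the sections over an affine open
neighbourhood. -/
theorem isLocalizedModule_germ (M : X.Modules) [M.IsQuasicoherent] {U : X.Opens}
    (hU : IsAffineOpen U) (x : X) (hx : x ∈ U) :
    letI := stalkModule M x hx
    IsLocalizedModule (hU.primeIdealOf ⟨x, hx⟩).asIdeal.primeCompl (germₗ M x hx) := by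
  let _ := stalkModule M x hx
  have hunit : ∀ a : (hU.primeIdealOf ⟨x, hx⟩).asIdeal.primeCompl,
      IsUnit (X.presheaf.germ U x hx a.1) := fun a ↦
    (Scheme.mem_basicOpen X a.1 x hx).mp ((mem_basicOpen_iff_notMem_primeIdealOf hU a.1 x hx).mpr a.2)
  refine ⟨fun a ↦ ?_, fun t ↦ ?_, fun {m₁ m₂} h ↦ ?_⟩
  · rw [Module.End.isUnit_iff]
    exact (hunit a).smul_bijective
  · obtain ⟨a, m, ha, hm⟩ := exists_smul_germ_eq M hU x hx t
    exact ⟨⟨m, a, (mem_basicOpen_iff_notMem_primeIdealOf hU a x hx).mp ha⟩, hm⟩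
  · obtain ⟨a, ha, ham⟩ := exists_smul_eq_zero_of_germ_eq_zero M hU x hx (m₁ - m₂)
      (by rw [map_sub]; exact sub_eq_zero.mpr h)
    refine ⟨⟨a, (mem_basicOpen_iff_notMem_primeIdealOf hU a x hx).mp ha⟩, ?_⟩
    rw [smul_sub, sub_eq_zero] at ham
    exact ham

/-- The support of a quasi-coherent module on an affine open. -/
theorem mem_support_iff (M : X.Modules) [M.IsQuasicoherent] {U : X.Opens} (hU : IsAffineOpen U)
    (x : X) (hx : x ∈ U) :
    x ∈ CohB1.support M ↔ hU.primeIdealOf ⟨x, hx⟩ ∈ Module.support Γ(X, U) Γ(M, U) := by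
  let _ := stalkModule M x hx
  have := isLocalizedModule_germ M hU x hx
  rw [Module.mem_support_iff,
    ← (IsLocalizedModule.iso (hU.primeIdealOf ⟨x, hx⟩).asIdeal.primeCompl
      (germₗ M x hx)).toEquiv.symm.nontrivial_congr, ← not_subsingleton_iff_nontrivial]
  rfl

/-- The support of a quasi-coherent module is stable under specialization. -/
theorem stableUnderSpecialization_support (M : X.Modules) [M.IsQuasicoherent] :
    StableUnderSpecialization (CohB1.support M) := by
  intro y x hyx hy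
  obtain ⟨U, hU, hxU⟩ := exists_affine_mem x
  have hyU : y ∈ U := hyx.mem_open U.2 hxU
  rw [mem_support_iff M hU x hxU]
  rw [mem_support_iff M hU y hyU, Module.mem_support_iff'] at hy
  obtain ⟨m, hm⟩ := hy
  refine Module.mem_support_iff'.mpr ⟨m, fun r hr ↦ hm r fun hry ↦ ?_⟩
  have hr' := (mem_basicOpen_iff_notMem_primeIdealOf hU r y hyU).mp
    (hyx.mem_open (X.basicOpen r).2 ((mem_basicOpen_iff_notMem_primeIdealOf hU r x hxU).mpr hr))
  exact hr' hry

lemma support_eq_of_iso {M N : X.Modules} (e : M ≅ N) : CohB1.support M = CohB1.support N := by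
  ext x
  exact not_congr ((stalk x).mapIso e).addCommGroupIsoToAddEquiv.toEquiv.subsingleton_congr

end Groth.QCohMod
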