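import Groth.Agent.QCohMod.ClosedImm
import Groth.Agent.QCohMod.QCQS
import Groth.Agent.QCohMod.Coherent
import Groth.Agent.SiteCohomology.SchemeModules

/-!
# Quasi-coherent modules killed by an ideal sheaf; direct image along closed immersions
-/

universe u

open CategoryTheory Limits AlgebraicGeometry Opposite TopologicalSpace

namespace Groth.QCohMod

variable {X Z : Scheme.{u}}

/-- The stalk maps are semilinear over germs of functions. -/
lemma stalk_map_germ_smul {M N : X.Modules} (φ : M ⟶ N) {U : X.Opens} (x : X) (hx : x ∈ U)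
    (r : Γ(X, U)) (t : M.presheaf.stalk x) :
    (stalk x).map φ (X.presheaf.germ U x hx r • t) =
      X.presheaf.germ U x hx r • (show N.presheaf.stalk x from (stalk x).map φ t) := by
  obtain ⟨V, hxV, s, rfl⟩ := exists_germ M x t
  have hx' : x ∈ U ⊓ V := ⟨hx, hxV⟩
  have hr : X.presheaf.germ (U ⊓ V) x hx' (resFun X inf_le_left r) = X.presheaf.germ U x hx r :=
    TopCat.Presheaf.germ_res_apply X.presheaf (homOfLE inf_le_left) x hx' r
  rw [← germ_res M (inf_le_right : U ⊓ V ≤ V) x hx' s, ← hr, ← germ_smul]
  erw [stalk_map_germ, stalk_map_germ]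
  rw [φ.app_smul, germ_smul]

/-- A module killed by an ideal sheaf. -/
def Killed (I : X.IdealSheafData) (G : X.Modules) : Prop :=
  ∀ (U : X.affineOpens) (a : Γ(X, U.1)), a ∈ I.ideal U → ∀ s : Γ(G, U.1), a • s = 0

/-- Multiplication by a germ of a function on a stalk. -/
noncomputable def germMul (M : X.Modules) {U : X.Opens} (x : X) (hx : x ∈ U) (a : Γ(X, U)) :
    (stalk x).obj M ⟶ (stalk x).obj M :=
  AddCommGrpCat.ofHom (DistribSMul.toAddMonoidHom (M.presheaf.stalk x)
    (X.presheaf.germ U x hx a))

lemma germMul_eq_zero_of_killed {I : X.IdealSheafData} {G : X.Modules} [G.IsQuasicoherent]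
    (hG : Killed I G) (U : X.affineOpens) {a : Γ(X, U.1)} (ha : a ∈ I.ideal U) (x : X)
    (hx : x ∈ U.1) : germMul G x hx a = 0 := by
  refine AddCommGrpCat.ext fun (t : G.presheaf.stalk x) => ?_
  obtain ⟨b, m, hb, hbm⟩ := exists_smul_germ_eq G U.2 x hx t
  change X.presheaf.germ U.1 x hx a • t = (0 : G.presheaf.stalk x)
  refine ((Scheme.mem_basicOpen X b x hx).mp hb).smul_left_cancel.mp ?_
  change X.presheaf.germ U.1 x hx b • (X.presheaf.germ U.1 x hx a • t) = _
  rw [smul_comm, hbm, ← germ_smul, hG U a ha m, map_zero]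
  exact (smul_zero (X.presheaf.germ U.1 x hx b)).symm

/-- Coproducts of killed quasi-coherent modules are killed. -/
theorem killed_sigma (I : X.IdealSheafData) {ι : Type u} (G : ι → X.Modules)
    [∀ i, (G i).IsQuasicoherent] (hG : ∀ i, Killed I (G i)) : Killed I (∐ G) := by
  intro U a ha s
  refine TopCat.Presheaf.section_ext ⟨(∐ G).presheaf, (∐ G).isSheaf⟩ U.1 _ _ fun x hx => ?_
  have h0 : germMul (∐ G) x hx a = 0 := by
    refine (isColimitOfPreserves (stalk x) (colimit.isColimit (Discrete.functor G))).hom_ext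
      fun ⟨i⟩ => ?_
    rw [comp_zero]
    refine AddCommGrpCat.ext fun t => ?_
    have h1 := congr($(germMul_eq_zero_of_killed (hG i) U ha x hx) t)
    change X.presheaf.germ U.1 x hx a •
      (show (∐ G).presheaf.stalk x from (stalk x).map (Sigma.ι G i) t) = 0
    rw [← stalk_map_germ_smul]
    exact (congrArg ((stalk x).map (Sigma.ι G i)) h1).trans (map_zero _)
  have h2 := congr($h0 (germ (∐ G) x hx s))
  change germ (∐ G) x hx (a • s) = germ (∐ G) x hx 0
  rw [germ_smul, map_zero]
  exact h2

/-- Quotients of killed quasi-coherent modules are killed. -/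
theorem killed_of_epi {I : X.IdealSheafData} {G H : X.Modules} [G.IsQuasicoherent]
    [H.IsQuasicoherent] (φ : G ⟶ H) [Epi φ] (hG : Killed I G) : Killed I H := by
  intro U a ha s
  obtain ⟨t, rfl⟩ := app_surjective_of_epi φ U.2 s
  rw [← φ.app_smul, hG U a ha t, map_zero]

/-- Every quasi-coherent module has a largest quasi-coherent submodule killed by an ideal. -/
theorem exists_killed_sub (I : X.IdealSheafData) (F : X.Modules) [F.IsQuasicoherent] :
    ∃ (K : X.Modules) (k : K ⟶ F), Mono k ∧ K.IsQuasicoherent ∧ Killed I K ∧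
      ∀ (G : X.Modules) [G.IsQuasicoherent] (φ : G ⟶ F), Killed I G → ∃ ψ, ψ ≫ k = φ := by
  let T := {P : Subobject F // (P : X.Modules).IsQuasicoherent ∧ Killed I (P : X.Modules)}
  let G : Shrink.{u} T → X.Modules := fun P => ((equivShrink T).symm P).1
  let g : ∐ G ⟶ F := Sigma.desc fun P => ((equivShrink T).symm P).1.arrow
  have hGq : ∀ P, (G P).IsQuasicoherent := fun P => ((equivShrink T).symm P).2.1
  have hσ : Killed I (∐ G) := killed_sigma I G fun P => ((equivShrink T).symm P).2.2
  refine ⟨Abelian.image g, Abelian.image.ι g, inferInstance, inferInstance,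
    killed_of_epi (Abelian.factorThruImage g) hσ, ?_⟩
  intro H _ φ hH
  let P : Subobject F := Subobject.mk (Abelian.image.ι φ)
  have hP : (P : X.Modules).IsQuasicoherent ∧ Killed I (P : X.Modules) := by
    have hq : (P : X.Modules).IsQuasicoherent :=
      (isQCoh_iff_of_iso (Subobject.underlyingIso (Abelian.image.ι φ))).mpr (isQCoh_image φ)
    refine ⟨hq, ?_⟩
    exact killed_of_epi (Abelian.factorThruImage φ ≫
      (Subobject.underlyingIso (Abelian.image.ι φ)).inv) hH
  refine ⟨Abelian.factorThruImage φ ≫ (Subobject.underlyingIso (Abelian.image.ι φ)).inv ≫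
    eqToHom (show (P : X.Modules) = G (equivShrink T ⟨P, hP⟩) by simp [G]) ≫
    Sigma.ι G (equivShrink T ⟨P, hP⟩) ≫ Abelian.factorThruImage g, ?_⟩
  have harr : eqToHom (show (P : X.Modules) = G (equivShrink T ⟨P, hP⟩) by simp [G]) ≫
      Sigma.ι G (equivShrink T ⟨P, hP⟩) ≫ g = P.arrow := by
    have : ∀ (t t' : T) (e : t = t') (e' : (t.1 : X.Modules) = (t'.1 : X.Modules)),
        eqToHom e' ≫ t'.1.arrow = t.1.arrow := by
      rintro t t' rfl e'; simp
    rw [Sigma.ι_desc]
    exact this ⟨P, hP⟩ ((equivShrink T).symm (equivShrink T ⟨P, hP⟩))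
      (Equiv.symm_apply_apply _ _).symm _
  simp only [Category.assoc, Abelian.image.fac, harr]
  simp [P]

/-! ### Direct images along closed immersions -/

variable (i : Z ⟶ X) [IsClosedImmersion i]

instance (G : Z.Modules) [G.IsQuasicoherent] :
    ((Scheme.Modules.pushforward i).obj G).IsQuasicoherent :=
  isQCoh_pushforward G i

theorem killed_pushforward (G : Z.Modules) :
    Killed i.ker ((Scheme.Modules.pushforward i).obj G) := by
  intro U a ha s
  apply (pushEquiv i G U.1).injective
  rw [pushEquiv_smul, map_zero]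
  rw [Scheme.Hom.ker_apply, RingHom.mem_ker] at ha
  exact (congrArg (· • pushEquiv i G U.1 s) ha).trans (zero_smul _ _)

lemma exists_preimage_eq (W : Z.Opens) : ∃ U : X.Opens, i ⁻¹ᵁ U = W := by
  obtain ⟨U, hU, hUW⟩ := i.isClosedEmbedding.isInducing.isOpen_iff.mp W.2
  exact ⟨⟨U, hU⟩, Opens.ext hUW⟩

instance : (Scheme.Modules.pushforward i).Faithful where
  map_injective {M N} f g h := by
    refine Scheme.Modules.hom_ext f g fun W => ?_
    obtain ⟨U, rfl⟩ := exists_preimage_eq i W
    exact congr(($h).app U)

instance : (Scheme.Modules.pushforward i).ReflectsIsomorphisms where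
  reflects {M N} f hf := by
    refine Scheme.Modules.Hom.isIso_iff_isIso_app.mpr fun W => ?_
    obtain ⟨U, rfl⟩ := exists_preimage_eq i W
    exact Scheme.Modules.Hom.isIso_iff_isIso_app.mp hf U

theorem isIso_counit_closedImmersion (G : Z.Modules) [G.IsQuasicoherent] :
    IsIso ((Scheme.Modules.pullbackPushforwardAdjunction i).counit.app G) := by
  have := (isIso_unit_closedImmersion_iff i ((Scheme.Modules.pushforward i).obj G)).mpr
    (killed_pushforward i G)
  have : IsIso ((Scheme.Modules.pushforward i).map
      ((Scheme.Modules.pullbackPushforwardAdjunction i).counit.app G)) :=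
    IsIso.of_isIso_fac_left
      ((Scheme.Modules.pullbackPushforwardAdjunction i).right_triangle_components G)
  exact isIso_of_reflects_iso _ (Scheme.Modules.pushforward i)

/-- Maps between direct images of quasi-coherent modules along a closed immersion come from
upstairs. -/
theorem exists_map_pushforward_eq {G H : Z.Modules} [G.IsQuasicoherent]
    (φ : (Scheme.Modules.pushforward i).obj G ⟶ (Scheme.Modules.pushforward i).obj H) :
    ∃ g : G ⟶ H, (Scheme.Modules.pushforward i).map g = φ := by
  let adj := Scheme.Modules.pullbackPushforwardAdjunction i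
  have := isIso_counit_closedImmersion i G
  refine ⟨inv (adj.counit.app G) ≫ (Scheme.Modules.pullback i).map φ ≫ adj.counit.app H, ?_⟩
  have h1 : inv ((Scheme.Modules.pushforward i).map (adj.counit.app G)) =
      adj.unit.app ((Scheme.Modules.pushforward i).obj G) :=
    IsIso.inv_eq_of_inv_hom_id (adj.right_triangle_components G)
  rw [Functor.map_comp, Functor.map_comp, Functor.map_inv, h1, ← Category.assoc]
  erw [← adj.unit.naturality φ]
  rw [Category.assoc, adj.right_triangle_components]
  exact Category.comp_id φ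

end Groth.QCohMod
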