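import Groth.Agent.QCohMod.QCohCatBasic
import Groth.Agent.QCohMod.Generators
import Groth.Agent.SiteCohomology.SchemeModules
import Mathlib.CategoryTheory.Abelian.Subcategory
import Mathlib.CategoryTheory.Abelian.GrothendieckCategory.EnoughInjectives
import Mathlib.CategoryTheory.Abelian.GrothendieckAxioms.Colim

/-!
# The category of quasi-coherent modules is Grothendieck abelian; the coherator
-/

universe u

open CategoryTheory Limits AlgebraicGeometry Opposite TopologicalSpace

namespace Groth.QCohMod

variable (X : Scheme.{u})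

instance : (QCohCat.isQCoh X).IsClosedUnderIsomorphisms where
  of_iso e h := (isQCoh_iff_of_iso e).mp h

/-- Quasi-coherent modules are closed under small colimits. -/
instance closedUnderColimits {J : Type u} [SmallCategory J] :
    (QCohCat.isQCoh X).IsClosedUnderColimitsOfShape J :=
  ObjectProperty.IsClosedUnderColimitsOfShape.mk' (by
    rintro _ ⟨K, hK⟩
    haveI : ∀ j, (K.obj j).IsQuasicoherent := hK
    exact isQCoh_of_isColimit K _ (colimit.isColimit K))

instance : HasColimitsOfSize.{u, u} (QCohCat.QCoh X) where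
  has_colimits_of_shape _ _ := inferInstance

noncomputable instance : PreservesColimitsOfSize.{u, u} (QCohCat.isQCoh X).ι where
  preservesColimitsOfShape := inferInstance

instance : (QCohCat.isQCoh X).IsClosedUnderKernels where
  kernels_le := by
    rintro _ ⟨f, k, hk, hX, hY⟩
    exact (isQCoh_iff_of_iso (IsLimit.conePointUniqueUpToIso (kernelIsKernel f) hk)).mp
      (@isQCoh_kernel X _ _ hX hY f)

instance : (QCohCat.isQCoh X).IsClosedUnderCokernels where
  cokernels_le := by
    rintro _ ⟨f, k, hk, hX, hY⟩
    exact (isQCoh_iff_of_iso (IsColimit.coconePointUniqueUpToIso (cokernelIsCokernel f) hk)).mp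
      (@isQCoh_cokernel X _ _ hX hY f)

instance : (QCohCat.isQCoh X).ContainsZero where
  exists_zero := ⟨_, isZero_kernel_of_mono (𝟙 (Coh.structureModule X)), isQCoh_kernel _⟩

instance : (QCohCat.isQCoh X).IsClosedUnderFiniteProducts where
  isClosedUnderLimitsOfShape J _ := ObjectProperty.IsClosedUnderLimitsOfShape.mk' (by
    rintro _ ⟨K, hK⟩
    let f : J → X.Modules := fun j => K.obj ⟨j⟩
    haveI : HasFiniteBiproducts X.Modules := Abelian.hasFiniteBiproducts
    haveI := Fintype.ofFinite J
    have e : limit K ≅ ⨁ f :=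
      HasLimit.isoOfNatIso (Discrete.natIsoFunctor : K ≅ Discrete.functor f) ≪≫
        (biproduct.isoProduct f).symm
    haveI : ∀ j, ((Discrete.functor f).obj j).IsQuasicoherent := fun j => hK ⟨j.as⟩
    exact (isQCoh_iff_of_iso (biproduct.isoCoproduct f)).mpr
      (isQCoh_of_isColimit (Discrete.functor f) _ (colimit.isColimit _)) |> (isQCoh_iff_of_iso e).mpr)

noncomputable instance abelianQCoh : Abelian (QCohCat.QCoh X) :=
  inferInstanceAs (Abelian (QCohCat.isQCoh X).FullSubcategory)

noncomputable instance : PreservesFiniteLimits (QCohCat.isQCoh X).ι :=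
  ((Functor.preservesFiniteLimits_tfae (QCohCat.isQCoh X).ι).out 2 3).mp
    fun _ _ f => (QCohCat.isQCoh X).preservesKernels_ι f

/-- The generators. -/
theorem isSeparating_gen :
    (ObjectProperty.ofObj fun d : GenIdx (fun i => (X.affineCover.f i).opensRange) =>
      toQCoh (gen _ d)).IsSeparating := by
  intro M N f g h
  refine ObjectProperty.hom_ext _ (sub_eq_zero.mp ?_)
  let U := fun i => (X.affineCover.f i).opensRange
  have hU : ∀ i, IsAffineOpen (U i) := fun i => isAffineOpen_opensRange _
  have hcov : iSup U = ⊤ := Opens.ext (Set.eq_univ_of_forall fun x =>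
    Opens.mem_iSup.mpr ⟨_, X.affineCover.covers x⟩)
  have : IsIso (kernel.ι (f.hom - g.hom)) := by
    refine Groth.Ega2Proj.isIso_of_affine_cover _ U hU hcov fun i =>
      ⟨app_injective_of_mono _ _, fun m => ?_⟩
    obtain ⟨d, ψ, a, rfl⟩ := exists_gen_hit hU hcov M.obj i m
    have h0 : ψ ≫ (f.hom - g.hom) = 0 := by
      have := congrArg (fun φ => φ.hom)
        (h (toQCoh (gen U d)) ⟨d⟩ (ObjectProperty.homMk ψ))
      rw [Preadditive.comp_sub, sub_eq_zero]
      exact this

    refine ⟨(kernel.lift _ ψ h0).app (U i) a, ?_⟩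
    rw [← ConcreteCategory.comp_apply, ← Scheme.Modules.Hom.comp_app, kernel.lift_ι]
  exact (cancel_epi (kernel.ι (f.hom - g.hom))).mp
    ((kernel.condition _).trans comp_zero.symm)

instance : HasSeparator (QCohCat.QCoh X) :=
  ⟨_, (isSeparating_gen X).isSeparator_coproduct⟩

instance isGrothendieckAbelian_qcoh : IsGrothendieckAbelian.{u} (QCohCat.QCoh X) where
  ab5OfSize := ⟨fun J _ _ => by
    haveI := HasExactColimitsOfShape.domain_of_functor J (QCohCat.isQCoh X).ι
    infer_instance⟩

/-- The coherator: the inclusion has a right adjoint. -/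
theorem ι_isLeftAdjoint : (QCohCat.isQCoh X).ι.IsLeftAdjoint := by
  obtain ⟨G, hG⟩ := HasSeparator.hasSeparator (C := QCohCat.QCoh X)
  exact isLeftAdjoint_of_preservesColimits_of_isSeparating (P := ObjectProperty.singleton G)
    hG _

end Groth.QCohMod
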