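import Groth.Agent.QCohMod.FilteredSections
import Groth.Agent.QCohMod.Generators
import Groth.Agent.QCohMod.QCohCatAbelian
import Groth.Agent.PropsBasic.FPSections

/-!
# Homomorphisms out of a quasi-coherent module of finite presentation and filtered colimits
-/

universe u

open CategoryTheory Limits AlgebraicGeometry Opposite TopologicalSpace

namespace Groth.QCohMod

variable {X : Scheme.{u}} {J : Type u} [SmallCategory J] [IsFiltered J] {D : J ⥤ X.Modules}
  {c : Cocone D} (hc : IsColimit c)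

include hc in
/-- Finitely many sections over compact opens killed in the colimit are killed at one stage. -/
theorem exists_map_eq_zero_finite {α : Type*} [Finite α] {W : α → X.Opens}
    (hW : ∀ a, IsCompact (W a : Set X)) {i : J} (d : ∀ a, Γ(D.obj i, W a))
    (h : ∀ a, (coc c i).app (W a) (d a) = 0) :
    ∃ (k : J) (u : i ⟶ k), ∀ a, (D.map u).app (W a) (d a) = 0 := by
  classical
  have := Fintype.ofFinite α
  suffices key : ∀ t : Finset α, ∃ (k : J) (u : i ⟶ k), ∀ a ∈ t, (D.map u).app (W a) (d a) = 0 by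
    obtain ⟨k, u, hu⟩ := key Finset.univ
    exact ⟨k, u, fun a => hu a (Finset.mem_univ a)⟩
  intro t
  induction t using Finset.induction_on with
  | empty => exact ⟨i, 𝟙 i, by simp⟩
  | insert a t _ ih =>
    obtain ⟨k, u, hu⟩ := ih
    obtain ⟨k', v, hv⟩ := exists_map_eq_zero hc (hW a) ((D.map u).app (W a) (d a))
      (by rw [cocone_app_app, h a])
    refine ⟨k', u ≫ v, fun b hb => ?_⟩
    rw [map_app_app]
    rcases Finset.mem_insert.mp hb with rfl | hb
    · exact hv
    · rw [hu b hb, map_zero]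

omit [IsFiltered J] in
lemma appₗ_map_comp {i j k : J} (a : i ⟶ j) (b : j ⟶ k) (W : X.Opens) :
    appₗ (D.map (a ≫ b)) W = appₗ (D.map b) W ∘ₗ appₗ (D.map a) W :=
  LinearMap.ext fun d => map_app_app a b W d

include hc in
/-- A linear map out of finitely presented sections into the colimit comes from a stage. -/
theorem exists_linear_lift [∀ j, (D.obj j).IsQuasicoherent] [c.pt.IsQuasicoherent] {U : X.Opens}
    (hU : IsAffineOpen U) {N : Type u} [AddCommGroup N] [Module Γ(X, U) N]
    [Module.FinitePresentation Γ(X, U) N] (φ : N →ₗ[Γ(X, U)] Γ(c.pt, U)) :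
    ∃ (j : J) (L : N →ₗ[Γ(X, U)] Γ(D.obj j, U)), appₗ (coc c j) U ∘ₗ L = φ := by
  classical
  obtain ⟨n, K, e, hK⟩ := Module.FinitePresentation.exists_fin Γ(X, U) N
  let ψ : (Fin n → Γ(X, U)) →ₗ[Γ(X, U)] Γ(c.pt, U) := φ ∘ₗ e.symm.toLinearMap ∘ₗ K.mkQ
  let b := Pi.basisFun Γ(X, U) (Fin n)
  choose j₀ d₀ hd₀ using fun k => exists_app_eq_affine hc hU (ψ (b k))
  obtain ⟨j, hj⟩ := IsFiltered.sup_objs_exists (Finset.univ.image j₀)
  let u := fun k => (hj (Finset.mem_image_of_mem j₀ (Finset.mem_univ k))).some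
  let Λ : (Fin n → Γ(X, U)) →ₗ[Γ(X, U)] Γ(D.obj j, U) :=
    b.constr Γ(X, U) fun k => (D.map (u k)).app U (d₀ k)
  have hΛ : appₗ (coc c j) U ∘ₗ Λ = ψ := b.ext fun k => by
    simp only [Λ, LinearMap.comp_apply, Module.Basis.constr_basis, appₗ_apply, cocone_app_app, hd₀]
  obtain ⟨T, hT⟩ := hK
  obtain ⟨k, v, hv⟩ := exists_map_eq_zero_finite hc (α := T) (W := fun _ => U)
    (fun _ => hU.isCompact) (fun κ => Λ κ.1) (fun κ => by
      have h0 : K.mkQ κ.1 = 0 :=
        (Submodule.Quotient.mk_eq_zero K).mpr (hT ▸ Submodule.subset_span κ.2)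
      refine (LinearMap.congr_fun hΛ κ.1).trans ?_
      simp [ψ, h0])
  have hle : K ≤ LinearMap.ker (appₗ (D.map v) U ∘ₗ Λ) := by
    rw [← hT, Submodule.span_le]
    exact fun x hx => hv ⟨x, hx⟩
  refine ⟨k, K.liftQ _ hle ∘ₗ e.toLinearMap, LinearMap.ext fun x => ?_⟩
  obtain ⟨y, hy⟩ := K.mkQ_surjective (e x)
  simp only [LinearMap.comp_apply, LinearEquiv.coe_coe, ← hy, Submodule.liftQ_mkQ,
    Submodule.mkQ_apply, Submodule.liftQ_apply, appₗ_apply, cocone_app_app]
  refine (LinearMap.congr_fun hΛ y).trans ?_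
  simp [ψ, hy]

section

variable {F : X.Modules} [F.IsQuasicoherent]

/-- A morphism out of a quasi-coherent module is zero if it kills the sections on a cover. -/
lemma hom_eq_zero_of_cover {M : X.Modules} [M.IsQuasicoherent] (φ : F ⟶ M) {ι : Type*}
    (U : ι → X.Opens) (hU : ∀ i, IsAffineOpen (U i)) (hcov : iSup U = ⊤)
    (h : ∀ i a, φ.app (U i) a = 0) : φ = 0 := by
  have : IsIso (kernel.ι φ) :=
    Groth.Ega2Proj.isIso_of_affine_cover _ U hU hcov fun i => ⟨app_injective_of_mono _ _, fun a =>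
      exists_app_eq_of_mono_exact (S := ShortComplex.mk _ _ (kernel.condition φ))
        (ShortComplex.exact_of_f_is_kernel _ (kernelIsKernel φ)) (U i) a (h i a)⟩
  exact (cancel_epi (kernel.ι φ)).mp ((kernel.condition _).trans comp_zero.symm)

/-- Compatible linear maps on two affine opens: a common basic open on which they match on
generators forces agreement on all smaller basic opens. -/
lemma agree_on {M : X.Modules} {U V : X.Opens} (hV : IsAffineOpen V)
    (L : Γ(F, U) →ₗ[Γ(X, U)] Γ(M, U)) (L' : Γ(F, V) →ₗ[Γ(X, V)] Γ(M, V))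
    (p : BOv U V) {G : Set Γ(F, U)} (hG : Submodule.span Γ(X, U) G = ⊤)
    (hgen : ∀ g ∈ G, ∃ (N : ℕ) (b : Γ(F, V)),
      res F (p.2.le.trans (X.basicOpen_le _)) b =
        resFun X (p.2.le.trans (X.basicOpen_le _)) p.1.2 ^ N • res F (X.basicOpen_le p.1.1) g ∧
      res M (p.2.le.trans (X.basicOpen_le _)) (L' b) =
        resFun X (p.2.le.trans (X.basicOpen_le _)) p.1.2 ^ N • res M (X.basicOpen_le p.1.1) (L g))
    (a : Γ(F, U)) (b : Γ(F, V)) (h : Γ(X, V)) (hZ : X.basicOpen h ≤ X.basicOpen p.1.1)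
    (r : Γ(X, X.basicOpen h))
    (hab : res F (X.basicOpen_le h) b = r • res F (hZ.trans (X.basicOpen_le _)) a) :
    res M (X.basicOpen_le h) (L' b) = r • res M (hZ.trans (X.basicOpen_le _)) (L a) := by
  set W := X.basicOpen p.1.1
  set f := resFun X (p.2.le.trans (X.basicOpen_le _) : W ≤ V) p.1.2 with hf
  have hfu : IsUnit f := by
    have := (RingedSpace.isUnit_res_basicOpen X.toLocallyRingedSpace.toRingedSpace p.1.2).map
      (resFun X p.2.le)
    change IsUnit (resFun X _ (resFun X (X.basicOpen_le p.1.2) p.1.2)) at this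
    rwa [resFun_resFun] at this
  have key : ∀ x, ∃ (N : ℕ) (y : Γ(F, V)),
      res F (p.2.le.trans (X.basicOpen_le _)) y = f ^ N • res F (X.basicOpen_le p.1.1) x ∧
      res M (p.2.le.trans (X.basicOpen_le _)) (L' y) =
        f ^ N • res M (X.basicOpen_le p.1.1) (L x) := by
    intro x
    have hx : x ∈ Submodule.span Γ(X, U) G := hG.ge trivial
    induction hx using Submodule.span_induction with
    | mem g hg => exact hgen g hg
    | zero => exact ⟨0, 0, by simp, by simp⟩
    | add x₁ x₂ _ _ h₁ h₂ =>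
      obtain ⟨N₁, y₁, e₁, e₁'⟩ := h₁
      obtain ⟨N₂, y₂, e₂, e₂'⟩ := h₂
      refine ⟨N₁ + N₂, p.1.2 ^ N₂ • y₁ + p.1.2 ^ N₁ • y₂, ?_, ?_⟩
      · rw [map_add, res_smul, res_smul, e₁, e₂, map_pow, map_pow, ← hf, map_add, smul_add,
          ← mul_smul, ← mul_smul, ← pow_add, ← pow_add, add_comm N₂ N₁]
      · rw [map_add, map_smul, map_smul, map_add, res_smul, res_smul, e₁', e₂', map_pow, map_pow,
          ← hf, map_add, map_add, smul_add, ← mul_smul, ← mul_smul, ← pow_add, ← pow_add,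
          add_comm N₂ N₁]
    | smul s x _ hx =>
      obtain ⟨N, y, e, e'⟩ := hx
      let _ : Algebra Γ(X, V) Γ(X, X.basicOpen p.1.2) := (resFun X (X.basicOpen_le p.1.2)).toAlgebra
      have : IsLocalization.Away p.1.2 Γ(X, X.basicOpen p.1.2) := hV.isLocalization_basicOpen p.1.2
      obtain ⟨⟨s', _, m, rfl⟩, hs⟩ := IsLocalization.surj (Submonoid.powers p.1.2)
        (resFun X (p.2.ge.trans le_rfl) (resFun X (X.basicOpen_le p.1.1) s))
      have hs' : resFun X (p.2.le.trans (X.basicOpen_le _)) s' =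
          resFun X (X.basicOpen_le p.1.1) s * f ^ m := by
        have := congr(resFun X p.2.le $hs)
        change resFun X p.2.le (_ * resFun X (X.basicOpen_le p.1.2) (p.1.2 ^ m)) =
          resFun X p.2.le (resFun X (X.basicOpen_le p.1.2) s') at this
        rw [map_mul, resFun_resFun, resFun_self, resFun_resFun, resFun_resFun, map_pow] at this
        exact this.symm
      refine ⟨N + m, s' • y, ?_, ?_⟩
      · rw [res_smul, e, hs', res_smul, ← mul_smul, ← mul_smul, pow_add]
        congr 1; ring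
      · rw [map_smul, res_smul, e', hs', map_smul, res_smul, ← mul_smul, ← mul_smul, pow_add]
        congr 1; ring
  obtain ⟨N, y, e, e'⟩ := key a
  have hZV : X.basicOpen h ≤ W := hZ
  have e2 := congr(res F hZV $e)
  have e2' := congr(res M hZV $e')
  rw [res_res, res_smul, res_res] at e2 e2'
  set fZ := resFun X hZV (f ^ N) with hfZ
  have hfZV : resFun X (X.basicOpen_le h) (p.1.2 ^ N) = fZ := by
    rw [hfZ, hf, ← map_pow, resFun_resFun]
  let _ : Algebra Γ(X, V) Γ(X, X.basicOpen h) := (resFun X (X.basicOpen_le h)).toAlgebra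
  have : IsLocalization.Away h Γ(X, X.basicOpen h) := hV.isLocalization_basicOpen h
  obtain ⟨⟨r', _, m, rfl⟩, hr⟩ := IsLocalization.surj (Submonoid.powers h) r
  have hr' : resFun X (X.basicOpen_le h) r' = r * resFun X (X.basicOpen_le h) (h ^ m) := hr.symm
  have hh : IsUnit (resFun X (X.basicOpen_le h) h) := RingedSpace.isUnit_res_basicOpen _ _
  obtain ⟨k, hk⟩ := exists_pow_smul_eq_zero F hV h ((h ^ m * p.1.2 ^ N) • b - r' • y) (by
    rw [map_sub, res_smul, res_smul, hab, e2, map_mul, hfZV, hr', ← mul_smul, ← mul_smul, sub_eq_zero]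
    congr 1; ring)
  have := congr(res M (X.basicOpen_le h) (L' $hk))
  rw [map_zero, map_zero] at this
  simp only [LinearMap.map_smul, LinearMap.map_sub, res_smul, map_sub] at this
  rw [e2', map_pow, (hh.pow k).smul_eq_zero, sub_eq_zero, map_mul, hfZV, hr'] at this
  refine ((hh.pow m).mul (show IsUnit fZ from (hfu.pow N).map _)).smul_left_cancel.mp ?_
  rw [← map_pow, this, ← mul_smul, ← mul_smul]
  congr 1; ring

end

/-- A quasi-coherent module of finite presentation on a qcqs scheme: morphisms into a filtered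
colimit factor through a stage. -/
theorem exists_hom_lift_of_isFP [CompactSpace X] [QuasiSeparatedSpace X]
    [∀ j, (D.obj j).IsQuasicoherent] [c.pt.IsQuasicoherent] (hc : IsColimit c)
    (F : X.Modules) [F.IsQuasicoherent] (hF : CohB1.IsFP F) (φ : F ⟶ c.pt) :
    ∃ (j : J) (ψ : F ⟶ D.obj j), ψ ≫ coc c j = φ := by
  classical
  let ι := X.affineCover.finiteSubcover.I₀
  have : Finite ι := inferInstance
  let U : ι → X.Opens := fun i => (X.affineCover.finiteSubcover.f i).opensRange
  have hU : ∀ i, IsAffineOpen (U i) := fun i => isAffineOpen_opensRange _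
  have hcov : iSup U = ⊤ := Opens.ext (Set.eq_univ_of_forall fun x =>
    Opens.mem_iSup.mpr ⟨_, X.affineCover.finiteSubcover.covers x⟩)
  have hfp : ∀ i, Module.FinitePresentation Γ(X, U i) Γ(F, U i) := fun i =>
    PropsBasic.FPSections.finitePresentation_sections F hF (hU i)
  -- lifts on the members of the cover
  choose j₁ L₁ hL₁ using fun i => exists_linear_lift hc (hU i) (appₗ φ (U i))
  have := Fintype.ofFinite ι
  obtain ⟨j₀, hj₀⟩ := IsFiltered.sup_objs_exists (Finset.univ.image j₁)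
  let L : ∀ i, Γ(F, U i) →ₗ[Γ(X, U i)] Γ(D.obj j₀, U i) := fun i =>
    appₗ (D.map (hj₀ (Finset.mem_image_of_mem j₁ (Finset.mem_univ i))).some) (U i) ∘ₗ L₁ i
  have hL : ∀ i a, (coc c j₀).app (U i) (L i a) = φ.app (U i) a := fun i a => by
    simp only [L, LinearMap.comp_apply, appₗ_apply, cocone_app_app]
    exact LinearMap.congr_fun (hL₁ i) a
  -- finitely many overlaps
  have hov : ∀ q : ι × ι, ∃ t : Finset (BOv (U q.1) (U q.2)),
      ∀ x ∈ U q.1 ⊓ U q.2, ∃ p ∈ t, x ∈ X.basicOpen p.1.1 := by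
    intro q
    have hcpt : IsCompact ((U q.1 ⊓ U q.2 : X.Opens) : Set X) :=
      QuasiSeparatedSpace.inter_isCompact _ _ (U q.1).2 (hU q.1).isCompact (U q.2).2
        (hU q.2).isCompact
    obtain ⟨t, ht⟩ := hcpt.elim_finite_subcover
      (fun p : BOv (U q.1) (U q.2) => (X.basicOpen p.1.1 : Set X))
      (fun p => (X.basicOpen p.1.1).2) (fun x hx => by
        obtain ⟨f, g, hfg, hxf⟩ := exists_basicOpen_le_affine_inter (hU q.1) (hU q.2) x hx
        exact Set.mem_iUnion.mpr ⟨⟨(f, g), hfg⟩, hxf⟩)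
    exact ⟨t, fun x hx => by simpa using ht hx⟩
  choose t ht using hov
  -- finitely many generators
  choose G hG using fun i => (Module.Finite.fg_top : (⊤ : Submodule Γ(X, U i) Γ(F, U i)).FG)
  have hex : ∀ (i k : ι) (p : BOv (U i) (U k)) (a : Γ(F, U i)), ∃ (N : ℕ) (b : Γ(F, U k)),
      res F (p.2.le.trans (X.basicOpen_le _)) b =
        resFun X (p.2.le.trans (X.basicOpen_le _)) p.1.2 ^ N •
          res F (X.basicOpen_le p.1.1) a := by
    intro i k p a
    obtain ⟨N, b, hb⟩ := exists_pow_smul_eq_res F (hU k) p.1.2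
      (res F p.2.ge (res F (X.basicOpen_le p.1.1) a))
    refine ⟨N, b, ?_⟩
    have := congr(res F p.2.le $hb)
    rw [res_res, res_smul, map_pow, resFun_resFun, res_res, res_self] at this
    exact this
  choose N B hB using hex
  let α := Σ q : ι × ι, (t q) × (G q.1)
  let W : α → X.Opens := fun a => X.basicOpen a.2.1.1.1.1
  have hW : ∀ a, IsCompact (W a : Set X) := fun a => ((hU a.1.1).basicOpen _).isCompact
  let d : ∀ a : α, Γ(D.obj j₀, W a) := fun a =>
    res _ (a.2.1.1.2.le.trans (X.basicOpen_le _)) (L a.1.2 (B a.1.1 a.1.2 a.2.1.1 a.2.2.1)) -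
      resFun X (a.2.1.1.2.le.trans (X.basicOpen_le _)) a.2.1.1.1.2 ^ N a.1.1 a.1.2 a.2.1.1 a.2.2.1 •
        res _ (X.basicOpen_le a.2.1.1.1.1) (L a.1.1 a.2.2.1)
  have hd : ∀ a, (coc c j₀).app (W a) (d a) = 0 := by
    intro a
    simp only [d, map_sub, Scheme.Modules.Hom.app_smul, ← res_app, hL]
    rw [res_app, res_app, ← Scheme.Modules.Hom.app_smul, ← map_sub, hB, sub_self, map_zero]
  obtain ⟨k₀, u, hu⟩ := exists_map_eq_zero_finite hc hW d hd
  let L' : ∀ i, Γ(F, U i) →ₗ[Γ(X, U i)] Γ(D.obj k₀, U i) := fun i =>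
    appₗ (D.map u) (U i) ∘ₗ L i
  have hlink : Linked (D.obj k₀) (fun i k p a => N i k p a) (fun i k p a => B i k p a)
      (fun i a => L' i a) := by
    intro i k p a
    refine Groth.CohTwo.eq_of_local _ _ _ fun x hx => ?_
    obtain ⟨q, hq, hxq⟩ := ht (i, k) x
      ⟨X.basicOpen_le p.1.1 hx, X.basicOpen_le p.1.2 (p.2.le hx)⟩
    have hZW : X.basicOpen (p.1.2 * q.1.2) ≤ X.basicOpen p.1.1 := by
      rw [Scheme.basicOpen_mul]; exact inf_le_left.trans p.2.ge
    have hZq : X.basicOpen (p.1.2 * q.1.2) ≤ X.basicOpen q.1.1 := by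
      rw [Scheme.basicOpen_mul]; exact inf_le_right.trans q.2.ge
    refine ⟨X.basicOpen (p.1.2 * q.1.2), hZW, ?_, ?_⟩
    · rw [Scheme.basicOpen_mul]; exact ⟨p.2.le hx, q.2.le hxq⟩
    change res _ hZW _ = res _ hZW _
    beta_reduce
    rw [res_res, res_smul, map_pow, resFun_resFun, res_res]
    refine agree_on (hU k) (L' i) (L' k) q (G := (G i : Set _)) (hG i) (fun g hg => ?_) a
      (B i k p a) (p.1.2 * q.1.2) hZq _ ?_
    · refine ⟨N i k q g, B i k q g, hB i k q g, ?_⟩
      have := hu ⟨(i, k), ⟨q, hq⟩, ⟨g, hg⟩⟩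
      simp only [d, map_sub, Scheme.Modules.Hom.app_smul, ← res_app, sub_eq_zero] at this
      exact this
    · have := congr(res F hZW $(hB i k p a))
      rw [res_res, res_smul, map_pow, resFun_resFun, res_res] at this
      exact this
  obtain ⟨ψ, hψ⟩ := exists_hom_of_linked hU hcov (K := F) (M := D.obj k₀)
    (T := fun i => Γ(F, U i)) (gK := fun i a => a) (fun i k p a => hB i k p a)
    (fun i => by simp) hlink (fun i l hl => by
      rw [LinearMap.mem_ker] at hl ⊢
      rw [show (fun a => L' i a) = L' i ∘ id from rfl, ← Finsupp.apply_linearCombination]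
      exact (congrArg (L' i) hl).trans (map_zero _))
  refine ⟨k₀, ψ, sub_eq_zero.mp (hom_eq_zero_of_cover _ U hU hcov fun i a => ?_)⟩
  have h1 : ψ.app (U i) a = L' i a := hψ i a
  change (coc c k₀).app (U i) (ψ.app (U i) a) - φ.app (U i) a = 0
  rw [h1, sub_eq_zero]
  simp only [L', LinearMap.comp_apply, appₗ_apply, cocone_app_app]
  exact hL i a

/-- Morphisms out of a finite type module equal in the colimit agree at a later stage. -/
theorem exists_hom_eq_zero_of_isFT [CompactSpace X]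
    [∀ j, (D.obj j).IsQuasicoherent] (hc : IsColimit c)
    (F : X.Modules) [F.IsQuasicoherent] (hF : CohB1.IsFT F) {i : J} (ψ : F ⟶ D.obj i)
    (h : ψ ≫ coc c i = 0) : ∃ (k : J) (u : i ⟶ k), ψ ≫ D.map u = 0 := by
  classical
  let U := fun i => (X.affineCover.finiteSubcover.f i).opensRange
  have hU : ∀ i, IsAffineOpen (U i) := fun i => isAffineOpen_opensRange _
  have hcov : iSup U = ⊤ := Opens.ext (Set.eq_univ_of_forall fun x =>
    Opens.mem_iSup.mpr ⟨_, X.affineCover.finiteSubcover.covers x⟩)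
  have := fun l => finite_sections F hF (hU l)
  choose G hG using fun l => (Module.Finite.fg_top : (⊤ : Submodule Γ(X, U l) Γ(F, U l)).FG)
  obtain ⟨k, u, hu⟩ := exists_map_eq_zero_finite hc (α := Σ l, G l) (W := fun a => U a.1)
    (fun a => (hU a.1).isCompact) (fun a => ψ.app (U a.1) a.2.1)
    (fun a => congr($(congrArg (fun f : F ⟶ c.pt => f.app (U a.1)) h) a.2.1))
  refine ⟨k, u, hom_eq_zero_of_cover _ U hU hcov fun l a => ?_⟩
  have ha : a ∈ Submodule.span Γ(X, U l) (G l : Set _) := (hG l).ge trivial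
  change a ∈ LinearMap.ker (appₗ (ψ ≫ D.map u) (U l))
  refine Submodule.span_le.mpr ?_ ha
  exact fun g hg => hu ⟨l, g, hg⟩

end Groth.QCohMod
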