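import Groth.Agent.QCohMod.ExtendFP
import Groth.Agent.QCohMod.FPPresentable
import Mathlib

/-!
# Quasi-coherent modules as directed colimits of modules of finite presentation
-/

universe u

open CategoryTheory CategoryTheory.Limits AlgebraicGeometry Opposite TopologicalSpace

set_option backward.isDefEq.respectTransparency.types false

namespace Groth.QCohMod

variable {X : Scheme.{u}}

/-! ### Images as sheaves of submodules -/

/-- The sections which are locally in the image of a morphism. -/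
noncomputable def SubMod.imgOf {M G : X.Modules} (f : M ⟶ G) : SubMod G where
  mem W :=
    { carrier := {s | ∀ x ∈ W, ∃ (W' : X.Opens) (h : W' ≤ W), x ∈ W' ∧
        res G h s ∈ LinearMap.range (appₗ f W')}
      add_mem' := fun {s t} hs ht x hx => by
        obtain ⟨A, hA, hxA, a, ha⟩ := hs x hx
        obtain ⟨B, hB, hxB, b, hb⟩ := ht x hx
        refine ⟨A ⊓ B, inf_le_left.trans hA, ⟨hxA, hxB⟩,
          res M inf_le_left a + res M inf_le_right b, ?_⟩
        rw [map_add, map_add, appₗ_apply, appₗ_apply, ← res_app, ← res_app,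
          ← appₗ_apply f A, ← appₗ_apply f B, ha, hb, res_res, res_res]
      zero_mem' := fun x hx => ⟨W, le_rfl, hx, by rw [map_zero]; exact zero_mem _⟩
      smul_mem' := fun r s hs x hx => by
        obtain ⟨A, hA, hxA, ha⟩ := hs x hx
        exact ⟨A, hA, hxA, by rw [res_smul]; exact Submodule.smul_mem _ _ ha⟩ }
  res_mem {W W'} h s hs x hx := by
    obtain ⟨A, hA, hxA, a, ha⟩ := hs x (h hx)
    refine ⟨A ⊓ W', inf_le_right, ⟨hxA, hx⟩, res M inf_le_left a, ?_⟩
    rw [appₗ_apply, ← res_app, ← appₗ_apply, ha, res_res, res_res]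
  local_mem {W} s hs x hx := by
    obtain ⟨W', h, hxW', hs'⟩ := hs x hx
    obtain ⟨A, hA, hxA, ha⟩ := hs' x hxW'
    rw [res_res] at ha
    exact ⟨A, hA.trans h, hxA, ha⟩

lemma SubMod.app_mem_imgOf {M G : X.Modules} (f : M ⟶ G) {W : X.Opens} (m : Γ(M, W)) :
    f.app W m ∈ (SubMod.imgOf f).mem W := fun x hx =>
  ⟨W, le_rfl, hx, m, (res_self G _).symm⟩

lemma SubMod.exists_of_mem_imgOf {M G : X.Modules} [M.IsQuasicoherent] [G.IsQuasicoherent]
    (f : M ⟶ G) {A : X.Opens} (hA : IsAffineOpen A) {s : Γ(G, A)}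
    (hs : s ∈ (SubMod.imgOf f).mem A) : ∃ m, f.app A m = s := by
  refine exists_app_eq_of_exact (S := ShortComplex.mk f (cokernel.π f) (cokernel.condition f))
    (ShortComplex.exact_of_g_is_cokernel _ (cokernelIsCokernel f)) hA s ?_
  refine Groth.CohTwo.eq_of_local _ _ _ fun x hx => ?_
  obtain ⟨W, hW, hxW, m, hm⟩ := hs x hx
  refine ⟨W, hW, hxW, ?_⟩
  change res _ hW ((cokernel.π f).app A s) = res _ hW 0
  rw [res_app, ← hm, map_zero]
  exact congr(($(cokernel.condition f)).app W m)

lemma SubMod.imgOf_le_ker {M G F : X.Modules} (f : M ⟶ G) (π : G ⟶ F) (h : f ≫ π = 0)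
    {W : X.Opens} {s : Γ(G, W)} (hs : s ∈ (SubMod.imgOf f).mem W) : π.app W s = 0 := by
  refine Groth.CohTwo.eq_of_local _ _ _ fun x hx => ?_
  obtain ⟨A, hA, hxA, a, ha⟩ := hs x hx
  refine ⟨A, hA, hxA, ?_⟩
  change res _ hA (π.app W s) = res _ hA 0
  rw [res_app, ← ha, map_zero]
  exact congr(($h).app A a)

lemma SubMod.imgOf_goodOn {M G : X.Modules} [M.IsQuasicoherent] [G.IsQuasicoherent]
    (f : M ⟶ G) (hM : CohB1.IsFT M) : (SubMod.imgOf f).GoodOn ⊤ := by
  intro x _
  obtain ⟨A, hA, hxA⟩ := exists_affine_mem x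
  have := finite_sections M hM hA
  have hmem : (SubMod.imgOf f).mem A = LinearMap.range (appₗ f A) :=
    le_antisymm (fun s hs => SubMod.exists_of_mem_imgOf f hA hs)
      (by rintro _ ⟨m, rfl⟩; exact SubMod.app_mem_imgOf f m)
  refine ⟨A, le_top, hxA, hA, hmem ▸ Submodule.fg_range _, fun g s hs => ?_⟩
  obtain ⟨m, rfl⟩ := SubMod.exists_of_mem_imgOf f (hA.basicOpen g) hs
  obtain ⟨n, t, ht⟩ := exists_pow_smul_eq_res M hA g m
  exact ⟨n, f.app A t, SubMod.app_mem_imgOf f t, by rw [res_app, ht, Scheme.Modules.Hom.app_smul]⟩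

/-- The zero sheaf of submodules. -/
noncomputable def SubMod.zero (G : X.Modules) : SubMod G where
  mem _ := ⊥
  res_mem h s hs := by rw [Submodule.mem_bot] at hs ⊢; rw [hs, map_zero]
  local_mem {W} s hs := by
    rw [Submodule.mem_bot]
    refine Groth.CohTwo.eq_of_local _ _ _ fun x hx => ?_
    obtain ⟨W', h, hxW', h0⟩ := hs x hx
    rw [Submodule.mem_bot] at h0
    exact ⟨W', h, hxW', h0.trans (map_zero _).symm⟩

lemma SubMod.zero_goodOn (G : X.Modules) : (SubMod.zero G).GoodOn ⊤ := fun x _ => by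
  obtain ⟨A, hA, hxA⟩ := exists_affine_mem x
  refine ⟨A, le_top, hxA, hA, Submodule.fg_bot, fun f s hs => ⟨0, 0, zero_mem _, ?_⟩⟩
  rw [show s = 0 from hs, map_zero, smul_zero]

lemma SubMod.ext' {G : X.Modules} {P Q : SubMod G} (h : ∀ W, P.mem W = Q.mem W) : P = Q := by
  cases P; cases Q
  simp only [SubMod.mk.injEq]
  exact funext h

theorem isFT_biprod {M N : X.Modules} [M.IsQuasicoherent] [N.IsQuasicoherent]
    (hM : CohB1.IsFT M) (hN : CohB1.IsFT N) : CohB1.IsFT (M ⊞ N : X.Modules) :=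
  (isFT_iff _).2 fun A hA => by
    have := finite_sections M hM hA
    have := finite_sections N hN hA
    refine Module.Finite.of_surjective
      ((appₗ (biprod.inl : M ⟶ M ⊞ N) A).coprod (appₗ (biprod.inr : N ⟶ M ⊞ N) A)) fun a => ?_
    exact ⟨((biprod.fst : M ⊞ N ⟶ M).app A a, (biprod.snd : M ⊞ N ⟶ N).app A a),
      app_sum_inl_inr M N A a⟩

/-! ### The colimit -/

section

variable {I : Type u} [PartialOrder I] (G : I ⥤ X.Modules)
  {F : X.Modules} (π : G ⟶ (Functor.const I).obj F)

/-- A stage: an index and a finite type submodule of the kernel. -/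
structure StageIdx where
  i : I
  P : SubMod (G.obj i)
  good : P.GoodOn ⊤
  ker : ∀ W s, s ∈ P.mem W → (π.app i).app W s = 0

namespace StageIdx

variable {G π}

lemma map_self {i : I} (h : i ⟶ i) {W : X.Opens} (s : Γ(G.obj i, W)) :
    (G.map h).app W s = s := by
  rw [Subsingleton.elim h (𝟙 i), G.map_id]
  rfl

instance : PartialOrder (StageIdx G π) where
  le a b := ∃ h : a.i ≤ b.i, ∀ W s, s ∈ a.P.mem W → (G.map (homOfLE h)).app W s ∈ b.P.mem W
  le_refl a := ⟨le_rfl, fun W s hs => by rwa [map_self]⟩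
  le_trans a b c := by
    rintro ⟨h, H⟩ ⟨h', H'⟩
    refine ⟨h.trans h', fun W s hs => ?_⟩
    rw [← homOfLE_comp h h', G.map_comp]
    exact H' W _ (H W s hs)
  le_antisymm := by
    rintro ⟨i, P, hP, kP⟩ ⟨i', P', hP', kP'⟩ ⟨h, H⟩ ⟨h', H'⟩
    obtain rfl : i = i' := le_antisymm h h'
    obtain rfl : P = P' := SubMod.ext' fun W => le_antisymm
      (fun s hs => by have := H W s hs; rwa [map_self] at this)
      (fun s hs => by have := H' W s hs; rwa [map_self] at this)
    rfl

lemma natπ {i j : I} (h : i ⟶ j) (W : X.Opens) (s : Γ(G.obj i, W)) :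
    (π.app j).app W ((G.map h).app W s) = (π.app i).app W s :=
  congr(($((π.naturality h).trans (Category.comp_id _))).app W s)

/-- The quotient at a stage. -/
noncomputable abbrev obj (a : StageIdx G π) : X.Modules := cokernel a.P.ι

noncomputable def mapHom {a b : StageIdx G π} (h : a ≤ b) : obj a ⟶ obj b :=
  cokernel.desc a.P.ι (G.map (homOfLE h.1) ≫ cokernel.π b.P.ι) <| by
    refine Groth.CohTwo.hom_ext_app fun W s => ?_
    obtain ⟨t, ht⟩ := b.P.exists_ι_app_eq _ (h.2 W _ (a.P.ι_app_mem s))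
    change (cokernel.π b.P.ι).app W ((G.map (homOfLE h.1)).app W (a.P.ι.app W s)) = 0
    rw [← ht]
    exact congr(($(cokernel.condition b.P.ι)).app W t)

@[reassoc]
lemma π_mapHom {a b : StageIdx G π} (h : a ≤ b) :
    cokernel.π a.P.ι ≫ mapHom h = G.map (homOfLE h.1) ≫ cokernel.π b.P.ι :=
  cokernel.π_desc _ _ _

variable (G π)

/-- The diagram of quotients. -/
noncomputable def diagram : StageIdx G π ⥤ X.Modules where
  obj a := obj a
  map h := mapHom (leOfHom h)
  map_id a := by
    rw [← cancel_epi (cokernel.π a.P.ι), π_mapHom, Category.comp_id]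
    simp
  map_comp {a b c} h h' := by
    rw [← cancel_epi (cokernel.π a.P.ι), π_mapHom, π_mapHom_assoc, π_mapHom, ← G.map_comp_assoc,
      homOfLE_comp]

/-- The maps to the module. -/
noncomputable def toF : diagram G π ⟶ (Functor.const (StageIdx G π)).obj F where
  app a := cokernel.desc a.P.ι (π.app a.i) <|
    Groth.CohTwo.hom_ext_app fun W s => a.ker W _ (a.P.ι_app_mem s)
  naturality {a b} h := by
    change mapHom (leOfHom h) ≫ _ = _ ≫ 𝟙 F
    rw [← cancel_epi (cokernel.π a.P.ι), π_mapHom_assoc, Category.comp_id, cokernel.π_desc,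
      cokernel.π_desc]
    exact (π.naturality _).trans (Category.comp_id _)

variable {G π}

lemma epi_map [∀ (i j : I) (h : i ⟶ j), Epi (G.map h)] {a b : StageIdx G π} (h : a ⟶ b) :
    Epi ((diagram G π).map h) := by
  have : Epi (cokernel.π a.P.ι ≫ (diagram G π).map h) := by
    rw [show cokernel.π a.P.ι ≫ (diagram G π).map h = _ from π_mapHom (leOfHom h)]
    have h2 : Epi (cokernel.π b.P.ι) := ⟨fun g g2 h => coequalizer.hom_ext h⟩
    exact @epi_comp _ _ _ _ _ (G.map (homOfLE (leOfHom h).1)) inferInstance (cokernel.π b.P.ι) h2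
  exact epi_of_epi (cokernel.π a.P.ι) _

variable [∀ i, (G.obj i).IsQuasicoherent]

theorem isFP_obj (hG : ∀ i, CohB1.IsFP (G.obj i)) (a : StageIdx G π) :
    CohB1.IsFP ((diagram G π).obj a) := by
  obtain ⟨hq, hft⟩ := SubMod.isQCoh_toMod a.good
  exact isFP_cokernel_of_isFT a.P.ι (hG a.i) hft

instance [Nonempty I] : Nonempty (StageIdx G π) :=
  ⟨⟨Classical.arbitrary I, SubMod.zero _, SubMod.zero_goodOn _, fun W s hs => by
    rw [show s = 0 from hs, map_zero]⟩⟩

instance isDirected [IsDirected I (· ≤ ·)] : IsDirected (StageIdx G π) (· ≤ ·) where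
  directed a b := by
    obtain ⟨k, hak, hbk⟩ := directed_of (· ≤ ·) a.i b.i
    obtain ⟨ha, haft⟩ := SubMod.isQCoh_toMod a.good
    obtain ⟨hb, hbft⟩ := SubMod.isQCoh_toMod b.good
    let f : a.P.toMod ⊞ b.P.toMod ⟶ G.obj k :=
      biprod.desc (a.P.ι ≫ G.map (homOfLE hak)) (b.P.ι ≫ G.map (homOfLE hbk))
    have hf : f ≫ π.app k = 0 := by
      refine biprod.hom_ext' _ _ ?_ ?_
      · rw [biprod.inl_desc_assoc, comp_zero]
        exact Groth.CohTwo.hom_ext_app fun W s =>
          show (π.app k).app W ((G.map (homOfLE hak)).app W (a.P.ι.app W s)) = 0 from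
            (natπ (homOfLE hak) W _).trans (a.ker W _ (a.P.ι_app_mem s))
      · rw [biprod.inr_desc_assoc, comp_zero]
        exact Groth.CohTwo.hom_ext_app fun W s =>
          show (π.app k).app W ((G.map (homOfLE hbk)).app W (b.P.ι.app W s)) = 0 from
            (natπ (homOfLE hbk) W _).trans (b.ker W _ (b.P.ι_app_mem s))
    refine ⟨⟨k, SubMod.imgOf f, SubMod.imgOf_goodOn f (isFT_biprod haft hbft),
      fun W s hs => SubMod.imgOf_le_ker f _ hf hs⟩, ⟨hak, fun W s hs => ?_⟩, ⟨hbk, fun W s hs => ?_⟩⟩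
    · obtain ⟨t, rfl⟩ := a.P.exists_ι_app_eq s hs
      have : f.app W ((biprod.inl : a.P.toMod ⟶ _).app W t) =
          (G.map (homOfLE hak)).app W (a.P.ι.app W t) :=
        congr(($(biprod.inl_desc (a.P.ι ≫ G.map (homOfLE hak))
          (b.P.ι ≫ G.map (homOfLE hbk)))).app W t)
      exact this ▸ SubMod.app_mem_imgOf f _
    · obtain ⟨t, rfl⟩ := b.P.exists_ι_app_eq s hs
      have : f.app W ((biprod.inr : b.P.toMod ⟶ _).app W t) =
          (G.map (homOfLE hbk)).app W (b.P.ι.app W t) :=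
        congr(($(biprod.inr_desc (a.P.ι ≫ G.map (homOfLE hak))
          (b.P.ι ≫ G.map (homOfLE hbk)))).app W t)
      exact this ▸ SubMod.app_mem_imgOf f _

variable [F.IsQuasicoherent]

/-- The quotients of a jointly surjective directed family form a colimit. -/
theorem isColimit [CompactSpace X] [QuasiSeparatedSpace X] [IsDirected I (· ≤ ·)] [Nonempty I]
    (hsurj : ∀ V : X.Opens, IsAffineOpen V → ∀ s : Γ(F, V), ∃ i a, (π.app i).app V a = s) :
    Nonempty (IsColimit (Cocone.mk F (toF G π))) := by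
  have hDq : ∀ a, ((diagram G π).obj a).IsQuasicoherent := fun a => by
    obtain ⟨hq, -⟩ := SubMod.isQCoh_toMod a.good
    exact inferInstanceAs (cokernel a.P.ι : X.Modules).IsQuasicoherent
  let c := colimit.cocone (diagram G π)
  let hc : IsColimit c := colimit.isColimit _
  have : c.pt.IsQuasicoherent := isQCoh_of_isColimit _ c hc
  let θ : c.pt ⟶ F := hc.desc (Cocone.mk F (toF G π))
  have hfac : ∀ a, coc c a ≫ θ = (toF G π).app a := hc.fac (Cocone.mk F (toF G π))
  have hθ : IsIso θ := isIso_of_affine_bijective θ fun V hV => by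
    refine ⟨(injective_iff_map_eq_zero _).2 fun z hz => ?_, fun s => ?_⟩
    · obtain ⟨a, d, rfl⟩ := exists_app_eq_affine hc hV z
      have := hDq a
      obtain ⟨hq, hft⟩ := SubMod.isQCoh_toMod a.good
      obtain ⟨g, rfl⟩ := app_surjective_of_epi (cokernel.π a.P.ι) hV d
      have hg0 : (π.app a.i).app V g = 0 := by
        have h1 : (coc c a ≫ θ).app V ((cokernel.π a.P.ι).app V g) = 0 := hz
        rw [hfac] at h1
        rw [← h1]
        exact (congr(($(cokernel.π_desc a.P.ι (π.app a.i)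
          (Groth.CohTwo.hom_ext_app fun W s => a.ker W _ (a.P.ι_app_mem s)))).app V g)).symm
      obtain ⟨q, hqg⟩ := kernel_exists_app (π.app a.i) g hg0
      have : (kernel (π.app a.i) : X.Modules).IsQuasicoherent :=
        isQCoh_kernel (M := G.obj a.i) (N := F) (π.app a.i)
      obtain ⟨Q, hQ, hqQ⟩ := exists_good_sub_mem (kernel (π.app a.i)) hV q
      obtain ⟨hQq, hQft⟩ := SubMod.isQCoh_toMod hQ
      let f : a.P.toMod ⊞ Q.toMod ⟶ G.obj a.i := biprod.desc a.P.ι (Q.ι ≫ kernel.ι _)
      have hf : f ≫ π.app a.i = 0 := by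
        refine biprod.hom_ext' _ _ ?_ ?_
        · rw [biprod.inl_desc_assoc, comp_zero]
          exact Groth.CohTwo.hom_ext_app fun W s => a.ker W _ (a.P.ι_app_mem s)
        · rw [biprod.inr_desc_assoc, comp_zero, Category.assoc, kernel.condition, comp_zero]
      let b : StageIdx G π := ⟨a.i, SubMod.imgOf f, SubMod.imgOf_goodOn f (isFT_biprod hft hQft),
        fun W s hs => SubMod.imgOf_le_ker f _ hf hs⟩
      have hab : a ≤ b := ⟨le_rfl, fun W s hs => by
        rw [map_self]
        obtain ⟨t, rfl⟩ := a.P.exists_ι_app_eq s hs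
        have : f.app W ((biprod.inl : a.P.toMod ⟶ _).app W t) = a.P.ι.app W t :=
          congr(($(biprod.inl_desc a.P.ι (Q.ι ≫ kernel.ι (π.app a.i)))).app W t)
        exact this ▸ SubMod.app_mem_imgOf f _⟩
      have hgb : g ∈ b.P.mem V := by
        obtain ⟨t, ht⟩ := Q.exists_ι_app_eq q hqQ
        have : f.app V ((biprod.inr : Q.toMod ⟶ _).app V t) = g := by
          refine (congr(($(biprod.inr_desc a.P.ι (Q.ι ≫ kernel.ι (π.app a.i)))).app V t)).trans ?_
          exact (congrArg _ ht).trans hqg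
        exact this ▸ SubMod.app_mem_imgOf f _
      rw [← cocone_app_app c (homOfLE hab) V]
      have hzero : ((diagram G π).map (homOfLE hab)).app V ((cokernel.π a.P.ι).app V g) = 0 := by
        refine (congr(($(π_mapHom hab)).app V g)).trans ?_
        change (cokernel.π b.P.ι).app V ((G.map _).app V g) = 0
        rw [map_self]
        obtain ⟨t, ht⟩ := b.P.exists_ι_app_eq g hgb
        rw [← ht]
        exact congr(($(cokernel.condition b.P.ι)).app V t)
      rw [hzero, map_zero]
    · obtain ⟨i, a, rfl⟩ := hsurj V hV s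
      let j : StageIdx G π := ⟨i, SubMod.zero _, SubMod.zero_goodOn _, fun W s hs => by
        rw [show s = 0 from hs, map_zero]⟩
      refine ⟨(coc c j).app V ((cokernel.π j.P.ι).app V a), ?_⟩
      change (coc c j ≫ θ).app V _ = _
      rw [hfac]
      exact congr(($(cokernel.π_desc j.P.ι (π.app i)
        (Groth.CohTwo.hom_ext_app fun W s => j.ker W _ (j.P.ι_app_mem s)))).app V a)
  exact ⟨IsColimit.ofIsoColimit hc (Cocone.ext (asIso θ) hfac)⟩

end StageIdx

end

/-! ### Finitely presented modules mapping to a module -/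

/-- A finite coproduct of modules of finite presentation is of finite presentation. -/
theorem isFP_sigma {ι : Type u} [Finite ι] (M : ι → X.Modules) [∀ i, (M i).IsQuasicoherent]
    (hM : ∀ i, CohB1.IsFP (M i)) : CohB1.IsFP (∐ M) := by
  classical
  have := Fintype.ofFinite ι
  let pr : ∀ i, (∐ M) ⟶ M i := fun i =>
    Sigma.desc fun k => if h : k = i then eqToHom (congrArg M h) else 0
  have hpr : ∀ i, Sigma.ι M i ≫ pr i = 𝟙 _ := fun i => by simp [pr]
  have hpr' : ∀ i k, k ≠ i → Sigma.ι M k ≫ pr i = 0 := fun i k h => by simp [pr, h]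
  have htot : ∑ i, pr i ≫ Sigma.ι M i = 𝟙 (∐ M) := Sigma.hom_ext _ _ fun k => by
    rw [Preadditive.comp_sum, Finset.sum_eq_single k]
    · rw [← Category.assoc, hpr, Category.id_comp, Category.comp_id]
    · intro i _ hik
      rw [← Category.assoc, hpr' i k (Ne.symm hik), zero_comp]
    · simp
  refine Groth.LocFree.isFP_of_affine_cover _ fun x => ?_
  obtain ⟨A, hA, hxA⟩ := exists_affine_mem x
  have := fun i => Groth.PropsBasic.FPSections.finitePresentation_sections (M i) (hM i) hA
  refine ⟨A, hA, hxA, ?_⟩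
  let L : Γ((∐ M : X.Modules), A) →ₗ[Γ(X, A)] ∀ i, Γ(M i, A) :=
    LinearMap.pi fun i => appₗ (pr i) A
  have hsum : ∀ a : Γ((∐ M : X.Modules), A), ∑ i, (Sigma.ι M i).app A ((pr i).app A a) = a :=
    fun a => by
      let ev : ((∐ M) ⟶ (∐ M)) →+ Γ((∐ M : X.Modules), A) :=
        AddMonoidHom.mk' (fun f => f.app A a) fun f g => rfl
      have := congrArg ev htot
      rw [map_sum] at this
      exact this
  have hb : Function.Bijective L := by
    refine ⟨(injective_iff_map_eq_zero _).2 fun a ha => ?_, fun b => ?_⟩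
    · rw [← hsum a]
      exact Finset.sum_eq_zero fun i _ => by rw [show (pr i).app A a = 0 from congrFun ha i, map_zero]
    · refine ⟨∑ i, (Sigma.ι M i).app A (b i), funext fun k => ?_⟩
      change (pr k).app A _ = b k
      rw [map_sum, Finset.sum_eq_single k]
      · exact congr(($(hpr k)).app A (b k))
      · exact fun i _ hik => congr(($(hpr' k i hik)).app A (b i))
      · simp
  exact .of_equiv (LinearEquiv.ofBijective L hb).symm

/-- Every section over an affine open comes from a finitely presented module. -/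
theorem exists_fp_hit [CompactSpace X] [QuasiSeparatedSpace X] (F : X.Modules) [F.IsQuasicoherent]
    {A : X.Opens} (hA : IsAffineOpen A) (m : Γ(F, A)) :
    ∃ (G : X.Modules) (_ : G.IsQuasicoherent) (φ : G ⟶ F) (a : Γ(G, A)),
      CohB1.IsFP G ∧ φ.app A a = m := by
  have hA' : A.ι ''ᵁ ⊤ = A := Scheme.Opens.ι_image_top A
  let m' : Γ(F.restrict A.ι, (⊤ : (A : Scheme.{u}).Opens)) := res F hA'.le m
  let f := freeHom (F.restrict A.ι) (ι := PUnit.{u + 1}) fun _ => m'
  obtain ⟨G', φ', e, hq, hfp, he⟩ := exists_extension_fp F A hA.isCompact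
    (Groth.LocFree.freeOn (A : Scheme.{u}) PUnit.{u + 1}) (isFP_freeOn _) f
  let z := (Sigma.ι (fun _ : PUnit.{u + 1} => Coh.structureModule (A : Scheme.{u}))
    PUnit.unit).app ⊤ (oneSec ⊤)
  have hz : f.app ⊤ z = m' := by
    change (Sigma.ι (fun _ : PUnit.{u + 1} => Coh.structureModule (A : Scheme.{u})) PUnit.unit ≫
      freeHom (F.restrict A.ι) fun _ => m').app ⊤ _ = _
    rw [ι_freeHom, secHom_app_one]
    exact res_self _ _
  let a' : Γ(G', A.ι ''ᵁ ⊤) := e.inv.app ⊤ z
  have ha' : φ'.app (A.ι ''ᵁ ⊤) a' = m' := by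
    change ((Scheme.Modules.restrictFunctor A.ι).map φ').app ⊤ (e.inv.app ⊤ z) = _
    rw [← he]
    change (e.inv ≫ e.hom ≫ f).app ⊤ z = _
    rw [e.inv_hom_id_assoc]
    exact hz
  refine ⟨G', hq, φ', res G' hA'.ge a', hfp, ?_⟩
  rw [← res_app, ha', res_res, res_self]

/-- A finite type quasi-coherent module is a quotient of a finitely presented one. -/
theorem exists_fp_epi [CompactSpace X] [QuasiSeparatedSpace X] (F : X.Modules) [F.IsQuasicoherent]
    (hF : CohB1.IsFT F) :
    ∃ (G : X.Modules) (_ : G.IsQuasicoherent) (φ : G ⟶ F), CohB1.IsFP G ∧ Epi φ := by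
  classical
  obtain ⟨n, V, hV, hcov, -, -⟩ := exists_finite_cover (X := X)
  choose S hS using fun i => (finite_sections F hF (hV i)).fg_top
  choose G hGq φ a hG ha using fun (k : Σ i : ULift.{u} (Fin n), S i.down) =>
    exists_fp_hit F (hV k.1.down) k.2.1
  refine ⟨∐ G, inferInstance, Sigma.desc φ, isFP_sigma G hG,
    Preadditive.epi_of_cokernel_zero (hom_eq_zero_of_cover _ V hV hcov fun i b => ?_)⟩
  have hb : b ∈ Submodule.span Γ(X, V i) (S i : Set _) := (hS i).ge trivial
  change b ∈ LinearMap.ker (appₗ (cokernel.π (Sigma.desc φ)) (V i))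
  refine Submodule.span_le.2 (fun m hm => ?_) hb
  change (cokernel.π (Sigma.desc φ)).app (V i) m = 0
  let k : Σ i : ULift.{u} (Fin n), S i.down := ⟨⟨i⟩, m, hm⟩
  rw [← show (φ k).app (V i) (a k) = m from ha k]
  have : φ k ≫ cokernel.π (Sigma.desc φ) = 0 := by
    rw [← Sigma.ι_desc φ k, Category.assoc, cokernel.condition, comp_zero]
  exact congr(($this).app (V i) (a k))

end Groth.QCohMod
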