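import Groth.Agent.QCohMod.QCAlgGen

/-!
# The subalgebra generated by a submodule
-/

universe u v

open CategoryTheory CategoryTheory.Limits AlgebraicGeometry Opposite TopologicalSpace

namespace Groth.QCohMod

variable {X : Scheme.{u}} (B : RelSpec.QCAlg X) {E : X.Modules} (j : E ⟶ B.toModule)

/-- Sections locally in the subalgebra generated by a submodule. -/
noncomputable def locGen (W : X.Opens) : Subring (BSec B W) where
  carrier := {b | ∀ x ∈ W, ∃ (Z : X.Opens) (h : Z ≤ W), x ∈ Z ∧ bres B h b ∈ algGen B j Z}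
  zero_mem' x hx := ⟨W, le_rfl, hx, by rw [map_zero]; exact zero_mem _⟩
  one_mem' x hx := ⟨W, le_rfl, hx, by rw [map_one]; exact one_mem _⟩
  neg_mem' {a} ha x hx := by
    obtain ⟨Z, h, hxZ, hZ⟩ := ha x hx
    exact ⟨Z, h, hxZ, by rw [map_neg]; exact neg_mem hZ⟩
  add_mem' {a b} ha hb x hx := by
    obtain ⟨Z, h, hxZ, hZ⟩ := ha x hx
    obtain ⟨Z', h', hxZ', hZ'⟩ := hb x hx
    refine ⟨Z ⊓ Z', inf_le_left.trans h, ⟨hxZ, hxZ'⟩, ?_⟩
    have h1 := bres_mem_gen B j (inf_le_left : Z ⊓ Z' ≤ Z) hZ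
    have h2 := bres_mem_gen B j (inf_le_right : Z ⊓ Z' ≤ Z') hZ'
    rw [bres_bres] at h1 h2
    rw [map_add]
    exact add_mem h1 h2
  mul_mem' {a b} ha hb x hx := by
    obtain ⟨Z, h, hxZ, hZ⟩ := ha x hx
    obtain ⟨Z', h', hxZ', hZ'⟩ := hb x hx
    refine ⟨Z ⊓ Z', inf_le_left.trans h, ⟨hxZ, hxZ'⟩, ?_⟩
    have h1 := bres_mem_gen B j (inf_le_left : Z ⊓ Z' ≤ Z) hZ
    have h2 := bres_mem_gen B j (inf_le_right : Z ⊓ Z' ≤ Z') hZ'
    rw [bres_bres] at h1 h2
    rw [map_mul]
    exact mul_mem h1 h2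

lemma gen_le_locGen (W : X.Opens) : algGen B j W ≤ locGen B j W :=
  fun b hb x hx => ⟨W, le_rfl, hx, by rw [bres_self]; exact hb⟩

lemma bres_mem_locGen {W W' : X.Opens} (h : W' ≤ W) {b : BSec B W} (hb : b ∈ locGen B j W) :
    bres B h b ∈ locGen B j W' := by
  intro x hx
  obtain ⟨Z, hZ, hxZ, hbZ⟩ := hb x (h hx)
  refine ⟨Z ⊓ W', inf_le_right, ⟨hxZ, hx⟩, ?_⟩
  have h1 := bres_mem_gen B j (inf_le_left : Z ⊓ W' ≤ Z) hbZ
  rw [bres_bres] at h1 ⊢
  exact h1

lemma locGen_eq_gen [E.IsQuasicoherent] {U : X.Opens} (hU : IsAffineOpen U) :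
    locGen B j U = algGen B j U :=
  le_antisymm (fun b hb => mem_gen_of_local B j hU b hb) (gen_le_locGen B j U)

/-- The presheaf of the generated subalgebra. -/
noncomputable def locGenPre : TopCat.Presheaf CommRingCat.{u} X.carrier where
  obj W := CommRingCat.of (locGen B j W.unop)
  map {W W'} i := CommRingCat.ofHom
    (((B.presheaf.map i).hom.comp (locGen B j W.unop).subtype).codRestrict (locGen B j W'.unop)
      fun b => bres_mem_locGen B j (leOfHom i.unop) b.2)
  map_id W := by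
    refine CommRingCat.hom_ext (RingHom.ext fun b => Subtype.ext ?_)
    exact congr(($(B.presheaf.map_id W)).hom b.1)
  map_comp i k := by
    refine CommRingCat.hom_ext (RingHom.ext fun b => Subtype.ext ?_)
    exact congr(($(B.presheaf.map_comp i k)).hom b.1)

/-- The inclusion of the generated subalgebra. -/
noncomputable def locGenι : locGenPre B j ⟶ B.presheaf where
  app W := CommRingCat.ofHom (locGen B j W.unop).subtype
  naturality _ _ _ := rfl

theorem isSheaf_locGenPre : (locGenPre B j).IsSheaf := by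
  rw [TopCat.Presheaf.isSheaf_iff_isSheafUniqueGluing]
  intro ι U sf hsf
  let S : TopCat.Sheaf CommRingCat.{u} X.carrier := ⟨B.presheaf, B.isSheaf⟩
  obtain ⟨b, hb, huniq⟩ := S.existsUnique_gluing U (fun i => (sf i).1)
    fun i k => congrArg Subtype.val (hsf i k)
  have hmem : b ∈ locGen B j (iSup U) := by
    intro x hx
    obtain ⟨i, hi⟩ := Opens.mem_iSup.1 hx
    obtain ⟨Z, hZ, hxZ, hz⟩ := (sf i).2 x hi
    refine ⟨Z, hZ.trans (le_iSup U i), hxZ, ?_⟩
    rw [← bres_bres B (le_iSup U i) hZ]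
    have : bres B (le_iSup U i) b = (sf i).1 := hb i
    rwa [this]
  exact ⟨⟨b, hmem⟩, fun i => Subtype.ext (hb i), fun t ht =>
    Subtype.ext (huniq t.1 fun i => congrArg Subtype.val (ht i))⟩

/-- The structure map of the generated subalgebra. -/
noncomputable def locGenStr : X.presheaf ⟶ locGenPre B j where
  app W := CommRingCat.ofHom ((B.str.app W).hom.codRestrict (locGen B j W.unop)
    fun r => gen_le_locGen B j W.unop (bstr_mem_gen B j r))
  naturality {W W'} i := by
    ext r
    exact Subtype.ext (congr(($(B.str.naturality i)).hom r))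

variable [E.IsQuasicoherent]

theorem isQC_locGen : RelSpec.IsQC (locGenPre B j) (locGenStr B j) := by
  intro U hU f
  let D := X.basicOpen f
  let _ : Algebra (locGen B j U) (locGen B j D) :=
    ((locGenPre B j).map (homOfLE (X.basicOpen_le f)).op).hom.toAlgebra
  let c : locGen B j U := ⟨bstr B U f, gen_le_locGen B j U (bstr_mem_gen B j f)⟩
  change IsLocalization (Submonoid.powers c) (locGen B j D)
  have halg : ∀ a : locGen B j U,
      (algebraMap (locGen B j U) (locGen B j D) a).1 = bres B (X.basicOpen_le f) a.1 := fun _ => rfl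
  refine (isLocalization_iff _ _).2 ⟨?_, fun z => ?_, fun {a b} h => ?_⟩
  · rintro ⟨_, n, rfl⟩
    change IsUnit (algebraMap (locGen B j U) (locGen B j D) (c ^ n))
    rw [map_pow]
    refine IsUnit.pow n ?_
    have hu : IsUnit (resFun X (X.basicOpen_le f) f) := RingedSpace.isUnit_res_basicOpen _ f
    obtain ⟨v, hv⟩ := hu
    refine IsUnit.of_mul_eq_one ⟨bstr B D (↑v⁻¹ : Γ(X, D)),
      gen_le_locGen B j D (bstr_mem_gen B j _)⟩ (Subtype.ext ?_)
    change bres B (X.basicOpen_le f) (bstr B U f) * bstr B D _ = 1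
    rw [bres_bstr, ← map_mul, ← hv, Units.mul_inv, map_one]
  · obtain ⟨n, s, hs, e⟩ := exists_mem_gen_lift B j hU f
      (mem_gen_of_local B j (hU.basicOpen f) z.1 z.2)
    refine ⟨⟨⟨s, gen_le_locGen B j U hs⟩, ⟨c ^ n, n, rfl⟩⟩, Subtype.ext ?_⟩
    change z.1 * bres B (X.basicOpen_le f) (bstr B U f ^ n) = bres B (X.basicOpen_le f) s
    rw [map_pow, bres_bstr, e, mul_comm]
  · have h0 : bres B (X.basicOpen_le f) (a.1 - b.1) = 0 := by
      rw [map_sub, ← halg, ← halg, h, sub_self]
    obtain ⟨n, hn⟩ := exists_pow_mul_eq_zero B hU f _ h0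
    refine ⟨⟨c ^ n, n, rfl⟩, Subtype.ext ?_⟩
    rw [mul_sub, sub_eq_zero] at hn
    exact hn

/-- The quasi-coherent subalgebra generated by a submodule. -/
noncomputable def locGenAlg : RelSpec.QCAlg X where
  presheaf := locGenPre B j
  isSheaf := isSheaf_locGenPre B j
  str := locGenStr B j
  isQC := isQC_locGen B j

/-- Its inclusion. -/
noncomputable def locGenHom : locGenAlg B j ⟶ B where
  hom := locGenι B j
  comm := by
    ext W r
    rfl

theorem finiteType_locGen (hE : CohB1.IsFT E) (U : X.affineOpens) :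
    ((locGenAlg B j).str.app (op U.1)).hom.FiniteType := by
  classical
  have := finite_sections E hE U.2
  obtain ⟨G, hG⟩ := Module.Finite.fg_top (R := Γ(X, U.1)) (M := Γ(E, U.1))
  let _ : Algebra Γ(X, U.1) (BSec B U.1) := (bstr B U.1).toAlgebra
  let A := Algebra.adjoin Γ(X, U.1) ((fun e => toB B (j.app U.1 e)) '' (G : Set Γ(E, U.1)))
  have hA : locGen B j U.1 = A.toSubring := by
    rw [locGen_eq_gen B j U.2]
    refine le_antisymm (Subring.closure_le.2 ?_) fun b hb => ?_
    · rintro _ (⟨r, rfl⟩ | ⟨e, rfl⟩)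
      · exact A.algebraMap_mem r
      · have he : e ∈ Submodule.span Γ(X, U.1) (G : Set Γ(E, U.1)) := hG.ge Submodule.mem_top
        change toB B (j.app U.1 e) ∈ A
        induction he using Submodule.span_induction with
        | mem e he => exact Algebra.subset_adjoin ⟨e, he, rfl⟩
        | zero => rw [map_zero]; exact A.zero_mem
        | add a b _ _ ha hb => rw [map_add]; exact A.add_mem ha hb
        | smul r a _ ha =>
          rw [Scheme.Modules.Hom.app_smul, toB_smul]
          exact A.mul_mem (A.algebraMap_mem r) ha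
    · refine Algebra.adjoin_induction (fun t ht => ?_) (fun r => bstr_mem_gen B j r)
        (fun _ _ _ _ => add_mem) (fun _ _ _ _ => mul_mem) hb
      obtain ⟨e, -, rfl⟩ := ht
      exact app_mem_gen B j e
  have : Algebra.FiniteType Γ(X, U.1) A :=
    (Subalgebra.fg_iff_finiteType A).1 (Subalgebra.fg_def.2 ⟨_, G.finite_toSet.image _, rfl⟩)
  have hft : (algebraMap Γ(X, U.1) A).FiniteType := RingHom.finiteType_algebraMap.2 this
  let g : A →+* locGen B j U.1 :=
    (A.val.toRingHom).codRestrict _ fun a => hA.ge a.2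
  have hg : Function.Surjective g := fun b => ⟨⟨b.1, hA.le b.2⟩, rfl⟩
  exact hft.comp_surjective hg

end Groth.QCohMod
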