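import Groth.Agent.QCohMod.SubModExtend
import Groth.Agent.QCohMod.Coherent

/-!
# Quasi-coherent submodules spanned by compatible families of sections on an affine cover
-/

universe u

open CategoryTheory Limits AlgebraicGeometry Opposite TopologicalSpace

namespace Groth.QCohMod

variable {X : Scheme.{u}}

/-- A common basic open of two opens. -/
abbrev BOv (U V : X.Opens) : Type u :=
  {p : Γ(X, U) × Γ(X, V) // X.basicOpen p.1 = X.basicOpen p.2}

/-- The sheaf of submodules locally spanned by a set of sections over an affine open: its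
sections there. -/
lemma locSpan_mem {F : X.Modules} [F.IsQuasicoherent] {V : X.Opens} (hV : IsAffineOpen V)
    (T : Set Γ(F, V)) :
    (SubMod.locSpan V T).mem V = Submodule.span Γ(X, V) T := by
  ext s
  refine ⟨fun hs => SubMod.mem_span_of_local hV T s fun x hx => ?_, fun hs x hx => ?_⟩
  · obtain ⟨Z, hY, hV', hxZ, hs⟩ := hs x ⟨hx, hx⟩
    exact ⟨Z, hY, hxZ, hs⟩
  · exact ⟨V, le_rfl, le_rfl, hx.2, by
      rw [res_self, show res F (le_rfl : V ≤ V) '' T = T from
        (Set.image_congr fun t _ => res_self F t).trans (Set.image_id' T)]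
      exact hs⟩

lemma locSpan_lift {F : X.Modules} [F.IsQuasicoherent] {V : X.Opens} (hV : IsAffineOpen V)
    (T : Set Γ(F, V)) (f : Γ(X, V)) (s : Γ(F, X.basicOpen f))
    (hs : s ∈ (SubMod.locSpan V T).mem (X.basicOpen f)) :
    ∃ (n : ℕ) (t : Γ(F, V)), t ∈ (SubMod.locSpan V T).mem V ∧
      res F (X.basicOpen_le f) t = resFun X (X.basicOpen_le f) f ^ n • s := by
  rw [locSpan_mem hV]
  refine SubMod.exists_pow_smul_eq_res_span hV T f s
    (SubMod.mem_span_of_local (hV.basicOpen f) _ s fun x hx => ?_)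
  obtain ⟨Z, hY, hV', hxZ, hs⟩ := hs x ⟨hx, X.basicOpen_le f hx⟩
  refine ⟨Z, hY, hxZ, ?_⟩
  rw [Set.image_image]
  simp only [res_res]
  exact hs

variable {ι : Type u} {U : ι → X.Opens} {T : ι → Type u}

/-- A family of sections on the members of a cover is linked by exponents `n` and a successor map
`s` if on each common basic open the image of a section is, up to units, a member of the family. -/
def Linked (M : X.Modules) (n : ∀ i j, BOv (U i) (U j) → T i → ℕ)
    (s : ∀ i j, BOv (U i) (U j) → T i → T j) (g : ∀ i, T i → Γ(M, U i)) : Prop :=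
  ∀ (i j : ι) (p : BOv (U i) (U j)) (t : T i),
    res M (p.2.le.trans (X.basicOpen_le _)) (g j (s i j p t)) =
      resFun X (p.2.le.trans (X.basicOpen_le _)) p.1.2 ^ n i j p t •
        res M (X.basicOpen_le p.1.1) (g i t)

/-- A linked family spans a quasi-coherent submodule. -/
theorem exists_span_sub (hU : ∀ i, IsAffineOpen (U i)) (hcov : iSup U = ⊤) {M : X.Modules}
    [M.IsQuasicoherent] {n : ∀ i j, BOv (U i) (U j) → T i → ℕ}
    {s : ∀ i j, BOv (U i) (U j) → T i → T j} {g : ∀ i, T i → Γ(M, U i)} (hg : Linked M n s g) :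
    ∃ (K : X.Modules) (k : K ⟶ M) (g' : ∀ i, T i → Γ(K, U i)), Mono k ∧ K.IsQuasicoherent ∧
      (∀ i t, k.app (U i) (g' i t) = g i t) ∧
      (∀ i, Submodule.span Γ(X, U i) (Set.range (g' i)) = ⊤) ∧ Linked K n s g' := by
  let P : ι → SubMod M := fun i => SubMod.locSpan (U i) (Set.range (g i))
  have hsub : ∀ (i j : ι), ∀ Y ≤ U i ⊓ U j, (P i).mem Y ≤ (P j).mem Y := by
    intro i j Y hY a ha x hx
    obtain ⟨Z, hZY, hZi, hxZ, haZ⟩ := ha x ⟨hx.1, (hY hx.1).1⟩
    obtain ⟨f, h, hfh, hxf⟩ := exists_basicOpen_le_affine_inter (hU i) (hU j) x (hY hx.1)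
    have hZ' : Z ⊓ X.basicOpen f ≤ Z := inf_le_left
    have hZj : Z ⊓ X.basicOpen f ≤ U j := inf_le_right.trans (hfh.le.trans (X.basicOpen_le h))
    refine ⟨Z ⊓ X.basicOpen f, hZ'.trans hZY, hZj, ⟨hxZ, hxf⟩, ?_⟩
    have h1 := SubMod.res_mem_span hZ' _ _ haZ
    rw [res_res, Set.image_image] at h1
    simp only [res_res] at h1
    refine Submodule.span_le.mpr ?_ h1
    rintro _ ⟨_, ⟨t, rfl⟩, rfl⟩
    have h2 := congr(res M (inf_le_right : Z ⊓ X.basicOpen f ≤ X.basicOpen f)
      $(hg i j ⟨(f, h), hfh⟩ t))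
    rw [res_res, res_smul, res_res, map_pow, resFun_resFun] at h2
    have hu : IsUnit (resFun X hZj h) := by
      have := RingedSpace.isUnit_res_basicOpen X.toLocallyRingedSpace.toRingedSpace h
      have := this.map (resFun X (inf_le_right.trans hfh.le : Z ⊓ X.basicOpen f ≤ X.basicOpen h))
      change IsUnit (resFun X _ (resFun X (X.basicOpen_le h) h)) at this
      rwa [resFun_resFun] at this
    obtain ⟨v, hv⟩ := hu.pow (n i j ⟨(f, h), hfh⟩ t)
    rw [← hv] at h2
    have h3 := congr((↑v⁻¹ : Γ(X, Z ⊓ X.basicOpen f)) • $h2)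
    rw [← mul_smul, Units.inv_mul, one_smul] at h3
    beta_reduce
    rw [SetLike.mem_coe, ← h3]
    exact Submodule.smul_mem _ _ (Submodule.subset_span ⟨_, ⟨_, rfl⟩, rfl⟩)
  have hagree : ∀ i, (SubMod.glue U P).Agree (P i) (U i) := fun i =>
    SubMod.glue_agree U P (fun i j Y hY => le_antisymm (hsub i j Y hY)
      (hsub j i Y (hY.trans (inf_comm (U i) (U j)).le))) i
  let Q := SubMod.glue U P
  have hmem : ∀ i, Q.mem (U i) = Submodule.span Γ(X, U i) (Set.range (g i)) := fun i =>
    (hagree i (U i) le_rfl).trans (locSpan_mem (hU i) _)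
  have hq : Q.toMod.IsQuasicoherent := by
    refine isQCoh_of_affine_cover _ fun x => ?_
    obtain ⟨i, hxi⟩ := Opens.mem_iSup.mp (hcov.ge (Set.mem_univ x))
    refine ⟨U i, hU i, hxi, fun f a => ?_, fun f t ht => ?_⟩
    · obtain ⟨m, t, ht, hta⟩ := locSpan_lift (hU i) _ f _
        ((hagree i _ (X.basicOpen_le f)) ▸ Q.ι_app_mem a)
      rw [← hagree i (U i) le_rfl] at ht
      obtain ⟨t', rfl⟩ := Q.exists_ι_app_eq t ht
      refine ⟨m, t', Q.ι_app_injective _ ?_⟩
      rw [← res_app, Scheme.Modules.Hom.app_smul]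
      exact hta
    · obtain ⟨m, hm⟩ := exists_pow_smul_eq_zero M (hU i) f (Q.ι.app (U i) t)
        (by rw [res_app, ht, map_zero])
      exact ⟨m, Q.ι_app_injective _ (by rw [Scheme.Modules.Hom.app_smul, hm, map_zero])⟩
  have hlift : ∀ i t, ∃ a : Γ(Q.toMod, U i), Q.ι.app (U i) a = g i t := fun i t =>
    Q.exists_ι_app_eq _ ((hmem i).ge (Submodule.subset_span ⟨t, rfl⟩))
  choose g' hg' using hlift
  refine ⟨Q.toMod, Q.ι, g', inferInstance, hq, hg', fun i => ?_, fun i j p t => ?_⟩
  · refine Submodule.map_injective_of_injective (f := appₗ Q.ι (U i)) (Q.ι_app_injective _) ?_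
    rw [Submodule.map_span, ← Set.range_comp, Submodule.map_top]
    refine le_antisymm (Submodule.span_le.mpr ?_) ?_
    · rintro _ ⟨t, rfl⟩; exact LinearMap.mem_range_self _ _
    · rintro _ ⟨a, rfl⟩
      have := (hmem i).le (Q.ι_app_mem a)
      rwa [show (appₗ Q.ι (U i) ∘ g' i) = g i from funext (hg' i)]
  · refine Q.ι_app_injective _ ?_
    rw [← res_app, Scheme.Modules.Hom.app_smul, ← res_app, hg', hg']
    exact hg i j p t

end Groth.QCohMod
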