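import Groth.Agent.QCohMod.Category
import Groth.Agent.QCohMod.FTCriterion
import Groth.Agent.CohTwo.Glue

/-!
# Sheaves of submodules given sectionwise; quasi-coherence and finite type
-/

universe u v

open CategoryTheory Limits AlgebraicGeometry Opposite TopologicalSpace

namespace Groth.QCohMod

variable {X : Scheme.{u}}

/-- A sheaf of submodules of `F`. -/
structure SubMod (F : X.Modules) where
  mem : ∀ W : X.Opens, Submodule Γ(X, W) Γ(F, W)
  res_mem : ∀ {W W' : X.Opens} (h : W' ≤ W) (s : Γ(F, W)), s ∈ mem W → res F h s ∈ mem W'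
  local_mem : ∀ {W : X.Opens} (s : Γ(F, W)),
    (∀ x ∈ W, ∃ (W' : X.Opens) (h : W' ≤ W), x ∈ W' ∧ res F h s ∈ mem W') → s ∈ mem W

namespace SubMod

variable {F : X.Modules}

/-- The presheaf of abelian groups of a sheaf of submodules. -/
noncomputable def ab (P : SubMod F) : (Opens X)ᵒᵖ ⥤ AddCommGrpCat.{u} where
  obj W := AddCommGrpCat.of (P.mem W.unop)
  map {W W'} i := AddCommGrpCat.ofHom
    (AddMonoidHom.mk' (fun s => ⟨res F (leOfHom i.unop) s.1, P.res_mem _ _ s.2⟩)
      (fun s t => Subtype.ext (map_add _ _ _)))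
  map_id W := by
    ext s
    exact res_self F (U := W.unop) _
  map_comp i j := by
    ext s
    exact (res_res F (leOfHom i.unop) (leOfHom j.unop) _).symm

noncomputable instance (P : SubMod F) (W : (Opens X)ᵒᵖ) :
    Module (X.ringCatSheaf.obj.obj W) ((P.ab).obj W) :=
  inferInstanceAs (Module Γ(X, W.unop) (P.mem W.unop))

/-- The module of a sheaf of submodules. -/
noncomputable def toMod (P : SubMod F) : X.Modules where
  val := PresheafOfModules.ofPresheaf P.ab fun W W' i r s =>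
    Subtype.ext (res_smul F (leOfHom i.unop) r s.1)
  isSheaf := by
    change TopCat.Presheaf.IsSheaf (X := X.toPresheafedSpace) P.ab
    rw [TopCat.Presheaf.isSheaf_iff_isSheafUniqueGluing]
    intro ι U sf hsf
    obtain ⟨s, hs⟩ := Groth.CohTwo.exists_glue F U (fun i => le_iSup U i)
      (fun x hx => Opens.mem_iSup.1 hx) (fun i => (sf i).1)
      (fun i j => congrArg Subtype.val (hsf i j))
    have hv : s ∈ P.mem (iSup U) := P.local_mem s fun x hx => by
      obtain ⟨i, hi⟩ := Opens.mem_iSup.1 hx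
      refine ⟨U i, le_iSup U i, hi, ?_⟩
      have := (sf i).2
      rwa [← hs i] at this
    refine ⟨⟨s, hv⟩, fun i => Subtype.ext (hs i), fun t ht => Subtype.ext ?_⟩
    refine Groth.CohTwo.eq_of_local F _ _ fun x hx => ?_
    obtain ⟨i, hi⟩ := Opens.mem_iSup.1 hx
    exact ⟨U i, le_iSup U i, hi, (congrArg Subtype.val (ht i)).trans (hs i).symm⟩

/-- The inclusion. -/
noncomputable def ι (P : SubMod F) : P.toMod ⟶ F :=
  ⟨PresheafOfModules.homMk
    { app := fun W => AddCommGrpCat.ofHom (AddMonoidHom.mk' (fun s => s.1) fun _ _ => rfl)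
      naturality := fun _ _ _ => rfl }
    (fun _ _ _ => rfl)⟩

lemma ι_app_injective (P : SubMod F) (W : X.Opens) : Function.Injective (P.ι.app W) :=
  fun _ _ h => Subtype.ext h

instance (P : SubMod F) : Mono P.ι :=
  (Groth.CohTwo.mono_iff_app_injective P.ι).mpr P.ι_app_injective

lemma ι_app_mem (P : SubMod F) {W : X.Opens} (s : Γ(P.toMod, W)) : P.ι.app W s ∈ P.mem W :=
  (s : P.mem W).2

lemma exists_ι_app_eq (P : SubMod F) {W : X.Opens} (s : Γ(F, W)) (hs : s ∈ P.mem W) :
    ∃ t : Γ(P.toMod, W), P.ι.app W t = s :=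
  ⟨(⟨s, hs⟩ : P.mem W), rfl⟩

/-- Two sheaves of submodules agree on an open. -/
def Agree (P Q : SubMod F) (W : X.Opens) : Prop := ∀ Y ≤ W, P.mem Y = Q.mem Y

lemma Agree.symm {P Q : SubMod F} {W : X.Opens} (h : P.Agree Q W) : Q.Agree P W :=
  fun Y hY => (h Y hY).symm

lemma Agree.trans {P Q R : SubMod F} {W : X.Opens} (h : P.Agree Q W) (h' : Q.Agree R W) :
    P.Agree R W := fun Y hY => (h Y hY).trans (h' Y hY)

lemma Agree.mono {P Q : SubMod F} {W W' : X.Opens} (h : P.Agree Q W) (hle : W' ≤ W) :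
    P.Agree Q W' := fun Y hY => h Y (hY.trans hle)

/-- Gluing sheaves of submodules given on opens. -/
noncomputable def glue {κ : Type v} (W : κ → X.Opens) (P : κ → SubMod F) : SubMod F where
  mem Y :=
    { carrier := {s | ∀ i, res F (inf_le_left : Y ⊓ W i ≤ Y) s ∈ (P i).mem (Y ⊓ W i)}
      add_mem' := fun {s t} hs ht i => by rw [map_add]; exact add_mem (hs i) (ht i)
      zero_mem' := fun i => by rw [map_zero]; exact zero_mem _
      smul_mem' := fun r s hs i => by rw [res_smul]; exact Submodule.smul_mem _ _ (hs i) }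
  res_mem {Y Y'} h s hs i := by
    rw [res_res, ← res_res F (inf_le_left : Y ⊓ W i ≤ Y) (inf_le_inf_right (W i) h)]
    exact (P i).res_mem _ _ (hs i)
  local_mem {Y} s hs i := by
    refine (P i).local_mem _ fun x hx => ?_
    obtain ⟨Y', h, hxY', hs'⟩ := hs x hx.1
    refine ⟨Y' ⊓ W i, inf_le_inf_right _ h, ⟨hxY', hx.2⟩, ?_⟩
    have := hs' i
    rw [res_res] at this ⊢
    exact this

lemma glue_agree {κ : Type v} (W : κ → X.Opens) (P : κ → SubMod F)
    (h : ∀ i j, (P i).Agree (P j) (W i ⊓ W j)) (i : κ) : (glue W P).Agree (P i) (W i) := by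
  intro Y hY
  ext s
  refine ⟨fun hs => ?_, fun hs j => ?_⟩
  · have h1 := (P i).res_mem (le_inf le_rfl hY : Y ≤ Y ⊓ W i) _ (hs i)
    rwa [res_res, res_self] at h1
  · rw [← h i j (Y ⊓ W j) (le_inf (inf_le_left.trans hY) inf_le_right)]
    exact (P i).res_mem _ _ hs

variable [F.IsQuasicoherent]

/-- Good behaviour on an affine open: finitely generated and compatible with localization. -/
def GoodAt (P : SubMod F) (A : X.Opens) : Prop :=
  IsAffineOpen A ∧ (P.mem A).FG ∧ ∀ (f : Γ(X, A)) (s : Γ(F, X.basicOpen f)),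
    s ∈ P.mem (X.basicOpen f) →
      ∃ (n : ℕ) (t : Γ(F, A)), t ∈ P.mem A ∧
        res F (X.basicOpen_le f) t = resFun X (X.basicOpen_le f) f ^ n • s

/-- Good behaviour near every point of an open. -/
def GoodOn (P : SubMod F) (W : X.Opens) : Prop :=
  ∀ x ∈ W, ∃ A : X.Opens, A ≤ W ∧ x ∈ A ∧ P.GoodAt A

omit [F.IsQuasicoherent] in
lemma GoodAt.congr {P Q : SubMod F} {A : X.Opens} (h : P.GoodAt A) (e : P.Agree Q A) :
    Q.GoodAt A := by
  refine ⟨h.1, e A le_rfl ▸ h.2.1, fun f s hs => ?_⟩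
  rw [← e _ (X.basicOpen_le f)] at hs
  obtain ⟨n, t, ht, hts⟩ := h.2.2 f s hs
  exact ⟨n, t, e A le_rfl ▸ ht, hts⟩

omit [F.IsQuasicoherent] in
/-- The span is preserved by restriction. -/
lemma res_mem_span {U Z : X.Opens} (h : Z ≤ U) (T : Set Γ(F, U)) (s : Γ(F, U))
    (hs : s ∈ Submodule.span Γ(X, U) T) :
    res F h s ∈ Submodule.span Γ(X, Z) (res F h '' T) := by
  induction hs using Submodule.span_induction with
  | mem z hz => exact Submodule.subset_span ⟨z, hz, rfl⟩
  | zero => rw [map_zero]; exact zero_mem _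
  | add p q _ _ hp hq => rw [map_add]; exact add_mem hp hq
  | smul r p _ hp => rw [res_smul]; exact Submodule.smul_mem _ _ hp

omit [F.IsQuasicoherent] in
/-- Clearing denominators in a span over a basic open. -/
lemma exists_pow_smul_eq_res_span {U : X.Opens} (hU : IsAffineOpen U) (T : Set Γ(F, U))
    (f : Γ(X, U)) (s : Γ(F, X.basicOpen f))
    (hs : s ∈ Submodule.span Γ(X, X.basicOpen f) (res F (X.basicOpen_le f) '' T)) :
    ∃ (n : ℕ) (t : Γ(F, U)), t ∈ Submodule.span Γ(X, U) T ∧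
      res F (X.basicOpen_le f) t = resFun X (X.basicOpen_le f) f ^ n • s := by
  induction hs using Submodule.span_induction with
  | mem z hz =>
    obtain ⟨t, ht, rfl⟩ := hz
    exact ⟨0, t, Submodule.subset_span ht, by rw [pow_zero, one_smul]⟩
  | zero => exact ⟨0, 0, zero_mem _, by rw [map_zero, smul_zero]⟩
  | add p q _ _ hp hq =>
    obtain ⟨n, t, ht, hts⟩ := hp
    obtain ⟨m, t', ht', hts'⟩ := hq
    refine ⟨n + m, f ^ m • t + f ^ n • t',
      add_mem (Submodule.smul_mem _ _ ht) (Submodule.smul_mem _ _ ht'), ?_⟩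
    rw [map_add, res_smul, res_smul, hts, hts', map_pow, map_pow, smul_add, ← mul_smul, ← mul_smul,
      ← pow_add, ← pow_add, add_comm m n]
  | smul r p _ hp =>
    obtain ⟨n, t, ht, hts⟩ := hp
    let _ : Algebra Γ(X, U) Γ(X, X.basicOpen f) := (resFun X (X.basicOpen_le f)).toAlgebra
    have : IsLocalization.Away f Γ(X, X.basicOpen f) := hU.isLocalization_basicOpen f
    obtain ⟨⟨a, ⟨_, k, rfl⟩⟩, hak⟩ := IsLocalization.surj (Submonoid.powers f) r
    refine ⟨n + k, a • t, Submodule.smul_mem _ _ ht, ?_⟩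
    rw [res_smul, hts]
    have hak' : r * resFun X (X.basicOpen_le f) f ^ k = resFun X (X.basicOpen_le f) a := by
      rw [← map_pow]; exact hak
    rw [← hak', ← mul_smul, ← mul_smul, pow_add]
    congr 1
    ring

/-- A section over an affine open which is locally in a span is in the span. -/
lemma mem_span_of_local {U : X.Opens} (hU : IsAffineOpen U) (T : Set Γ(F, U)) (s : Γ(F, U))
    (h : ∀ x ∈ U, ∃ (Z : X.Opens) (hZ : Z ≤ U), x ∈ Z ∧
      res F hZ s ∈ Submodule.span Γ(X, Z) (res F hZ '' T)) :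
    s ∈ Submodule.span Γ(X, U) T := by
  let I : Ideal Γ(X, U) :=
    (Submodule.span Γ(X, U) T).comap (LinearMap.toSpanSingleton Γ(X, U) _ s)
  suffices hI : I = ⊤ by
    simpa [I] using hI.ge (Submodule.mem_top (x := (1 : Γ(X, U))))
  by_contra hI
  obtain ⟨m, hm, hIm⟩ := Ideal.exists_le_maximal I hI
  let q : PrimeSpectrum Γ(X, U) := ⟨m, hm.isPrime⟩
  have hqU : hU.fromSpec q ∈ U := by
    change hU.fromSpec q ∈ (U : Set X)
    rw [← hU.range_fromSpec]; exact ⟨q, rfl⟩
  have hqq : hU.primeIdealOf ⟨hU.fromSpec q, hqU⟩ = q :=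
    hU.fromSpec.isOpenEmbedding.injective (hU.fromSpec_primeIdealOf _)
  obtain ⟨Z, hZ, hxZ, hsZ⟩ := h _ hqU
  obtain ⟨g, hxg, hgZ⟩ := exists_basicOpen_mem hU hqU hxZ
  have hs' := res_mem_span hgZ _ _ hsZ
  rw [res_res, Set.image_image] at hs'
  simp only [res_res] at hs'
  obtain ⟨n, t, ht, hts⟩ := exists_pow_smul_eq_res_span hU T g _ hs'
  obtain ⟨k, hk⟩ := exists_pow_smul_eq_zero F hU g (t - g ^ n • s)
    (by rw [map_sub, res_smul, hts, map_pow, sub_self])
  rw [smul_sub, sub_eq_zero, ← mul_smul, ← pow_add] at hk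
  rw [mem_basicOpen_iff_notMem_primeIdealOf hU g _ hqU, hqq] at hxg
  exact hxg (hm.isPrime.mem_of_pow_mem (k + n) (hIm (by
    change g ^ (k + n) • s ∈ Submodule.span Γ(X, U) T
    rw [← hk]; exact Submodule.smul_mem _ _ ht)))

/-- On an affine open and a function on a basic open, a lift to the affine open. -/
lemma exists_lift_basicOpen {A : X.Opens} (hA : IsAffineOpen A) (h : Γ(X, A))
    (f : Γ(X, X.basicOpen h)) :
    ∃ (a : Γ(X, A)) (u : Γ(X, X.basicOpen h)), IsUnit u ∧ X.basicOpen a = X.basicOpen f ∧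
      resFun X (X.basicOpen_le h) a = u * f := by
  let _ : Algebra Γ(X, A) Γ(X, X.basicOpen h) := (resFun X (X.basicOpen_le h)).toAlgebra
  have : IsLocalization.Away h Γ(X, X.basicOpen h) := hA.isLocalization_basicOpen h
  obtain ⟨⟨a, ⟨_, k, rfl⟩⟩, hak⟩ := IsLocalization.surj (Submonoid.powers h) f
  have hu : IsUnit (resFun X (X.basicOpen_le h) h) := RingedSpace.isUnit_res_basicOpen _ _
  refine ⟨a * h, resFun X (X.basicOpen_le h) h ^ (k + 1), hu.pow _, ?_, ?_⟩
  · have h1 : resFun X (X.basicOpen_le h) a = f * resFun X (X.basicOpen_le h) h ^ k := by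
      rw [← map_pow]; exact hak.symm
    have h2 := X.basicOpen_res a (homOfLE (X.basicOpen_le h)).op
    change X.basicOpen (resFun X (X.basicOpen_le h) a) = _ at h2
    rw [h1, Scheme.basicOpen_mul, Scheme.basicOpen_of_isUnit X (hu.pow k),
      inf_eq_left.mpr (X.basicOpen_le f)] at h2
    rw [Scheme.basicOpen_mul, h2, inf_comm]
  · have hak' : f * resFun X (X.basicOpen_le h) h ^ k = resFun X (X.basicOpen_le h) a := by
      rw [← map_pow]; exact hak
    rw [map_mul, ← hak']
    ring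

omit [F.IsQuasicoherent] in
/-- A span on a good affine open generates on smaller basic opens. -/
lemma GoodAt.mem_span_res {P : SubMod F} {A : X.Opens} (h : P.GoodAt A) {G : Set Γ(F, A)}
    (hG : Submodule.span Γ(X, A) G = P.mem A) (f : Γ(X, A)) (s : Γ(F, X.basicOpen f))
    (hs : s ∈ P.mem (X.basicOpen f)) :
    s ∈ Submodule.span Γ(X, X.basicOpen f) (res F (X.basicOpen_le f) '' G) := by
  obtain ⟨n, t, ht, hts⟩ := h.2.2 f s hs
  have h1 := res_mem_span (X.basicOpen_le f) G t (hG.symm ▸ ht)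
  rw [hts] at h1
  have hu : IsUnit (resFun X (X.basicOpen_le f) f ^ n) :=
    IsUnit.pow n (RingedSpace.isUnit_res_basicOpen _ _)
  obtain ⟨v, hv⟩ := hu
  rw [← hv] at h1
  have := Submodule.smul_mem _ (↑v⁻¹ : Γ(X, X.basicOpen f)) h1
  rwa [← mul_smul, Units.inv_mul, one_smul] at this

omit [F.IsQuasicoherent] in
/-- Goodness passes to basic opens. -/
lemma GoodAt.basicOpen {P : SubMod F} {A : X.Opens} (h : P.GoodAt A) (g : Γ(X, A)) :
    P.GoodAt (X.basicOpen g) := by
  classical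
  refine ⟨h.1.basicOpen g, ?_, fun f s hs => ?_⟩
  · obtain ⟨G, hG⟩ := h.2.1
    refine ⟨G.image (res F (X.basicOpen_le g)), le_antisymm (Submodule.span_le.mpr ?_) fun s hs => ?_⟩
    · intro z hz
      rw [Finset.coe_image] at hz
      obtain ⟨t, ht, rfl⟩ := hz
      exact P.res_mem _ _ (hG.le (Submodule.subset_span ht))
    · rw [Finset.coe_image]
      exact h.mem_span_res hG g s hs
  · obtain ⟨a, u, hu, hau, hru⟩ := exists_lift_basicOpen h.1 g f
    obtain ⟨n, t, ht, hts⟩ := h.2.2 a (res F hau.le s) (P.res_mem _ _ hs)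
    obtain ⟨v, hv⟩ := (hu.pow n)
    refine ⟨n, (↑v⁻¹ : Γ(X, X.basicOpen g)) • res F (X.basicOpen_le g) t,
      Submodule.smul_mem _ _ (P.res_mem _ _ ht), ?_⟩
    have key := congr(res F hau.ge $hts)
    rw [res_res, res_smul, res_res, res_self, map_pow, resFun_resFun,
      ← resFun_resFun (X.basicOpen_le g) (X.basicOpen_le f), hru, map_mul, mul_pow] at key
    rw [res_smul, res_res, key, ← map_pow, ← hv, ← mul_smul, ← mul_assoc, ← map_mul,
      Units.inv_mul, map_one, one_mul]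

omit [F.IsQuasicoherent] in
lemma GoodOn.exists_le {P : SubMod F} {W : X.Opens} (h : P.GoodOn W) {V : X.Opens} {x : X}
    (hxW : x ∈ W) (hxV : x ∈ V) : ∃ A : X.Opens, A ≤ W ⊓ V ∧ x ∈ A ∧ P.GoodAt A := by
  obtain ⟨A, hAW, hxA, hA⟩ := h x hxW
  obtain ⟨g, hxg, hgV⟩ := exists_basicOpen_mem hA.1 hxA hxV
  exact ⟨X.basicOpen g, le_inf ((X.basicOpen_le g).trans hAW) hgV, hxg, hA.basicOpen g⟩

/-- A sheaf of submodules which is good everywhere is quasi-coherent of finite type. -/
theorem isQCoh_toMod {P : SubMod F} (h : P.GoodOn ⊤) :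
    P.toMod.IsQuasicoherent ∧ CohB1.IsFT P.toMod := by
  have hq : P.toMod.IsQuasicoherent := by
    refine isQCoh_of_affine_cover _ fun x => ?_
    obtain ⟨A, -, hxA, hA⟩ := h x trivial
    refine ⟨A, hA.1, hxA, fun f s => ?_, fun f t ht => ?_⟩
    · obtain ⟨n, t, ht, hts⟩ := hA.2.2 f _ (P.ι_app_mem s)
      obtain ⟨t', rfl⟩ := P.exists_ι_app_eq t ht
      refine ⟨n, t', P.ι_app_injective _ ?_⟩
      rw [← res_app, Scheme.Modules.Hom.app_smul]
      exact hts
    · obtain ⟨n, hn⟩ := exists_pow_smul_eq_zero F hA.1 f (P.ι.app A t)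
        (by rw [res_app, ht, map_zero])
      exact ⟨n, P.ι_app_injective _ (by rw [Scheme.Modules.Hom.app_smul, hn, map_zero])⟩
  refine ⟨hq, isFT_of_affine_cover _ fun x => ?_⟩
  obtain ⟨A, -, hxA, hA⟩ := h x trivial
  exact ⟨A, hA.1, hxA, (Module.Finite.iff_fg (N := P.mem A)).mpr hA.2.1⟩

end SubMod

end Groth.QCohMod
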