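import Groth.Agent.QCohMod.SubModExtend
import Groth.Agent.QCohMod.QCQS

/-!
# Extension of submodules of finite type from an open subscheme
-/

universe u v

open CategoryTheory Limits AlgebraicGeometry Opposite TopologicalSpace

namespace Groth.QCohMod

variable {X : Scheme.{u}}

/-- Reinterpret a section of a restricted module. -/
noncomputable abbrev ofRestr (F : X.Modules) (U : X.Opens) (W : (U : Scheme.{u}).Opens)
    (s : Γ(F.restrict U.ι, W)) : Γ(F, U.ι ''ᵁ W) := s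

/-- Reinterpret a function on an open of an open subscheme. -/
noncomputable abbrev funOfRestr (U : X.Opens) (W : (U : Scheme.{u}).Opens)
    (r : Γ((U : Scheme.{u}), W)) : Γ(X, U.ι ''ᵁ W) := r

/-- Reinterpret a function on an open as one on an open of an open subscheme. -/
noncomputable abbrev toRestrFun (U : X.Opens) (W : (U : Scheme.{u}).Opens)
    (r : Γ(X, U.ι ''ᵁ W)) : Γ((U : Scheme.{u}), W) := r

lemma ofRestr_smul (F : X.Modules) (U : X.Opens) (W : (U : Scheme.{u}).Opens)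
    (r : Γ((U : Scheme.{u}), W)) (s : Γ(F.restrict U.ι, W)) :
    ofRestr F U W (r • s) = funOfRestr U W r • ofRestr F U W s := by
  change (HSMul.hSMul (α := Γ(X, U.ι ''ᵁ W)) (β := Γ(F, U.ι ''ᵁ W))
    ((U.ι.appIso W).inv r) s : Γ(F, U.ι ''ᵁ W)) = _
  rw [Scheme.Opens.ι_appIso]
  rfl

lemma ofRestr_res (F : X.Modules) (U : X.Opens) {W W' : (U : Scheme.{u}).Opens} (h : W' ≤ W)
    (s : Γ(F.restrict U.ι, W)) :
    ofRestr F U W' (res (F.restrict U.ι) h s) = res F (U.ι.image_mono h) (ofRestr F U W s) :=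
  rfl

lemma image_basicOpen_ι (U : X.Opens) {W : (U : Scheme.{u}).Opens} (r : Γ((U : Scheme.{u}), W)) :
    U.ι ''ᵁ (U : Scheme.{u}).basicOpen r = X.basicOpen (funOfRestr U W r) := by
  rw [Scheme.image_basicOpen, Scheme.Opens.ι_appIso]
  rfl

variable {F : X.Modules} {U : X.Opens} {G : (U : Scheme.{u}).Modules} (i : G ⟶ F.restrict U.ι)
  [Mono i]

/-- The sheaf of submodules of sections restricting to sections of `G` on `U`. -/
noncomputable def imgSub : SubMod F where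
  mem Y :=
    { carrier := {s | ∃ g : Γ(G, U.ι ⁻¹ᵁ Y),
        ofRestr F U _ (i.app _ g) = res F (U.ι.image_preimage_le Y) s}
      add_mem' := fun {s t} ⟨g, hg⟩ ⟨g', hg'⟩ => ⟨g + g', by
        rw [map_add, map_add, ← hg, ← hg']; rfl⟩
      zero_mem' := ⟨0, by rw [map_zero, map_zero]; rfl⟩
      smul_mem' := fun r s ⟨g, hg⟩ =>
        ⟨toRestrFun U _ (resFun X (U.ι.image_preimage_le Y) r) • g, by
          rw [Scheme.Modules.Hom.app_smul, ofRestr_smul, hg, res_smul]⟩ }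
  res_mem {Y Y'} h s := fun ⟨g, hg⟩ => ⟨res G (U.ι.preimage_mono h) g, by
    rw [← res_app, ofRestr_res, hg, res_res, res_res]⟩
  local_mem {Y} s hs := by
    choose Y' hY' hxY' g hg using hs
    let κ := {x : X // x ∈ Y}
    have hinj : ∀ W, Function.Injective (i.app W) := fun W =>
      Groth.CohTwo.app_injective i W
    obtain ⟨g₀, hg₀⟩ := Groth.CohTwo.exists_glue G (W := U.ι ⁻¹ᵁ Y)
      (fun x : κ => U.ι ⁻¹ᵁ Y' x.1 x.2) (fun x => U.ι.preimage_mono (hY' x.1 x.2))
      (fun z hz => ⟨⟨U.ι z, hz⟩, hxY' (U.ι z) hz⟩) (fun x => g x.1 x.2) (fun x y => by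
        apply hinj
        change i.app _ (res G _ _) = i.app _ (res G _ _)
        rw [← res_app, ← res_app]
        change ofRestr F U _ (res (F.restrict U.ι) _ _) = ofRestr F U _ (res (F.restrict U.ι) _ _)
        rw [ofRestr_res, ofRestr_res, hg, hg, res_res, res_res, res_res, res_res])
    refine ⟨g₀, Groth.CohTwo.eq_of_local F _ _ fun x hx => ?_⟩
    obtain ⟨z, hz, rfl⟩ := hx
    replace hz : U.ι z ∈ Y := hz
    refine ⟨U.ι ''ᵁ (U.ι ⁻¹ᵁ Y' (U.ι z) hz), U.ι.image_mono (U.ι.preimage_mono (hY' _ hz)),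
      ⟨z, hxY' (U.ι z) hz, rfl⟩, ?_⟩
    change res F _ (ofRestr F U _ (i.app _ g₀)) = res F _ (res F _ s)
    rw [← ofRestr_res F U (U.ι.preimage_mono (hY' _ hz)), res_app]
    erw [hg₀ ⟨U.ι z, hz⟩]
    rw [hg, res_res, res_res]

lemma mem_imgSub_image {B : (U : Scheme.{u}).Opens} (s : Γ(F, U.ι ''ᵁ B)) :
    s ∈ (imgSub i).mem (U.ι ''ᵁ B) ↔ ∃ g : Γ(G, B), ofRestr F U B (i.app B g) = s := by
  have h1 : B ≤ U.ι ⁻¹ᵁ U.ι ''ᵁ B := (U.ι.preimage_image_eq B).ge
  have h2 : U.ι ⁻¹ᵁ U.ι ''ᵁ B ≤ B := (U.ι.preimage_image_eq B).le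
  refine ⟨fun ⟨g, hg⟩ => ⟨res G h1 g, ?_⟩, fun ⟨g, hg⟩ => ⟨res G h2 g, ?_⟩⟩
  · rw [← res_app, ofRestr_res, hg, res_res, res_self]
  · rw [← res_app, ofRestr_res, hg]

variable [G.IsQuasicoherent]

lemma imgSub_goodAt (hG : CohB1.IsFT G) {B : (U : Scheme.{u}).Opens} (hB : IsAffineOpen B) :
    (imgSub i).GoodAt (U.ι ''ᵁ B) := by
  classical
  refine ⟨hB.image_of_isOpenImmersion U.ι, ?_, fun f s hs => ?_⟩
  · have := finite_sections G hG hB
    obtain ⟨S, hS⟩ := (Module.Finite.fg_top : (⊤ : Submodule Γ((U : Scheme.{u}), B) Γ(G, B)).FG)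
    refine ⟨S.image (fun g => ofRestr F U B (i.app B g)), le_antisymm (Submodule.span_le.mpr ?_) ?_⟩
    · intro z hz
      rw [Finset.coe_image] at hz
      obtain ⟨g, -, rfl⟩ := hz
      exact (mem_imgSub_image i _).mpr ⟨g, rfl⟩
    · intro s hs
      obtain ⟨g, rfl⟩ := (mem_imgSub_image i s).mp hs
      have hg : g ∈ Submodule.span Γ((U : Scheme.{u}), B) (S : Set Γ(G, B)) := hS.ge trivial
      induction hg using Submodule.span_induction with
      | mem g hg =>
        exact Submodule.subset_span (by rw [Finset.coe_image]; exact ⟨g, hg, rfl⟩)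
      | zero => rw [map_zero]; exact zero_mem _
      | add p q _ _ hp hq =>
        rw [map_add]
        exact add_mem (hp ((mem_imgSub_image i _).mpr ⟨p, rfl⟩))
          (hq ((mem_imgSub_image i _).mpr ⟨q, rfl⟩))
      | smul r p _ hp =>
        rw [Scheme.Modules.Hom.app_smul, ofRestr_smul]
        exact Submodule.smul_mem _ _ (hp ((mem_imgSub_image i _).mpr ⟨p, rfl⟩))
  · let f' : Γ((U : Scheme.{u}), B) := f
    have hD : U.ι ''ᵁ (U : Scheme.{u}).basicOpen f' = X.basicOpen f := image_basicOpen_ι U f'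
    obtain ⟨g, hg⟩ := (mem_imgSub_image i _).mp ((imgSub i).res_mem hD.le s hs)
    obtain ⟨n, g₀, hg₀⟩ := exists_pow_smul_eq_res G hB f' g
    refine ⟨n, ofRestr F U B (i.app B g₀), (mem_imgSub_image i _).mpr ⟨g₀, rfl⟩, ?_⟩
    have key := congr(res F hD.ge (ofRestr F U _ (i.app _ $hg₀)))
    rw [← res_app, ofRestr_res, res_res, Scheme.Modules.Hom.app_smul, ofRestr_smul, res_smul, hg,
      res_res, res_self] at key
    rw [key]
    congr 1
    change resFun X hD.ge (resFun X (U.ι.image_mono ((U : Scheme.{u}).basicOpen_le f')) f ^ n) = _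
    rw [map_pow, resFun_resFun]

lemma imgSub_goodOn (hG : CohB1.IsFT G) : (imgSub i).GoodOn U := by
  intro x hx
  obtain ⟨B, hB, hxB⟩ := exists_affine_mem (X := (U : Scheme.{u})) ⟨x, hx⟩
  exact ⟨U.ι ''ᵁ B, U.ι_image_le B, ⟨⟨x, hx⟩, hxB, rfl⟩, imgSub_goodAt i hG hB⟩

set_option maxHeartbeats 1600000 in
/-- Extension of a quasi-coherent submodule of finite type along a well-ordered affine cover. -/
theorem exists_extension_subsheaf [F.IsQuasicoherent] (hG : CohB1.IsFT G) {L : Type v}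
    [LinearOrder L] [WellFoundedLT L] (V : L → X.Opens) (hV : ∀ l, IsAffineOpen (V l))
    (hcov : ⨆ l, V l = ⊤)
    (hW : ∀ l, IsCompact ((V l : Set X) ∩ ⋃ m ∈ Set.Iio l, (V m : Set X)))
    (hU : ∀ l, IsCompact ((V l : Set X) ∩ U)) :
    ∃ (G' : X.Modules) (i' : G' ⟶ F) (e : G'.restrict U.ι ≅ G), Mono i' ∧ G'.IsQuasicoherent ∧
      CohB1.IsFT G' ∧ e.hom ≫ i = (Scheme.Modules.restrictFunctor U.ι).map i' := by
  obtain ⟨P, hP, hgood⟩ := SubMod.exists_extension V hV hcov hW U hU (imgSub i) (imgSub_goodOn i hG)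
  obtain ⟨hq, hft⟩ := SubMod.isQCoh_toMod hgood
  let ψ := (Scheme.Modules.restrictFunctor U.ι).map P.ι
  have hψinj : ∀ W, Function.Injective (ψ.app W) := fun W => P.ι_app_injective _
  have hmem : ∀ (W : (U : Scheme.{u}).Opens) (s : Γ(F, U.ι ''ᵁ W)),
      s ∈ P.mem (U.ι ''ᵁ W) ↔ ∃ g : Γ(G, W), ofRestr F U W (i.app W g) = s := fun W s => by
    rw [hP _ (U.ι_image_le W), mem_imgSub_image]
  obtain ⟨φ, hφ⟩ := Groth.CohTwo.exists_hom_of_local (T := G) (F := P.toMod.restrict U.ι)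
    (fun W g t => ψ.app W t = i.app W g)
    (fun {W' W} hW g t (h : ψ.app W t = i.app W g) => by
      change ψ.app W' (res _ hW t) = i.app W' (res _ hW g)
      rw [← res_app, ← res_app, h])
    (fun W g t t' (h : ψ.app W t = i.app W g) (h' : ψ.app W t' = i.app W g) =>
      hψinj W (h.trans h'.symm))
    (fun W g t h => by
      refine Groth.CohTwo.eq_of_local _ _ _ fun x hx => ?_
      obtain ⟨W', hW', hxW', h'⟩ := h x hx
      refine ⟨W', hW', hxW', ?_⟩
      change res _ hW' (ψ.app W t) = res _ hW' (i.app W g)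
      rw [res_app, res_app]
      exact h')
    (fun W g x hx => by
      obtain ⟨t, ht⟩ := P.exists_ι_app_eq _ ((hmem W _).mpr ⟨g, rfl⟩)
      refine ⟨W, le_rfl, t, hx, ?_⟩
      change ψ.app W t = i.app W (res G le_rfl g)
      rw [res_self]
      exact ht)
    (fun W g g' t t' (h : ψ.app W t = i.app W g) (h' : ψ.app W t' = i.app W g') => by
      change ψ.app W (t + t') = i.app W (g + g')
      rw [map_add, map_add, h, h'])
    (fun W r g t (h : ψ.app W t = i.app W g) => by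
      change ψ.app W (r • t) = i.app W (r • g)
      rw [Scheme.Modules.Hom.app_smul, Scheme.Modules.Hom.app_smul, h])
  have hφ' : ∀ W g, ψ.app W (φ.app W g) = i.app W g := hφ
  have : IsIso φ := Groth.CohTwo.isIso_of_app_bijective φ fun W => ⟨fun a b hab =>
    Groth.CohTwo.app_injective i W (by rw [← hφ', ← hφ', hab]), fun t => by
      obtain ⟨g, hg⟩ := (hmem W _).mp (P.ι_app_mem t)
      exact ⟨g, hψinj W ((hφ' W g).trans hg)⟩⟩
  refine ⟨P.toMod, P.ι, (asIso φ).symm, inferInstance, hq, hft, ?_⟩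
  rw [Iso.symm_hom, asIso_inv, IsIso.inv_comp_eq]
  exact (Groth.CohTwo.hom_ext_app fun W g => hφ' W g).symm

end Groth.QCohMod
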