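import Groth.Agent.QCohMod.FiniteType
import Groth.Agent.QCohMod.QCQS
import Groth.Agent.QCohMod.Killed

/-!
# Sections of filtered colimits of modules
-/

universe u

open CategoryTheory Limits AlgebraicGeometry Opposite TopologicalSpace

namespace Groth.QCohMod

variable {X : Scheme.{u}} {J : Type u} [SmallCategory J] [IsFiltered J] {D : J ⥤ X.Modules}
  {c : Cocone D} (hc : IsColimit c)

/-- The maps of a cocone. -/
abbrev coc {K : Type*} [Category K] {E : K ⥤ X.Modules} (c : Cocone E) (j : K) :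
    E.obj j ⟶ c.pt := c.ι.app j

omit [IsFiltered J] in
/-- Sections of a diagram map compose. -/
lemma map_app_app {i j k : J} (a : i ⟶ j) (b : j ⟶ k) (W : X.Opens) (d : Γ(D.obj i, W)) :
    (D.map (a ≫ b)).app W d = (D.map b).app W ((D.map a).app W d) := by
  rw [D.map_comp]; rfl

omit [IsFiltered J] in
/-- Cocone maps are compatible on sections. -/
lemma cocone_app_app (c : Cocone D) {i j : J} (a : i ⟶ j) (W : X.Opens) (d : Γ(D.obj i, W)) :
    (coc c j).app W ((D.map a).app W d) = (coc c i).app W d := by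
  change _ = (c.ι.app i).app W d
  rw [← c.w a]; rfl

include hc

/-- A section over a compact open killed in the colimit is killed at a later stage. -/
theorem exists_map_eq_zero {W : X.Opens} (hW : IsCompact (W : Set X)) {i : J}
    (d : Γ(D.obj i, W)) (h : (coc c i).app W d = 0) :
    ∃ (k : J) (u : i ⟶ k), (D.map u).app W d = 0 := by
  suffices key : ∃ (Z : X.Opens) (hZ : Z ≤ W) (k : J) (u : i ⟶ k),
      (W : Set X) ⊆ Z ∧ res (D.obj k) hZ ((D.map u).app W d) = 0 by
    obtain ⟨Z, hZ, k, u, hWZ, hu⟩ := key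
    obtain rfl : Z = W := le_antisymm hZ hWZ
    rw [res_self] at hu
    exact ⟨k, u, hu⟩
  refine hW.induction_on (p := fun s => ∃ (Z : X.Opens) (hZ : Z ≤ W) (k : J) (u : i ⟶ k),
      s ⊆ Z ∧ res (D.obj k) hZ ((D.map u).app W d) = 0) ?_ ?_ ?_ ?_
  · exact ⟨⊥, bot_le, i, 𝟙 i, Set.empty_subset _, (subsingleton_bot _ rfl).elim _ _⟩
  · rintro s t hst ⟨Z, hZ, k, u, ht, h⟩
    exact ⟨Z, hZ, k, u, hst.trans ht, h⟩
  · rintro s t ⟨Z, hZ, k, u, hs, h₁⟩ ⟨Z', hZ', k', u', ht, h₂⟩
    obtain ⟨m, v, v', e⟩ := IsFiltered.span u u'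
    refine ⟨Z ⊔ Z', sup_le hZ hZ', m, u ≫ v, Set.union_subset (hs.trans (le_sup_left : Z ≤ Z ⊔ Z'))
      (ht.trans (le_sup_right : Z' ≤ Z ⊔ Z')), ?_⟩
    refine eq_of_res_eq₂ _ (le_sup_left : Z ≤ _) (le_sup_right : Z' ≤ _) le_rfl _ _ ?_ ?_
    · rw [res_res, map_zero, map_app_app, res_app, h₁, map_zero]
    · rw [res_res, map_zero, e, map_app_app, res_app, h₂, map_zero]
  · intro x hx
    have h0 : (stalk x).map (coc c i) (germ (D.obj i) x hx d) = 0 := by
      erw [stalk_map_germ, h, map_zero]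
      rfl
    obtain ⟨k, u, u', hu⟩ := Concrete.isColimit_exists_of_rep_eq (D ⋙ stalk x)
      (isColimitOfPreserves (stalk x) hc) (germ (D.obj i) x hx d) (i := i) (j := i) 0
      (h0.trans (map_zero _).symm)
    have hg : germ (D.obj k) x hx ((D.map u).app W d) = 0 := by
      rw [← stalk_map_germ]
      exact hu.trans (map_zero _)
    obtain ⟨Z, hxZ, a, b, hZ⟩ := TopCat.Presheaf.germ_eq (D.obj k).presheaf x hx hx
      ((D.map u).app W d) 0 (hg.trans (map_zero _).symm)
    refine ⟨Z, mem_nhdsWithin_of_mem_nhds (Z.2.mem_nhds hxZ), Z, a.le, k, u, subset_rfl, ?_⟩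
    exact hZ.trans (map_zero _)

/-- Two sections over a compact open with the same image in the colimit agree at a later stage. -/
theorem exists_map_eq {W : X.Opens} (hW : IsCompact (W : Set X)) {i j : J}
    (d : Γ(D.obj i, W)) (d' : Γ(D.obj j, W))
    (h : (coc c i).app W d = (coc c j).app W d') :
    ∃ (k : J) (u : i ⟶ k) (v : j ⟶ k), (D.map u).app W d = (D.map v).app W d' := by
  let m := IsFiltered.max i j
  obtain ⟨k, u, hu⟩ := exists_map_eq_zero hc hW
    ((D.map (IsFiltered.leftToMax i j)).app W d - (D.map (IsFiltered.rightToMax i j)).app W d')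
    (by rw [map_sub, cocone_app_app, cocone_app_app, h, sub_self])
  refine ⟨k, IsFiltered.leftToMax i j ≫ u, IsFiltered.rightToMax i j ≫ u, ?_⟩
  rw [map_app_app, map_app_app]
  rwa [map_sub, sub_eq_zero] at hu

variable [∀ j, (D.obj j).IsQuasicoherent] [c.pt.IsQuasicoherent]

/-- Over an affine open every section of a filtered colimit comes from some stage. -/
theorem exists_app_eq_affine {U : X.Opens} (hU : IsAffineOpen U) (g : Γ(c.pt, U)) :
    ∃ (j : J) (d : Γ(D.obj j, U)), (coc c j).app U d = g := by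
  let N : J → Submodule Γ(X, U) Γ(c.pt, U) := fun j => LinearMap.range (appₗ (coc c j) U)
  have hN : ∀ {i j : J} (a : i ⟶ j), N i ≤ N j := by
    rintro i j a _ ⟨m, rfl⟩
    exact ⟨(D.map a).app U m, cocone_app_app c a U m⟩
  let I : J → Ideal Γ(X, U) := fun j => (N j).comap (LinearMap.toSpanSingleton _ _ g)
  have hdir : Directed (· ≤ ·) I := fun i j => ⟨IsFiltered.max i j,
    Submodule.comap_mono (hN (IsFiltered.leftToMax i j)),
    Submodule.comap_mono (hN (IsFiltered.rightToMax i j))⟩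
  suffices htop : iSup I = ⊤ by
    have : Nonempty J := IsFiltered.nonempty
    obtain ⟨j, hj⟩ :=
      (Submodule.mem_iSup_of_directed I hdir).mp (htop.ge (trivial : (1 : Γ(X, U)) ∈ _))
    obtain ⟨d, hd⟩ : g ∈ N j := by simpa [I] using hj
    exact ⟨j, d, hd⟩
  by_contra hne
  obtain ⟨P, hP, hle⟩ := Ideal.exists_le_maximal _ hne
  let p : PrimeSpectrum Γ(X, U) := ⟨P, hP.isPrime⟩
  have hmem : hU.fromSpec p ∈ U := by
    have h := Set.mem_range_self (f := hU.fromSpec) p
    rwa [hU.range_fromSpec] at h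
  have hx : hU.primeIdealOf ⟨hU.fromSpec p, hmem⟩ = p :=
    hU.fromSpec.isOpenEmbedding.injective (hU.fromSpec_primeIdealOf _)
  set x := hU.fromSpec p
  obtain ⟨j, t, ht⟩ := Concrete.isColimit_exists_rep _ (isColimitOfPreserves (stalk x) hc)
    (germ c.pt x hmem g)
  obtain ⟨a, m, ha, ham⟩ := exists_smul_germ_eq (D.obj j) hU x hmem t
  have hgerm : germ c.pt x hmem (a • g - (coc c j).app U m) = 0 := by
    rw [map_sub, germ_smul, sub_eq_zero, ← stalk_map_germ, ← ham]
    erw [stalk_map_germ_smul]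
    exact congrArg _ ht.symm
  obtain ⟨b, hb, hb0⟩ := exists_smul_eq_zero_of_germ_eq_zero c.pt hU x hmem _ hgerm
  have hmemI : b * a ∈ I j := by
    rw [Submodule.mem_comap, LinearMap.toSpanSingleton_apply, mul_smul]
    rw [smul_sub, sub_eq_zero] at hb0
    rw [hb0]
    exact ⟨b • m, (appₗ (coc c j) U).map_smul b m⟩
  have hbP : b * a ∈ P := hle (le_iSup I j hmemI)
  have hba : x ∈ X.basicOpen (b * a) := by
    rw [Scheme.basicOpen_mul]; exact ⟨hb, ha⟩
  rw [mem_basicOpen_iff_notMem_primeIdealOf hU (b * a) x hmem, hx] at hba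
  exact hba hbP

/-- Over a qcqs open every section of a filtered colimit comes from some stage. -/
theorem exists_app_eq_of_qcqs {W : X.Opens} (hW : IsCompact (W : Set X))
    (hW' : IsQuasiSeparated (W : Set X)) (g : Γ(c.pt, W)) :
    ∃ (j : J) (d : Γ(D.obj j, W)), (coc c j).app W d = g := by
  revert hW' g
  refine compact_open_induction_on W hW (fun _ g => ?_) fun S hSc U hS hSU g => ?_
  · exact ⟨IsFiltered.nonempty.some, 0, (subsingleton_bot _ rfl).elim _ _⟩
  · obtain ⟨i, d₁, h₁⟩ := hS (hSU.of_subset Set.subset_union_left) (res _ le_sup_left g)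
    obtain ⟨j, d₂, h₂⟩ := exists_app_eq_affine hc U.2 (res _ le_sup_right g)
    have hI : IsCompact ((S ⊓ U.1 : X.Opens) : Set X) :=
      hSU _ _ Set.subset_union_left S.2 hSc Set.subset_union_right U.1.2 U.2.isCompact
    obtain ⟨k, u, v, huv⟩ := exists_map_eq hc hI (res (D.obj i) inf_le_left d₁)
      (res (D.obj j) inf_le_right d₂)
      (by rw [← res_app, ← res_app, h₁, h₂, res_res, res_res])
    obtain ⟨d, hd₁, hd₂⟩ := exists_glue₂ (D.obj k) (le_sup_left : S ≤ S ⊔ U.1)
      (le_sup_right : U.1 ≤ S ⊔ U.1) le_rfl ((D.map u).app S d₁) ((D.map v).app U.1 d₂)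
      (by rw [res_app, res_app]; exact huv)
    refine ⟨k, d, eq_of_res_eq₂ _ (le_sup_left : S ≤ _) (le_sup_right : U.1 ≤ _) le_rfl _ _ ?_ ?_⟩
    · rw [res_app, hd₁, cocone_app_app, h₁]
    · rw [res_app, hd₂, cocone_app_app, h₂]

end Groth.QCohMod
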