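import Groth.Agent.QCohMod.Category
import Groth.Agent.Ega2Proj.IsoAffine
import Groth.Prelude.Def_QCohCat
import Mathlib.CategoryTheory.Subobject.Basic

/-!
# Subobjects in the category of quasi-coherent modules
-/

universe u

open CategoryTheory Limits AlgebraicGeometry Opposite TopologicalSpace

namespace Groth.QCohMod

variable {X : Scheme.{u}}

instance (M : QCohCat.QCoh X) : M.obj.IsQuasicoherent := M.2

/-- Factorisation through a monomorphism of quasi-coherent modules is checked on an affine
cover. -/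
theorem exists_lift_of_cover {A B M : X.Modules} [A.IsQuasicoherent] [B.IsQuasicoherent]
    [M.IsQuasicoherent] (a : A ⟶ M) (b : B ⟶ M) [Mono b]
    {ι : Type*} (U : ι → X.Opens) (hU : ∀ i, IsAffineOpen (U i)) (hcov : iSup U = ⊤)
    (h : ∀ i, Set.range (a.app (U i)) ⊆ Set.range (b.app (U i))) :
    ∃ t : A ⟶ B, t ≫ b = a := by
  let c : A ⟶ cokernel b := a ≫ cokernel.π b
  have hz : c = 0 := by
    have : IsIso (kernel.ι c) := by
      refine Groth.Ega2Proj.isIso_of_affine_cover (kernel.ι c) U hU hcov fun i ↦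
        ⟨app_injective_of_mono _ _, fun x ↦ ?_⟩
      refine exists_app_eq_of_mono_exact (S := ShortComplex.mk _ _ (kernel.condition c))
        (ShortComplex.exact_of_f_is_kernel _ (kernelIsKernel c)) (U i) x ?_
      obtain ⟨y, hy⟩ := h i ⟨x, rfl⟩
      change (cokernel.π b).app (U i) (a.app (U i) x) = 0
      rw [← hy]
      exact congr($(congrArg (fun φ : B ⟶ cokernel b ↦ φ.app (U i)) (cokernel.condition b)) y)
    exact (cancel_epi (kernel.ι c)).mp (by simp)
  exact ⟨Abelian.monoLift b a hz, Abelian.monoLift_comp b a hz⟩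

/-- An object of `QCoh` from a quasi-coherent module. -/
abbrev toQCoh (M : X.Modules) [h : M.IsQuasicoherent] : QCohCat.QCoh X := ⟨M, h⟩

/-- Monomorphisms of quasi-coherent modules are monomorphisms of modules. -/
instance mono_hom {M N : QCohCat.QCoh X} (f : M ⟶ N) [Mono f] : Mono f.hom := by
  refine Preadditive.mono_of_kernel_zero ?_
  let k : toQCoh (kernel f.hom) ⟶ M := ObjectProperty.homMk (kernel.ι f.hom)
  have : k = ObjectProperty.homMk (0 : kernel f.hom ⟶ M.obj) :=
    (cancel_mono f).mp (ObjectProperty.hom_ext _ (by simp [k, kernel.condition]))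
  exact congr(($this).hom)

lemma mono_homMk {M N : QCohCat.QCoh X} (f : M.obj ⟶ N.obj) [Mono f] :
    Mono (ObjectProperty.homMk f : M ⟶ N) :=
  ((QCohCat.isQCoh X).ι).mono_of_mono_map (inferInstanceAs (Mono f))

instance mono_arrow {M : QCohCat.QCoh X} (P : Subobject M) : Mono P.arrow.hom :=
  mono_hom P.arrow

/-- A subobject is determined by its sections over the members of an affine cover. -/
theorem subobject_eq_of_range_eq {M : QCohCat.QCoh X} {P Q : Subobject M} (hPQ : P ≤ Q)
    {ι : Type*} (U : ι → X.Opens) (hU : ∀ i, IsAffineOpen (U i)) (hcov : iSup U = ⊤)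
    (h : ∀ i, Set.range (Q.arrow.hom.app (U i)) ⊆ Set.range (P.arrow.hom.app (U i))) :
    P = Q := by
  let t := Subobject.ofLE P Q hPQ
  have ht : t.hom ≫ Q.arrow.hom = P.arrow.hom := congr($(Subobject.ofLE_arrow hPQ).hom)
  have : IsIso t.hom := by
    refine Groth.Ega2Proj.isIso_of_affine_cover t.hom U hU hcov fun i ↦ ⟨fun a b hab ↦ ?_,
      fun q ↦ ?_⟩
    · refine app_injective_of_mono P.arrow.hom (U i) ?_
      rw [← ht]
      exact congr(Q.arrow.hom.app (U i) $hab)
    · obtain ⟨p, hp⟩ := h i ⟨q, rfl⟩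
      refine ⟨p, app_injective_of_mono Q.arrow.hom (U i) ?_⟩
      rw [← hp, ← ht]
      rfl
  have : IsIso t := by
    have : IsIso ((QCohCat.isQCoh X).ι.map t) := ‹IsIso t.hom›
    exact isIso_of_reflects_iso t (QCohCat.isQCoh X).ι
  exact le_antisymm hPQ (Subobject.le_of_comm (inv t) (by simp [t]))

end Groth.QCohMod
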