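import Groth.Agent.QCohMod.OpenSupport
import Groth.Agent.QCohMod.QCohCatBasic
import Groth.Agent.QCohMod.FTCriterion

/-!
# Natural endomorphisms of quasi-coherent modules on a quasi-separated scheme are functions
-/

universe u

open CategoryTheory Limits AlgebraicGeometry Opposite TopologicalSpace

namespace Groth.QCohMod

variable {X : Scheme.{u}}

lemma quasiCompact_ι_of_affine [QuasiSeparatedSpace X] {U : X.Opens} (hU : IsAffineOpen U) :
    QuasiCompact U.ι := by
  have : CompactSpace (U : Scheme.{u}) := isCompact_iff_compactSpace.mp hU.isCompact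
  exact inferInstance

/-- The structure module as an object of `QCoh`. -/
noncomputable abbrev unitQ (X : Scheme.{u}) : QCohCat.QCoh X := toQCoh (Coh.structureModule X)

/-- A natural endomorphism of the quasi-coherent modules is multiplication by its value at `1`. -/
theorem natEnd_app [QuasiSeparatedSpace X] (z : ∀ M : QCohCat.QCoh X, M ⟶ M)
    (hz : ∀ {M N : QCohCat.QCoh X} (f : M ⟶ N), f ≫ z N = z M ≫ f)
    (M : QCohCat.QCoh X) {U : X.Opens} (hU : IsAffineOpen U) (s : Γ(M.obj, U)) :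
    (z M).hom.app U s =
      resFun X (le_top : U ≤ ⊤) ((z (unitQ X)).hom.app ⊤ (show Γ(Coh.structureModule X, ⊤) from (1 : Γ(X, ⊤))) :
        Γ(X, ⊤)) • s := by
  set f : Γ(X, ⊤) :=
    (z (unitQ X)).hom.app ⊤ (show Γ(Coh.structureModule X, ⊤) from (1 : Γ(X, ⊤))) with hf
  have := quasiCompact_ι_of_affine hU
  let P := (Scheme.Modules.pushforward U.ι).obj ((Scheme.Modules.restrictFunctor U.ι).obj M.obj)
  have hP : P.IsQuasicoherent := isQCoh_pushforward _ U.ι
  let N : QCohCat.QCoh X := toQCoh P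
  let η : M ⟶ N := ObjectProperty.homMk (openUnit U M.obj)
  have hle : ∀ W : X.Opens, U ≤ W → U.ι ''ᵁ (U.ι ⁻¹ᵁ W) = U := fun W hW => by
    rw [Scheme.Hom.image_preimage_eq_opensRange_inf, U.opensRange_ι, inf_eq_left.mpr hW]
  -- a global section of `N` lifting `s`
  let t : Γ(P, ⊤) := (show Γ(M.obj, U.ι ''ᵁ (U.ι ⁻¹ᵁ ⊤)) from res M.obj (hle ⊤ le_top).le s)
  have hglob : ∀ b : Γ(P, ⊤), (z N).hom.app ⊤ b = f • b := by
    intro b
    let σ : unitQ X ⟶ N := ObjectProperty.homMk (secHom P b)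
    have hσ : σ ≫ z N = z (unitQ X) ≫ σ := hz σ
    have h := congr(($hσ).hom.app ⊤ (show Γ(Coh.structureModule X, ⊤) from (1 : Γ(X, ⊤))))
    change (z N).hom.app ⊤ ((secHom P b).app ⊤ (1 : Γ(X, ⊤))) =
      (secHom P b).app ⊤ f at h
    rw [show (1 : Γ(X, ⊤)) = oneSec ⊤ from rfl] at h
    rw [secHom_app_one, secHom_app, res_self] at h
    exact h
  have hinj : Function.Injective (η.hom.app U) := by
    have hIU : U.ι ''ᵁ ⊤ = U := by rw [Scheme.Hom.image_top_eq_opensRange, U.opensRange_ι]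
    have hb : Function.Injective ((openUnit U M.obj).app (U.ι ''ᵁ ⊤)) :=
      (ConcreteCategory.bijective_of_isIso
        (((Scheme.Modules.restrictFunctor U.ι).map (openUnit U M.obj)).app ⊤)).1
    intro a b hab
    have h := congr(res P hIU.le $hab)
    rw [res_app, res_app] at h
    have h' := hb h
    have := congr(res M.obj hIU.ge $h')
    rwa [res_res, res_res, res_self, res_self] at this
  have hsurj : Function.Surjective (res P (le_top : U ≤ ⊤)) := fun b =>
    ⟨(show Γ(M.obj, U.ι ''ᵁ (U.ι ⁻¹ᵁ ⊤)) from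
        res M.obj ((hle ⊤ le_top).le.trans (hle U le_rfl).ge)
          (show Γ(M.obj, U.ι ''ᵁ (U.ι ⁻¹ᵁ U)) from b)), by
      change res M.obj (U.ι.image_mono (U.ι.preimage_mono le_top))
        (res M.obj _ (show Γ(M.obj, U.ι ''ᵁ (U.ι ⁻¹ᵁ U)) from b)) = _
      rw [res_res, res_self]⟩
  refine hinj ?_
  obtain ⟨b, hb⟩ := hsurj (η.hom.app U s)
  have hnat := congr(($(hz η)).hom.app U s)
  change (z N).hom.app U (η.hom.app U s) = η.hom.app U ((z M).hom.app U s) at hnat
  rw [← hnat, η.hom.app_smul, ← hb, ← res_app, hglob, res_smul]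

end Groth.QCohMod
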