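import Groth.Agent.QCohMod.FPPresentable
import Groth.Agent.LocFree.FP
import Mathlib.CategoryTheory.Presentable.Finite
import Mathlib.Algebra.Category.ModuleCat.FilteredColimits

/-!
# Finitely presentable objects of the category of quasi-coherent modules
-/

universe u

open CategoryTheory Limits AlgebraicGeometry Opposite TopologicalSpace

namespace Groth.QCohMod

section ModuleCat

variable {R : Type u} [CommRing R]

/-- A directed family of modules over `N` which is jointly surjective and eventually injective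
has `N` as its colimit. -/
noncomputable def isColimitModule {J : Type u} [SmallCategory J] [IsFiltered J]
    {D : J ⥤ ModuleCat.{u} R} (t : Cocone D)
    (hsurj : ∀ x : t.pt, ∃ (j : J) (y : D.obj j), t.ι.app j y = x)
    (hinj : ∀ (j : J) (y : D.obj j), t.ι.app j y = 0 → ∃ (k : J) (u : j ⟶ k), D.map u y = 0) :
    IsColimit t := by
  haveI : ReflectsColimit D (forget (ModuleCat.{u} R)) :=
    reflectsColimit_of_reflectsIsomorphisms _ _
  refine isColimitOfReflects (forget (ModuleCat.{u} R)) (Types.FilteredColimit.isColimitOf' _ _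
    (fun x => ?_) fun j a b h => ?_)
  · obtain ⟨j, y, hy⟩ := hsurj x
    exact ⟨j, y, hy.symm⟩
  · let a' : D.obj j := a
    let b' : D.obj j := b
    have h' : t.ι.app j a' = t.ι.app j b' := h
    obtain ⟨k, u, hu⟩ := hinj j (a' - b') (by rw [map_sub, h', sub_self])
    rw [map_sub, sub_eq_zero] at hu
    exact ⟨k, u, hu⟩

/-- A finitely presentable object of the category of modules is a finitely presented module. -/
theorem moduleFP_of_isFinitelyPresentable (N : ModuleCat.{u} R) [IsFinitelyPresentable.{u} N] :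
    Module.FinitePresentation R N := by
  classical
  -- finitely generated
  have hfg : Module.Finite R N := by
    let P := {K : Submodule R N // K.FG}
    haveI : IsDirectedOrder P := ⟨fun a b => ⟨⟨a.1 ⊔ b.1, a.2.sup b.2⟩, le_sup_left, le_sup_right⟩⟩
    haveI : Nonempty P := ⟨⟨⊥, Submodule.fg_bot⟩⟩
    let D : P ⥤ ModuleCat.{u} R :=
      { obj := fun K => ModuleCat.of R K.1
        map := fun h => ModuleCat.ofHom (Submodule.inclusion (leOfHom h)) }
    let t : Cocone D := Cocone.mk N
      { app := fun K => ModuleCat.ofHom K.1.subtype }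
    have ht : IsColimit t := isColimitModule t
      (fun x => ⟨⟨R ∙ x, Submodule.fg_span_singleton x⟩, ⟨x, Submodule.mem_span_singleton_self x⟩,
        rfl⟩)
      (fun j y hy => ⟨j, 𝟙 j, by
        rw [D.map_id]
        exact Subtype.ext hy⟩)
    obtain ⟨K, s, hs⟩ := IsFinitelyPresentable.exists_hom_of_isColimit ht (𝟙 N)
    have hKtop : K.1 = ⊤ := by
      refine Submodule.eq_top_iff'.mpr fun x => ?_
      have h : ((s x : K.1) : N) = x := congr($hs x)
      exact h ▸ (s x : K.1).2
    exact ⟨hKtop ▸ K.2⟩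
  obtain ⟨n, π, hπ⟩ := Module.Finite.exists_fin' R N
  let P := {K : Submodule R (Fin n → R) // K.FG ∧ K ≤ LinearMap.ker π}
  haveI : IsDirectedOrder P := ⟨fun a b =>
    ⟨⟨a.1 ⊔ b.1, a.2.1.sup b.2.1, sup_le a.2.2 b.2.2⟩, (le_sup_left : a.1 ≤ a.1 ⊔ b.1),
      (le_sup_right : b.1 ≤ a.1 ⊔ b.1)⟩⟩
  haveI : Nonempty P := ⟨⟨⊥, Submodule.fg_bot, bot_le⟩⟩
  let D : P ⥤ ModuleCat.{u} R :=
    { obj := fun K => ModuleCat.of R ((Fin n → R) ⧸ K.1)
      map := fun h => ModuleCat.ofHom (Submodule.factor (leOfHom h))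
      map_id := fun K => ModuleCat.hom_ext (Submodule.linearMap_qext _ (LinearMap.ext fun x => rfl))
      map_comp := fun a b =>
        ModuleCat.hom_ext (Submodule.linearMap_qext _ (LinearMap.ext fun x => rfl)) }
  let t : Cocone D := Cocone.mk N
    { app := fun K => ModuleCat.ofHom (K.1.liftQ π K.2.2)
      naturality := fun K K' h =>
        ModuleCat.hom_ext (Submodule.linearMap_qext _ (LinearMap.ext fun x => rfl)) }
  have ht : IsColimit t := isColimitModule t
    (fun x => by
      obtain ⟨v, rfl⟩ := hπ x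
      exact ⟨⟨⊥, Submodule.fg_bot, bot_le⟩, Submodule.Quotient.mk v, rfl⟩)
    (fun j y hy => by
      obtain ⟨v, rfl⟩ := Submodule.mkQ_surjective _ y
      let k : P := ⟨j.1 ⊔ R ∙ v, j.2.1.sup (Submodule.fg_span_singleton v),
        sup_le j.2.2 ((Submodule.span_singleton_le_iff_mem _ _).mpr hy)⟩
      have hjk : j ≤ k := (le_sup_left : j.1 ≤ j.1 ⊔ R ∙ v)
      refine ⟨k, homOfLE hjk, ?_⟩
      exact (Submodule.Quotient.mk_eq_zero _).mpr
        (le_sup_right (a := j.1) (Submodule.mem_span_singleton_self v)))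
  obtain ⟨K, s, hs⟩ := IsFinitelyPresentable.exists_hom_of_isColimit ht (𝟙 N)
  let q : ((Fin n → R) ⧸ K.1) →ₗ[R] N := K.1.liftQ π K.2.2
  let s' : N →ₗ[R] ((Fin n → R) ⧸ K.1) := s.hom
  have hsq : ∀ x, q (s' x) = x := fun x => congr($hs x)
  haveI : Module.FinitePresentation R ((Fin n → R) ⧸ K.1) :=
    Module.finitePresentation_of_surjective K.1.mkQ (Submodule.mkQ_surjective _)
      (by rw [Submodule.ker_mkQ]; exact K.2.1)
  refine Module.finitePresentation_of_surjective q (fun x => ⟨s' x, hsq x⟩) ?_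
  have : LinearMap.ker q = LinearMap.range (LinearMap.id - s' ∘ₗ q) := by
    ext y
    refine ⟨fun hy => ⟨y, ?_⟩, ?_⟩
    · simp [LinearMap.mem_ker.mp hy]
    · rintro ⟨z, rfl⟩
      simp [hsq]
  rw [this, LinearMap.range_eq_map]
  exact Submodule.FG.map _ Module.Finite.fg_top

end ModuleCat

variable {X : Scheme.{u}} [CompactSpace X] [QuasiSeparatedSpace X] {U : X.Opens}
  (hU : IsAffineOpen U)

include hU in
lemma quasiCompact_fromSpec : QuasiCompact hU.fromSpec := by
  haveI : CompactSpace (U : Scheme.{u}) := isCompact_iff_compactSpace.mp hU.isCompact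
  exact inferInstance

/-- The quasi-coherent modules extended from an affine open. -/
noncomputable def pushTilde : ModuleCat.{u} Γ(X, U) ⥤ QCohCat.QCoh X :=
  ObjectProperty.lift _ (tilde.functor Γ(X, U) ⋙ Scheme.Modules.pushforward hU.fromSpec)
    fun N =>
      haveI := quasiCompact_fromSpec hU
      isQCoh_pushforward ((tilde.functor Γ(X, U)).obj N) hU.fromSpec

instance {J : Type u} [SmallCategory J] [IsFiltered J] :
    PreservesColimitsOfShape J (pushTilde hU) := by
  haveI := quasiCompact_fromSpec hU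
  let T := tilde.functor Γ(X, U) ⋙ Scheme.Modules.pushforward hU.fromSpec
  have hTq : ∀ N, (T.obj N).IsQuasicoherent := fun N =>
    isQCoh_pushforward ((tilde.functor Γ(X, U)).obj N) hU.fromSpec
  suffices h : PreservesColimitsOfShape J T by
    have h' : PreservesColimitsOfShape J (pushTilde hU ⋙ (QCohCat.isQCoh X).ι) := h
    exact preservesColimitsOfShape_of_reflects_of_preserves _ (QCohCat.isQCoh X).ι
  refine ⟨fun {K} => ⟨fun {c} hc => ?_⟩⟩
  have hK : ∀ j, ((K ⋙ T).obj j).IsQuasicoherent := fun j => hTq _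
  let c' := colimit.cocone (K ⋙ T)
  have hc' : IsColimit c' := colimit.isColimit _
  haveI : c'.pt.IsQuasicoherent := isQCoh_of_isColimit _ _ hc'
  haveI : (T.mapCocone c).pt.IsQuasicoherent := hTq _
  let θ : c'.pt ⟶ (T.mapCocone c).pt := hc'.desc (T.mapCocone c)
  have hfac : ∀ j, coc c' j ≫ θ = coc (T.mapCocone c) j := fun j => hc'.fac (T.mapCocone c) j
  let e := isColimitOfPreserves (tilde.functor Γ(X, U)) hc
  haveI : ((tilde.functor Γ(X, U)).mapCocone c).pt.IsQuasicoherent :=
    inferInstanceAs ((tilde.functor Γ(X, U)).obj c.pt).IsQuasicoherent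
  haveI : ∀ j, ((K ⋙ tilde.functor Γ(X, U)).obj j).IsQuasicoherent := fun j =>
    inferInstanceAs ((tilde.functor Γ(X, U)).obj (K.obj j)).IsQuasicoherent
  have hθ : IsIso θ := isIso_of_affine_bijective θ fun V hV => by
    have hWc : IsCompact ((hU.fromSpec ⁻¹ᵁ V : (Spec Γ(X, U)).Opens) : Set (Spec Γ(X, U))) :=
      hU.fromSpec.isCompact_preimage hV.isCompact
    have hWs : IsQuasiSeparated
        ((hU.fromSpec ⁻¹ᵁ V : (Spec Γ(X, U)).Opens) : Set (Spec Γ(X, U))) :=
      (isQuasiSeparated_univ).of_subset (Set.subset_univ _)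
    refine ⟨(injective_iff_map_eq_zero _).mpr fun z hz => ?_, fun g => ?_⟩
    · obtain ⟨j, d, rfl⟩ := exists_app_eq_affine hc' hV z
      have hz' : (coc (T.mapCocone c) j).app V d = 0 := by rw [← hfac j]; exact hz
      obtain ⟨k, u, hu⟩ := exists_map_eq_zero e hWc
        (show Γ((K ⋙ tilde.functor Γ(X, U)).obj j, hU.fromSpec ⁻¹ᵁ V) from d) hz'
      rw [← cocone_app_app c' u V d]
      exact (congrArg ((coc c' k).app V) hu).trans (map_zero _)
    · obtain ⟨j, d, hd⟩ := exists_app_eq_of_qcqs e hWc hWs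
        (show Γ(((tilde.functor Γ(X, U)).mapCocone c).pt, hU.fromSpec ⁻¹ᵁ V) from g)
      refine ⟨(coc c' j).app V d, ?_⟩
      rw [← ConcreteCategory.comp_apply, ← Scheme.Modules.Hom.comp_app, hfac j]
      exact hd
  exact ⟨IsColimit.ofIsoColimit hc' (Cocone.ext (asIso θ) hfac)⟩

include hU in
/-- The sections over an affine open of a finitely presentable quasi-coherent module form a
finitely presented module. -/
theorem finitePresentation_of_isFinitelyPresentable (F : QCohCat.QCoh X)
    [IsFinitelyPresentable.{u} F] : Module.FinitePresentation Γ(X, U) Γ(F.obj, U) := by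
  haveI := quasiCompact_fromSpec hU
  let M := F.obj.restrict hU.fromSpec
  let NR := (moduleSpecΓFunctor (R := Γ(X, U))).obj M
  haveI hM : M.IsQuasicoherent := Scheme.Modules.isQuasicoherent_restrictFunctor hU.fromSpec F.obj
  haveI : IsIso M.fromTildeΓ := (isQuasicoherent_iff_isIso_fromTildeΓ M).mp hM
  let e (N : ModuleCat.{u} Γ(X, U)) : (NR ⟶ N) ≃ (F ⟶ (pushTilde hU).obj N) :=
    ((tilde.fullyFaithfulFunctor (R := Γ(X, U))).homEquiv).trans
      ((Iso.homCongr (asIso M.fromTildeΓ) (Iso.refl _)).trans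
        (((Scheme.Modules.restrictAdjunction hU.fromSpec).homEquiv _ _).trans
          ((QCohCat.isQCoh X).fullyFaithfulι.homEquiv (X := F) (Y := (pushTilde hU).obj N)).symm))
  have he : ∀ {N N' : ModuleCat.{u} Γ(X, U)} (h : N ⟶ N') (a : NR ⟶ N),
      e N' (a ≫ h) = e N a ≫ (pushTilde hU).map h := fun {N N'} h a => by
    refine ObjectProperty.hom_ext _ ?_
    change (Scheme.Modules.restrictAdjunction hU.fromSpec).homEquiv _ _
        (inv M.fromTildeΓ ≫ (tilde.functor _).map (a ≫ h) ≫ 𝟙 _) =
      (Scheme.Modules.restrictAdjunction hU.fromSpec).homEquiv _ _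
        (inv M.fromTildeΓ ≫ (tilde.functor _).map a ≫ 𝟙 _) ≫
        (Scheme.Modules.pushforward hU.fromSpec).map ((tilde.functor _).map h)
    rw [← Adjunction.homEquiv_naturality_right]
    simp
    rfl
  let α : coyoneda.obj (op NR) ≅ pushTilde hU ⋙ coyoneda.obj (op F) :=
    NatIso.ofComponents (fun N => (e N).toIso) fun h => by ext a; exact he h a
  haveI : IsFinitelyPresentable.{u} NR := by
    rw [isFinitelyPresentable_iff_preservesFilteredColimitsOfSize]
    refine ⟨fun J _ _ => ?_⟩
    exact preservesColimitsOfShape_of_natIso α.symm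
  haveI := moduleFP_of_isFinitelyPresentable NR
  let e' : NR ≃ₗ[Γ(X, U)] Γ(F.obj, U) :=
    { topEquiv hU F.obj with
      map_smul' := fun r x => by
        have := secEquiv_smul hU F.obj ⊤ (image_top_fromSpec hU) le_rfl r x
        rw [resFun_self] at this
        exact this }
  exact Module.FinitePresentation.of_equiv e'

omit hU in
/-- Finitely presentable quasi-coherent modules on a qcqs scheme are those of finite
presentation. -/
theorem isFinitelyPresentable_iff_isFP (F : QCohCat.QCoh X) :
    IsFinitelyPresentable.{u} F ↔ CohB1.IsFP F.obj := by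
  constructor
  · intro _
    refine LocFree.isFP_of_affine_cover F.obj fun x => ?_
    obtain ⟨U, hU, hx⟩ := exists_affine_mem x
    exact ⟨U, hU, hx, finitePresentation_of_isFinitelyPresentable hU F⟩
  · intro hF
    have hft : CohB1.IsFT F.obj := by
      refine (isFT_iff _).mpr fun U hU => ?_
      have := PropsBasic.FPSections.finitePresentation_sections F.obj hF hU
      infer_instance
    rw [isFinitelyPresentable_iff_preservesFilteredColimitsOfSize]
    refine ⟨fun J _ _ => ⟨fun {K} => ⟨fun {c} hc => ⟨?_⟩⟩⟩⟩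
    have hcM := isColimitOfPreserves (QCohCat.isQCoh X).ι hc
    haveI : ((QCohCat.isQCoh X).ι.mapCocone c).pt.IsQuasicoherent := c.pt.2
    haveI : ∀ j, ((K ⋙ (QCohCat.isQCoh X).ι).obj j).IsQuasicoherent := fun j => (K.obj j).2
    refine Types.FilteredColimit.isColimitOf' _ _ (fun φ => ?_) fun i a b h => ?_
    · obtain ⟨j, ψ, hψ⟩ := exists_hom_lift_of_isFP hcM F.obj hF (φ : F ⟶ c.pt).hom
      exact ⟨j, ObjectProperty.homMk ψ, ObjectProperty.hom_ext _ hψ.symm⟩
    · let a' : F ⟶ K.obj i := a
      let b' : F ⟶ K.obj i := b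
      obtain ⟨k, u, hu⟩ := exists_hom_eq_zero_of_isFT hcM F.obj hft (a'.hom - b'.hom) (by
        rw [Preadditive.sub_comp, sub_eq_zero]
        exact congrArg InducedCategory.Hom.hom h)
      refine ⟨k, u, ObjectProperty.hom_ext _ ?_⟩
      rw [Preadditive.sub_comp, sub_eq_zero] at hu
      exact hu

end Groth.QCohMod
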