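import Groth.Agent.QCohMod.QCAlgSub

/-!
# Generation and subalgebras of finite type of quasi-coherent algebras
-/

universe u v

open CategoryTheory CategoryTheory.Limits AlgebraicGeometry Opposite TopologicalSpace

namespace Groth.QCohMod

variable {X : Scheme.{u}} (B : RelSpec.QCAlg X)

/-- Finitely many sections over an affine open lie in a submodule of finite type. -/
theorem exists_finiteType_containing {L : Type v} [LinearOrder L] [WellFoundedLT L]
    (V : L → X.Opens) (hV : ∀ l, IsAffineOpen (V l)) (hcov : ⨆ l, V l = ⊤)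
    (hW : ∀ l, IsCompact ((V l : Set X) ∩ ⋃ m ∈ Set.Iio l, (V m : Set X)))
    {U : X.Opens} (hU : IsAffineOpen U) (hUV : ∀ l, IsCompact ((V l : Set X) ∩ U))
    (T : Set (BSec B U)) (hT : T.Finite) :
    ∃ (E : X.Modules) (j : E ⟶ B.toModule), Mono j ∧ Coh.IsCoh E ∧
      ∀ t ∈ T, ∃ e : Γ(E, U), toB B (j.app U e) = t := by
  have := isQCoh_toModule B
  let T' : Set Γ(B.toModule, U) := T
  let P₀ : SubMod B.toModule := SubMod.locSpan U T'
  have hP₀ : P₀.GoodOn U := fun x hx => ⟨U, le_rfl, hx, SubMod.locSpan_goodAt hU T' hT⟩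
  obtain ⟨P, hag, hP⟩ := SubMod.exists_extension V hV hcov hW U hUV P₀ hP₀
  refine ⟨P.toMod, P.ι, inferInstance, SubMod.isQCoh_toMod hP, fun t ht => ?_⟩
  have hmem : ofB B t ∈ P.mem U := by
    rw [hag U le_rfl]
    intro x hx
    refine ⟨U, le_rfl, le_rfl, hx.1, Submodule.subset_span ⟨ofB B t, ht, rfl⟩⟩
  exact P.exists_ι_app_eq _ hmem

/-- A family of finitely many submodules of finite type is contained in one. -/
theorem exists_finiteType_containing_family {F : X.Modules} [F.IsQuasicoherent] {ι : Type*}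
    (T : Finset ι) (E : ι → X.Modules) (j : ∀ i, E i ⟶ F) (hE : ∀ i, Coh.IsCoh (E i))
    (E₀ : X.Modules) (j₀ : E₀ ⟶ F) [Mono j₀] (h₀ : Coh.IsCoh E₀) :
    ∃ (G : X.Modules) (k : G ⟶ F), Mono k ∧ Coh.IsCoh G ∧
      ∀ i ∈ T, ∃ a : E i ⟶ G, a ≫ k = j i := by
  classical
  induction T using Finset.induction_on with
  | empty => exact ⟨E₀, j₀, inferInstance, h₀, fun i hi => absurd hi (Finset.notMem_empty i)⟩
  | insert i T hi ih =>
    obtain ⟨G, k, hk, hG, ha⟩ := ih
    obtain ⟨G', k', a, a', hk', hG', e, e'⟩ := exists_sup k (j i) hG (hE i)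
    refine ⟨G', k', hk', hG', fun l hl => ?_⟩
    rcases Finset.mem_insert.1 hl with rfl | hl
    · exact ⟨a', e'⟩
    · obtain ⟨b, hb⟩ := ha l hl
      exact ⟨b ≫ a, by rw [Category.assoc, e, hb]⟩

/-- An algebra of finite type on a quasi-compact scheme with quasi-compact intersections is
generated by a submodule of finite type. -/
theorem exists_finiteType_generating {n : ℕ} (V : Fin n → X.Opens) (hV : ∀ l, IsAffineOpen (V l))
    (hcov : ⨆ l, V l = ⊤) (hW : ∀ l, IsCompact ((V l : Set X) ∩ ⋃ m ∈ Set.Iio l, (V m : Set X)))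
    (hVV : ∀ U : X.Opens, IsCompact (U : Set X) → ∀ l, IsCompact ((V l : Set X) ∩ U))
    (hB : ∀ U : X.affineOpens, (B.str.app (op (U : X.Opens))).hom.FiniteType) :
    ∃ (E : X.Modules) (j : E ⟶ B.toModule), Mono j ∧ Coh.IsQCoh E ∧ CohB1.IsFT E ∧
      ∀ U : X.affineOpens, algGen B j U.1 = ⊤ := by
  classical
  have := isQCoh_toModule B
  have hT : ∀ l, ∃ T : Set (BSec B (V l)), T.Finite ∧
      Subring.closure (Set.range (bstr B (V l)) ∪ T) = ⊤ := by
    intro l
    let _ := (bstr B (V l)).toAlgebra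
    have : Algebra.FiniteType Γ(X, V l) (BSec B (V l)) := hB ⟨V l, hV l⟩
    obtain ⟨T, hT⟩ := this.out
    refine ⟨T, T.finite_toSet, ?_⟩
    rw [eq_top_iff]
    intro b _
    have hb : b ∈ Algebra.adjoin Γ(X, V l) (T : Set (BSec B (V l))) := hT.ge Algebra.mem_top
    exact Algebra.adjoin_induction (fun t ht => Subring.subset_closure (Or.inr ht))
      (fun r => Subring.subset_closure (Or.inl ⟨r, rfl⟩)) (fun _ _ _ _ => add_mem)
      (fun _ _ _ _ => mul_mem) hb
  choose T hTfin hTgen using hT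
  choose E j hj hE hTE using fun l => exists_finiteType_containing B V hV hcov hW (hV l)
    (hVV (V l) (hV l).isCompact) (T l) (hTfin l)
  obtain ⟨E₀, j₀, hj₀, hE₀, -⟩ := exists_finiteType_containing B V hV hcov hW
    (isAffineOpen_bot X) (fun l => by simp) ∅ Set.finite_empty
  obtain ⟨G, k, hk, hG, ha⟩ := exists_finiteType_containing_family Finset.univ E j hE E₀ j₀ hE₀
  have := hG.1
  refine ⟨G, k, hk, hG.1, hG.2, fun U => gen_eq_top_of_generators B k U.2 fun x hx => ?_⟩
  obtain ⟨l, hl⟩ := Opens.mem_iSup.1 (hcov.ge (Set.mem_univ x) : x ∈ ⨆ l, V l)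
  refine ⟨V l, T l, hV l, hl, hTgen l, fun t ht => ?_⟩
  obtain ⟨e, he⟩ := hTE l t ht
  obtain ⟨a, hal⟩ := ha l (Finset.mem_univ l)
  exact ⟨a.app _ e, by rw [← he, ← hal]; rfl⟩

end Groth.QCohMod
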