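import Groth.Agent.QCohMod.Center
import Groth.Agent.QCohMod.QCohCatAbelian
import Groth.Agent.QCohMod.FPConverse
import Groth.Agent.CohBase.SerreCriterion
import Groth.Agent.PropsBasic2.Reduced
import Groth.Agent.S10857
import Mathlib.RingTheory.Ideal.Quotient.Operations
import Mathlib.LinearAlgebra.Dual.Lemmas

/-!
# A qcqs scheme whose quasi-coherent modules are the modules over a ring is affine
-/

universe u

open CategoryTheory Limits AlgebraicGeometry Opposite TopologicalSpace

namespace Groth.QCohMod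

variable {X : Scheme.{u}}

section Point

variable (Z : Closeds X)

/-- `O/I_Z` for the reduced ideal. -/
noncomputable abbrev closedQuot : X.Modules := cokernel (CohBase.closedIdealι Z)

instance : (closedQuot Z).IsQuasicoherent := isQCoh_cokernel _

lemma isFT_closedQuot : CohB1.IsFT (closedQuot Z) :=
  isFT_of_epi (cokernel.π _)
    ((isFT_iff _).mpr fun U _ => inferInstanceAs (Module.Finite Γ(X, U) Γ(X, U)))

lemma stalk_closedQuot_isZero {x : X} (hx : x ∉ Z) : IsZero ((stalk x).obj (closedQuot Z)) := by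
  set i := (Scheme.IdealSheafData.vanishingIdeal Z).subschemeι
  have h0 : IsZero ((stalk x).obj ((Scheme.Modules.pushforward i).obj (Coh.structureModule _))) := by
    refine @AddCommGrpCat.isZero_of_subsingleton _ ⟨fun a b => ?_⟩
    suffices ∀ c : (stalk x).obj ((Scheme.Modules.pushforward i).obj (Coh.structureModule _)),
        c = 0 from (this a).trans (this b).symm
    intro c
    obtain ⟨W, hxW, t, rfl⟩ := TopCat.Presheaf.exists_germ_eq _ c
    let W' : X.Opens := W ⊓ ⟨(Z : Set X)ᶜ, Z.isClosed.isOpen_compl⟩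
    have he : i ⁻¹ᵁ W' = ⊥ := le_bot_iff.mp fun y hy => by
      have : i y ∈ (Z : Set X) := (CohBase.range_reduced Z) ▸ Set.mem_range_self y
      exact absurd this hy.2
    have := subsingleton_bot (Coh.structureModule _) he
    rw [← TopCat.Presheaf.germ_res_apply _ (homOfLE (inf_le_left : W' ≤ W)) x ⟨hxW, hx⟩ t]
    exact (congrArg _ (@Subsingleton.elim _ this _ _)).trans (map_zero _)
  have hS := (ShortComplex.exact_of_f_is_kernel
    (ShortComplex.mk (CohBase.closedIdealι Z) (CohBase.unitPush i) (kernel.condition _))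
    (kernelIsKernel _)).map (stalk x)
  have : Epi ((stalk x).map (CohBase.closedIdealι Z)) := hS.epi_f (h0.eq_of_tgt _ _)
  exact (isZero_cokernel_of_epi ((stalk x).map (CohBase.closedIdealι Z))).of_iso
    (PreservesCokernel.iso (stalk x) (CohBase.closedIdealι Z))

/-- A function vanishing on `Z` kills `O/I_Z`. -/
lemma smul_π_eq_zero (f : Γ(X, ⊤))
    (hf : Disjoint (X.basicOpen f : Set X) (Z : Set X)) :
    (cokernel.π (CohBase.closedIdealι Z)).app ⊤ (show Γ(Coh.structureModule X, ⊤) from f) = 0 := by
  set i := (Scheme.IdealSheafData.vanishingIdeal Z).subschemeι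
  have := Groth.PropsBasic2.isReduced_vanishingIdeal_subscheme Z
  have h0 : i.app ⊤ f = 0 := by
    refine (basicOpen_eq_bot_iff _).mp ?_
    rw [← Scheme.preimage_basicOpen]
    refine le_bot_iff.mp fun y hy => ?_
    have : i y ∈ (Z : Set X) := (CohBase.range_reduced Z) ▸ Set.mem_range_self y
    exact (Set.disjoint_left.mp hf hy this).elim
  obtain ⟨a, ha⟩ := exists_app_eq_of_mono_exact
    (S := ShortComplex.mk (CohBase.closedIdealι Z) (CohBase.unitPush i) (kernel.condition _))
    (ShortComplex.exact_of_f_is_kernel _ (kernelIsKernel _)) ⊤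
    (show Γ(Coh.structureModule X, ⊤) from f) h0
  rw [← ha]
  exact congr($(congrArg (fun φ : CohBase.closedIdeal Z ⟶ closedQuot Z => φ.app ⊤)
    (cokernel.condition (CohBase.closedIdealι Z))) a)

lemma closedQuot_stalk_ne_zero {x : X} (hx : x ∈ Z) : ¬ IsZero ((stalk x).obj (closedQuot Z)) := by
  intro h
  set i := (Scheme.IdealSheafData.vanishingIdeal Z).subschemeι
  have hc : IsZero (cokernel ((stalk x).map (CohBase.closedIdealι Z))) :=
    h.of_iso (PreservesCokernel.iso (stalk x) (CohBase.closedIdealι Z)).symm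
  haveI : Epi ((stalk x).map (CohBase.closedIdealι Z)) :=
    Preadditive.epi_of_cokernel_zero (hc.eq_of_tgt _ _)
  have hz : (stalk x).map (CohBase.unitPush i) = 0 :=
    (cancel_epi ((stalk x).map (CohBase.closedIdealι Z))).mp (by
      rw [← Functor.map_comp, comp_zero]
      exact (congrArg _ (kernel.condition _)).trans ((stalk x).map_zero _ _))
  have h1 : germ ((Scheme.Modules.pushforward i).obj (Coh.structureModule _)) (U := ⊤) x trivial
      ((CohBase.unitPush i).app ⊤ (oneSec ⊤)) = 0 := by
    rw [← stalk_map_germ, hz]; rfl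
  obtain ⟨W, hxW, j, j', hW⟩ := TopCat.Presheaf.germ_eq
    ((Scheme.Modules.pushforward i).obj (Coh.structureModule _)).presheaf (U := ⊤) (V := ⊤) x
    (trivial : x ∈ (⊤ : X.Opens)) (trivial : x ∈ (⊤ : X.Opens))
    ((CohBase.unitPush i).app ⊤ (oneSec ⊤)) 0 (h1.trans (map_zero _).symm)
  have h2 : i.app W 1 = 0 := by
    have h3 := hW.trans (map_zero _)
    refine Eq.trans ?_ h3
    rw [← (X.presheaf.map j.op).hom.map_one]
    exact congr($((i.naturality j.op)) (1 : Γ(X, ⊤)))
  obtain ⟨y, hy⟩ : x ∈ Set.range i := (CohBase.range_reduced Z).symm ▸ hx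
  rw [map_one] at h2
  have hyW : y ∈ i ⁻¹ᵁ W := by
    change i y ∈ W
    rw [hy]; exact hxW
  have h4 := congr((Scheme.IdealSheafData.vanishingIdeal Z).subscheme.presheaf.germ (i ⁻¹ᵁ W) y hyW
    $h2)
  rw [map_one, map_zero] at h4
  exact one_ne_zero h4

lemma closedQuot_ne_zero {x : X} (hx : x ∈ Z) : ¬ IsZero (closedQuot Z) := fun h =>
  closedQuot_stalk_ne_zero Z hx ((stalk x).map_isZero h)

end Point

section Equiv

variable {R : Type u} [CommRing R] (e : QCohCat.QCoh X ≌ ModuleCat.{u} R)

/-- Multiplication by a scalar. -/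
noncomputable def scal (r : R) (N : ModuleCat.{u} R) : N ⟶ N := ModuleCat.ofHom (r • LinearMap.id)

lemma scal_naturality (r : R) {M N : ModuleCat.{u} R} (f : M ⟶ N) :
    f ≫ scal r N = scal r M ≫ f :=
  ModuleCat.hom_ext (LinearMap.ext fun m => (f.hom.map_smul r m).symm)

/-- The action of a scalar on quasi-coherent modules. -/
noncomputable def act (r : R) (M : QCohCat.QCoh X) : M ⟶ M :=
  e.unit.app M ≫ e.inverse.map (scal r (e.functor.obj M)) ≫ e.unitInv.app M

lemma act_naturality (r : R) {M N : QCohCat.QCoh X} (f : M ⟶ N) :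
    f ≫ act e r N = act e r M ≫ f := by
  have h1 := e.unit.naturality f
  have h2 := e.unitInv.naturality f
  simp only [Functor.id_map, Functor.comp_map] at h1 h2
  simp only [act, Category.assoc, ← h2]
  rw [reassoc_of% h1, ← e.inverse.map_comp_assoc, scal_naturality, e.inverse.map_comp_assoc]

lemma act_inverse (r : R) (N : ModuleCat.{u} R) :
    act e r (e.inverse.obj N) = e.inverse.map (scal r N) := by
  have h : e.counit.app N ≫ scal r N = scal r (e.functor.obj (e.inverse.obj N)) ≫ e.counit.app N :=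
    scal_naturality r (e.counit.app N)
  have hinv : e.unitInv.app (e.inverse.obj N) = e.inverse.map (e.counit.app N) := by
    rw [← cancel_epi (e.unit.app (e.inverse.obj N)), e.unit_inverse_comp]
    exact e.unitIso.hom_inv_id_app _
  rw [act, e.unit_app_inverse, hinv, ← e.inverse.map_comp, ← e.inverse.map_comp, ← h]
  simp

/-- The function attached to a scalar. -/
noncomputable def fn (r : R) : Γ(X, ⊤) :=
  (act e r (unitQ X)).hom.app ⊤ (show Γ(Coh.structureModule X, ⊤) from (1 : Γ(X, ⊤)))

variable [QuasiSeparatedSpace X]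

lemma act_app (r : R) (M : QCohCat.QCoh X) {U : X.Opens} (hU : IsAffineOpen U) (s : Γ(M.obj, U)) :
    (act e r M).hom.app U s = resFun X (le_top : U ≤ ⊤) (fn e r) • s :=
  natEnd_app _ (fun f => act_naturality e r f) M hU s

lemma act_unit_app_top (r : R) (g : Γ(X, ⊤)) :
    ((act e r (unitQ X)).hom.app ⊤ (show Γ(Coh.structureModule X, ⊤) from g) : Γ(X, ⊤)) =
      g * fn e r := by
  refine Eq.trans (congrArg _ (structureModule_eq_smul_one
    (show Γ(Coh.structureModule X, ⊤) from g)).symm) ?_
  exact ((act e r (unitQ X)).hom.app_smul g _).trans rfl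

/-- The scalars act through a ring homomorphism to the functions. -/
theorem exists_ringHom : ∃ φ : R →+* Γ(X, ⊤), ∀ r, φ r = fn e r := by
  haveI : PreservesBinaryBiproducts e.inverse :=
    preservesBinaryBiproducts_of_preservesBinaryProducts _
  haveI : e.inverse.Additive := Functor.additive_of_preservesBinaryBiproducts _
  have h1 : act e 1 (unitQ X) = 𝟙 _ := by
    simp [act, show scal (1 : R) (e.functor.obj (unitQ X)) = 𝟙 _ from
      ModuleCat.hom_ext (LinearMap.ext fun m => one_smul R m)]
  have h0 : act e 0 (unitQ X) = 0 := by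
    simp [act, show scal (0 : R) (e.functor.obj (unitQ X)) = 0 from
      ModuleCat.hom_ext (LinearMap.ext fun m => zero_smul R m)]
  have hadd : ∀ r r', act e (r + r') (unitQ X) = act e r (unitQ X) + act e r' (unitQ X) :=
    fun r r' => by
      simp [act, show scal (r + r') (e.functor.obj (unitQ X)) = scal r _ + scal r' _ from
        ModuleCat.hom_ext (LinearMap.ext fun m => add_smul r r' m), Preadditive.add_comp,
        Preadditive.comp_add]
  have hmul : ∀ r r', act e (r * r') (unitQ X) = act e r' (unitQ X) ≫ act e r (unitQ X) :=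
    fun r r' => by
      simp [act, show scal (r * r') (e.functor.obj (unitQ X)) = scal r' _ ≫ scal r _ from
        ModuleCat.hom_ext (LinearMap.ext fun m => mul_smul r r' m)]
  refine ⟨{ toFun := fn e, map_one' := ?_, map_mul' := ?_, map_zero' := ?_, map_add' := ?_ },
    fun _ => rfl⟩
  · simp only [fn, h1]; rfl
  · intro r r'
    conv_lhs => rw [fn, hmul]
    change (act e r (unitQ X)).hom.app ⊤ (show Γ(Coh.structureModule X, ⊤) from fn e r') = _
    rw [act_unit_app_top, mul_comm]
  · simp only [fn, h0]; rfl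
  · intro r r'
    simp only [fn, hadd]; rfl

omit [QuasiSeparatedSpace X] in
lemma surjective_of_epi_inverse {A B : ModuleCat.{u} R} (g : A ⟶ B)
    (h : Epi (e.inverse.map g).hom) : Function.Surjective g := by
  have : Epi ((QCohCat.isQCoh X).ι.map (e.inverse.map g)) := h
  have : Epi (e.inverse.map g) := (QCohCat.isQCoh X).ι.epi_of_epi_map this
  exact (ModuleCat.epi_iff_surjective g).mp (e.inverse.epi_of_epi_map this)

omit [QuasiSeparatedSpace X] in
/-- A quasi-coherent module of finite type corresponds to a finitely generated module. -/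
theorem finite_of_isFT [CompactSpace X] (M : QCohCat.QCoh X) (hM : CohB1.IsFT M.obj) :
    Module.Finite R (e.functor.obj M) := by
  let N := e.functor.obj M
  let P := {K : Submodule R N // K.FG}
  haveI : IsDirectedOrder P := ⟨fun a b => ⟨⟨a.1 ⊔ b.1, a.2.sup b.2⟩,
    (le_sup_left : a.1 ≤ a.1 ⊔ b.1), (le_sup_right : b.1 ≤ a.1 ⊔ b.1)⟩⟩
  haveI : Nonempty P := ⟨⟨⊥, Submodule.fg_bot⟩⟩
  let D : P ⥤ ModuleCat.{u} R :=
    { obj := fun K => ModuleCat.of R K.1
      map := fun h => ModuleCat.ofHom (Submodule.inclusion (leOfHom h)) }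
  let t : Cocone D := Cocone.mk N { app := fun K => ModuleCat.ofHom K.1.subtype }
  have ht : IsColimit t := isColimitModule t
    (fun x => ⟨⟨R ∙ x, Submodule.fg_span_singleton x⟩, ⟨x, Submodule.mem_span_singleton_self x⟩,
      rfl⟩)
    (fun j y hy => ⟨j, 𝟙 j, by
      rw [D.map_id]
      exact Subtype.ext hy⟩)
  let G := e.inverse ⋙ (QCohCat.isQCoh X).ι
  have hFT : CohB1.IsFT (G.obj N) :=
    isFT_of_iso ((QCohCat.isQCoh X).ι.mapIso (e.unitIso.app M)) hM
  haveI : ∀ j, Coh.IsQCoh ((D ⋙ G).obj j) := fun j => (e.inverse.obj (D.obj j)).2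
  haveI : Coh.IsQCoh (G.mapCocone t).pt := (e.inverse.obj N).2
  haveI : Coh.IsQCoh (G.obj N) := (e.inverse.obj N).2
  obtain ⟨K, hK⟩ := (Groth.Agent.S10857.result (D ⋙ G) (G.mapCocone t) (isColimitOfPreserves G ht)
    (G.obj N) hFT (𝟙 _)).mp inferInstance
  haveI hepi : Epi (e.inverse.map (t.ι.app K)).hom := by
    have := hK K ⟨𝟙 K⟩
    change Epi ((G.mapCocone t).ι.app K ≫ 𝟙 (G.obj N)) at this
    have h2 : (G.mapCocone t).ι.app K ≫ 𝟙 (G.obj N) = (e.inverse.map (t.ι.app K)).hom :=
      Category.comp_id _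
    rwa [h2] at this
  have hs := surjective_of_epi_inverse e (t.ι.app K) hepi
  have hKtop : K.1 = ⊤ := Submodule.eq_top_iff'.mpr fun x => by
    obtain ⟨k, hk⟩ := hs x
    exact hk ▸ (k : K.1).2
  exact ⟨hKtop ▸ K.2⟩

omit [QuasiSeparatedSpace X] in
/-- A finitely generated module whose annihilator lies in a maximal ideal maps onto the residue
field. -/
lemma exists_surjective_quotient (N : ModuleCat.{u} R) [Module.Finite R N] {m : Ideal R}
    [m.IsMaximal] (hm : Module.annihilator R N ≤ m) :
    ∃ g : N →ₗ[R] R ⧸ m, Function.Surjective g := by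
  have hne : (m • ⊤ : Submodule R N) ≠ ⊤ := by
    intro h
    obtain ⟨r, hr1, hr⟩ := Submodule.exists_sub_one_mem_and_smul_eq_zero_of_fg_of_le_smul m
      (⊤ : Submodule R N) Module.Finite.fg_top h.ge
    have hrm : r ∈ m := hm (Module.mem_annihilator.mpr fun n => hr n trivial)
    exact (Ideal.IsMaximal.ne_top inferInstance)
      ((Ideal.eq_top_iff_one m).mpr (by simpa using sub_mem hrm hr1))
  let _ : Field (R ⧸ m) := Ideal.Quotient.field m
  obtain ⟨n, hn⟩ : ∃ n : N, (Submodule.Quotient.mk n : N ⧸ (m • ⊤ : Submodule R N)) ≠ 0 := by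
    by_contra! h
    exact hne (eq_top_iff.mpr fun n _ => (Submodule.Quotient.mk_eq_zero _).mp (h n))
  obtain ⟨φ, hφ⟩ : ∃ φ : Module.Dual (R ⧸ m) (N ⧸ (m • ⊤ : Submodule R N)),
      φ (Submodule.Quotient.mk n) ≠ 0 := by
    by_contra! h
    exact hn ((Module.forall_dual_apply_eq_zero_iff (R ⧸ m) _).mp h)
  refine ⟨φ.restrictScalars R ∘ₗ Submodule.mkQ _, fun c => ?_⟩
  obtain ⟨a, ha⟩ := Ideal.Quotient.mk_surjective (c * (φ (Submodule.Quotient.mk n))⁻¹)
  refine ⟨a • n, ?_⟩
  simp only [LinearMap.comp_apply, LinearMap.restrictScalars_apply, map_smul,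
    Submodule.mkQ_apply]
  rw [Algebra.smul_def, Ideal.Quotient.algebraMap_eq, ha, inv_mul_cancel_right₀ hφ]

omit [QuasiSeparatedSpace X] in
lemma epi_hom_inverse_map {A B : ModuleCat.{u} R} (g : A ⟶ B) (hg : Function.Surjective g) :
    Epi (e.inverse.map g).hom := by
  have : Epi g := (ModuleCat.epi_iff_surjective g).mpr hg
  exact inferInstanceAs (Epi ((QCohCat.isQCoh X).ι.map (e.inverse.map g)))

omit [QuasiSeparatedSpace X] in
lemma not_isZero_inverse_quotient (m : Ideal R) [m.IsMaximal] :
    ¬ IsZero (e.inverse.obj (ModuleCat.of R (R ⧸ m))).obj := by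
  intro h
  have h' : IsZero (e.inverse.obj (ModuleCat.of R (R ⧸ m))) :=
    IsZero.of_full_of_faithful_of_isZero (QCohCat.isQCoh X).ι _ h
  have := ModuleCat.subsingleton_of_isZero (M := ModuleCat.of R (R ⧸ m))
    (((e.functor.map_isZero h')).of_iso (e.counitIso.app _).symm)
  exact (Ideal.Quotient.subsingleton_iff.mp this).symm.symm |> Ideal.IsMaximal.ne_top inferInstance

omit [QuasiSeparatedSpace X] in
lemma exists_epi_to_residue [CompactSpace X] (M : QCohCat.QCoh X) (hM : CohB1.IsFT M.obj)
    {m : Ideal R} [m.IsMaximal] (hm : Module.annihilator R (e.functor.obj M) ≤ m) :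
    ∃ q : M ⟶ e.inverse.obj (ModuleCat.of R (R ⧸ m)), Epi q.hom := by
  haveI := finite_of_isFT e M hM
  obtain ⟨g, hg⟩ := exists_surjective_quotient (e.functor.obj M) hm
  refine ⟨e.unit.app M ≫ e.inverse.map (ModuleCat.ofHom g), ?_⟩
  haveI := epi_hom_inverse_map e (ModuleCat.ofHom g) hg
  haveI : Epi (e.unit.app M).hom :=
    inferInstanceAs (Epi ((QCohCat.isQCoh X).ι.map (e.unit.app M)))
  exact epi_comp _ _

/-- Reconstruction: the scheme is affine. -/
theorem isAffine_of_equivalence [CompactSpace X] (e : QCohCat.QCoh X ≌ ModuleCat.{u} R) :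
    IsAffine X := by
  obtain ⟨φ, hφ⟩ := exists_ringHom e
  let S : Set R := {r | IsAffineOpen (X.basicOpen (fn e r))}
  -- every closed point lies in such an open
  have hcl : ∀ x : X, IsClosed ({x} : Set X) → ∃ r ∈ S, x ∈ X.basicOpen (fn e r) := by
    intro x hx
    obtain ⟨U, hU, hxU⟩ := exists_affine_mem x
    let Z : Closeds X := ⟨(U : Set X)ᶜ, U.2.isClosed_compl⟩
    let Pt : Closeds X := ⟨{x}, hx⟩
    let Qx := toQCoh (closedQuot Pt)
    let Qz := toQCoh (closedQuot Z)
    have hnz : Module.annihilator R (e.functor.obj Qx) ≠ ⊤ := by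
      intro h
      have hs : Subsingleton (e.functor.obj Qx) := Module.annihilator_eq_top_iff.mp h
      have hz : IsZero Qx := IsZero.of_full_of_faithful_of_isZero e.functor _
        (ModuleCat.isZero_of_subsingleton _)
      exact closedQuot_ne_zero Pt (x := x) rfl ((QCohCat.isQCoh X).ι.map_isZero hz)
    obtain ⟨m, hm, hle⟩ := Ideal.exists_le_maximal _ hnz
    obtain ⟨q, hq⟩ := exists_epi_to_residue e Qx (isFT_closedQuot Pt) hle
    let T := e.inverse.obj (ModuleCat.of R (R ⧸ m))
    have hTsupp : ∀ y, y ≠ x → IsZero ((stalk y).obj T.obj) := fun y hy => by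
      have hzero := stalk_closedQuot_isZero Pt (x := y) hy
      exact IsZero.of_epi ((stalk y).map q.hom) hzero
    have hnot : ¬ Module.annihilator R (e.functor.obj Qz) ≤ m := by
      intro hle'
      obtain ⟨q', hq'⟩ := exists_epi_to_residue e Qz (isFT_closedQuot Z) hle'
      refine not_isZero_inverse_quotient e m ((isZero_iff_stalk T.obj).mpr fun y => ?_)
      rcases eq_or_ne y x with rfl | hy
      · exact IsZero.of_epi ((stalk y).map q'.hom)
          (stalk_closedQuot_isZero Z (fun hyZ => hyZ hxU))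
      · exact hTsupp y hy
    obtain ⟨r, hrZ, hrm⟩ := SetLike.not_le_iff_exists.mp hnot
    have hxf : x ∈ X.basicOpen (fn e r) := by
      by_contra hxf
      have hdis : Disjoint (X.basicOpen (fn e r) : Set X) (Pt : Set X) :=
        Set.disjoint_singleton_right.mpr hxf
      let π : unitQ X ⟶ Qx := ObjectProperty.homMk (cokernel.π (CohBase.closedIdealι Pt))
      haveI : Epi π := (QCohCat.isQCoh X).ι.epi_of_epi_map (inferInstanceAs
        (Epi (cokernel.π (CohBase.closedIdealι Pt))))
      have h1 : π ≫ act e r Qx = 0 := by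
        rw [act_naturality]
        refine ObjectProperty.hom_ext _ (Scheme.Modules.hom_ext _ _ fun V => ?_)
        refine AddCommGrpCat.ext fun (g : Γ(Coh.structureModule X, V)) => ?_
        rw [← structureModule_eq_smul_one g, Scheme.Modules.Hom.app_smul,
          Scheme.Modules.Hom.app_smul]
        have hone : (oneSec V : Γ(Coh.structureModule X, V)) =
            res (Coh.structureModule X) (le_top : V ≤ ⊤) (oneSec ⊤) :=
          ((X.presheaf.map (homOfLE (le_top : V ≤ ⊤)).op).hom.map_one).symm
        rw [hone, ← res_app, ← res_app]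
        change _ • res _ _ (π.hom.app ⊤ ((act e r (unitQ X)).hom.app ⊤ (oneSec ⊤))) = _ • res _ _ 0
        rw [show (act e r (unitQ X)).hom.app ⊤ (oneSec ⊤) =
          (show Γ(Coh.structureModule X, ⊤) from fn e r) from rfl]
        exact congrArg (fun b => (show Γ(X, V) from g) • res (closedQuot Pt) (le_top : V ≤ ⊤) b)
          (smul_π_eq_zero Pt (fn e r) hdis)
      have h2 : act e r Qx = 0 := (cancel_epi π).mp (h1.trans comp_zero.symm)
      haveI : Epi q := (QCohCat.isQCoh X).ι.epi_of_epi_map hq
      have h3 : act e r T = 0 := (cancel_epi q).mp (by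
        rw [act_naturality, h2, zero_comp, comp_zero])
      rw [act_inverse] at h3
      haveI : PreservesBinaryBiproducts e.inverse :=
        preservesBinaryBiproducts_of_preservesBinaryProducts _
      haveI : e.inverse.Additive := Functor.additive_of_preservesBinaryBiproducts _
      have h4 : scal r (ModuleCat.of R (R ⧸ m)) = 0 :=
        e.inverse.map_injective (h3.trans (e.inverse.map_zero _ _).symm)
      have h5 : r • (Ideal.Quotient.mk m 1) = 0 := congr($h4 (Ideal.Quotient.mk m 1))
      rw [Algebra.smul_def, Ideal.Quotient.algebraMap_eq, map_one, mul_one,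
        Ideal.Quotient.eq_zero_iff_mem] at h5
      exact hrm h5
    refine ⟨r, CohBase.isAffineOpen_basicOpen_of_disjoint hU _ ?_, hxf⟩
    refine Set.disjoint_left.mpr fun y hy hyZ => ?_
    -- `fn r` kills `O/I_Z`, whose stalk at `y ∈ Z` is nonzero
    have hact : act e r Qz = 0 := by
      haveI : PreservesBinaryBiproducts e.inverse :=
        preservesBinaryBiproducts_of_preservesBinaryProducts _
      haveI : e.inverse.Additive := Functor.additive_of_preservesBinaryBiproducts _
      have : scal r (e.functor.obj Qz) = 0 :=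
        ModuleCat.hom_ext (LinearMap.ext fun n => Module.mem_annihilator.mp hrZ n)
      simp [act, this]
    obtain ⟨V, hV, hyV⟩ := exists_affine_mem y
    have hkill : ∀ s : Γ(closedQuot Z, V), resFun X (le_top : V ≤ ⊤) (fn e r) • s = 0 := fun s => by
      rw [← act_app e r Qz hV s, hact]; rfl
    have hu : IsUnit (X.presheaf.germ V y hyV (resFun X (le_top : V ≤ ⊤) (fn e r))) := by
      rw [← Scheme.mem_basicOpen, basicOpen_resFun]; exact ⟨hyV, hy⟩
    have hQy : IsZero ((stalk y).obj (closedQuot Z)) := by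
      refine @AddCommGrpCat.isZero_of_subsingleton _ ⟨fun a b => ?_⟩
      suffices ∀ c : (closedQuot Z).presheaf.stalk y, c = 0 from (this a).trans (this b).symm
      intro c
      obtain ⟨d, s, hd, hds⟩ := exists_smul_germ_eq (closedQuot Z) hV y hyV c
      refine ((Scheme.mem_basicOpen X d y hyV).mp hd).smul_left_cancel.mp ?_
      rw [hds, smul_zero]
      refine hu.smul_left_cancel.mp ?_
      rw [← germ_smul, hkill, map_zero, smul_zero]
    -- contradiction: the stalk at a point of `Z` is nonzero
    refine closedQuot_stalk_ne_zero Z hyZ hQy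
  have hcov : ∀ x : X, ∃ r ∈ S, x ∈ X.basicOpen (fn e r) := by
    intro x
    obtain ⟨y, hy, hyc⟩ := IsClosed.exists_closed_singleton (S := closure {x}) isClosed_closure
      ⟨x, subset_closure rfl⟩
    obtain ⟨r, hr, hyr⟩ := hcl y hyc
    exact ⟨r, hr, (specializes_iff_mem_closure.mpr hy).mem_open (X.basicOpen _).2 hyr⟩
  have hspan : Ideal.span S = ⊤ := by
    by_contra hne
    obtain ⟨m, hm, hle⟩ := Ideal.exists_le_maximal _ hne
    refine not_isZero_inverse_quotient e m
      ((isZero_iff_stalk _).mpr fun x => @AddCommGrpCat.isZero_of_subsingleton _ ⟨fun a b => ?_⟩)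
    let T := e.inverse.obj (ModuleCat.of R (R ⧸ m))
    suffices ∀ c : T.obj.presheaf.stalk x, c = 0 from (this a).trans (this b).symm
    intro c
    obtain ⟨r, hr, hxr⟩ := hcov x
    haveI : PreservesBinaryBiproducts e.inverse :=
      preservesBinaryBiproducts_of_preservesBinaryProducts _
    haveI : e.inverse.Additive := Functor.additive_of_preservesBinaryBiproducts _
    have hact : act e r T = 0 := by
      rw [act_inverse, show scal r (ModuleCat.of R (R ⧸ m)) = 0 from
        ModuleCat.hom_ext (LinearMap.ext fun n => by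
          obtain ⟨n, rfl⟩ := Ideal.Quotient.mk_surjective n
          change r • Ideal.Quotient.mk m n = 0
          rw [Algebra.smul_def, Ideal.Quotient.algebraMap_eq, ← map_mul,
            Ideal.Quotient.eq_zero_iff_mem]
          exact Ideal.mul_mem_right _ _ (hle (Ideal.subset_span hr))), Functor.map_zero]
    obtain ⟨V, hV, hxV⟩ := exists_affine_mem x
    obtain ⟨d, s, hd, hds⟩ := exists_smul_germ_eq T.obj hV x hxV c
    refine ((Scheme.mem_basicOpen X d x hxV).mp hd).smul_left_cancel.mp ?_
    rw [hds, smul_zero]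
    have hu : IsUnit (X.presheaf.germ V x hxV (resFun X (le_top : V ≤ ⊤) (fn e r))) := by
      rw [← Scheme.mem_basicOpen, basicOpen_resFun]; exact ⟨hxV, hxr⟩
    refine hu.smul_left_cancel.mp ?_
    rw [← germ_smul, ← act_app e r T hV s, hact, smul_zero]
    exact map_zero (germ T.obj x hxV)
  refine isAffine_of_isAffineOpen_basicOpen (φ '' S) ?_ ?_
  · rw [← Ideal.map_span, hspan, Ideal.map_top]
  · rintro _ ⟨r, hr, rfl⟩
    rw [hφ]; exact hr

end Equiv

end Groth.QCohMod
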