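import Groth.Agent.QCohMod.SubMod
import Mathlib.Order.Zorn

/-!
# Extension of quasi-coherent submodules of finite type
-/

universe u v

open CategoryTheory Limits AlgebraicGeometry Opposite TopologicalSpace

namespace Groth.QCohMod.SubMod

variable {X : Scheme.{u}} {F : X.Modules}

/-- The sections which on `V` are locally combinations of the given ones. -/
noncomputable def locSpan (V : X.Opens) (T : Set Γ(F, V)) : SubMod F where
  mem Y :=
    { carrier := {s | ∀ x ∈ Y ⊓ V, ∃ (Z : X.Opens) (hY : Z ≤ Y) (hV : Z ≤ V), x ∈ Z ∧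
        res F hY s ∈ Submodule.span Γ(X, Z) (res F hV '' T)}
      add_mem' := fun {s t} hs ht x hx => by
        obtain ⟨Z, hY, hV, hxZ, hs⟩ := hs x hx
        obtain ⟨Z', hY', hV', hxZ', ht⟩ := ht x hx
        refine ⟨Z ⊓ Z', inf_le_left.trans hY, inf_le_left.trans hV, ⟨hxZ, hxZ'⟩, ?_⟩
        have h1 := res_mem_span (inf_le_left : Z ⊓ Z' ≤ Z) _ _ hs
        have h2 := res_mem_span (inf_le_right : Z ⊓ Z' ≤ Z') _ _ ht
        rw [Set.image_image] at h1 h2
        simp only [res_res] at h1 h2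
        rw [map_add]
        exact add_mem h1 h2
      zero_mem' := fun x hx => ⟨Y ⊓ V, inf_le_left, inf_le_right, hx, by
        rw [map_zero]; exact zero_mem _⟩
      smul_mem' := fun r s hs x hx => by
        obtain ⟨Z, hY, hV, hxZ, hs⟩ := hs x hx
        exact ⟨Z, hY, hV, hxZ, by rw [res_smul]; exact Submodule.smul_mem _ _ hs⟩ }
  res_mem {Y Y'} h s hs x hx := by
    obtain ⟨Z, hY, hV, hxZ, hs⟩ := hs x ⟨h hx.1, hx.2⟩
    refine ⟨Z ⊓ Y', inf_le_right, inf_le_left.trans hV, ⟨hxZ, hx.1⟩, ?_⟩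
    have h1 := res_mem_span (inf_le_left : Z ⊓ Y' ≤ Z) _ _ hs
    rw [Set.image_image] at h1
    simp only [res_res] at h1 ⊢
    exact h1
  local_mem {Y} s hs x hx := by
    obtain ⟨Y', h, hxY', hs'⟩ := hs x hx.1
    obtain ⟨Z, hY', hV, hxZ, hs''⟩ := hs' x ⟨hxY', hx.2⟩
    rw [res_res] at hs''
    exact ⟨Z, hY'.trans h, hV, hxZ, hs''⟩

variable [F.IsQuasicoherent]

lemma locSpan_goodAt {V : X.Opens} (hV : IsAffineOpen V) (T : Set Γ(F, V)) (hT : T.Finite) :
    (locSpan V T).GoodAt V := by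
  have hmem : (locSpan V T).mem V = Submodule.span Γ(X, V) T := by
    ext s
    refine ⟨fun hs => mem_span_of_local hV T s fun x hx => ?_, fun hs x hx => ?_⟩
    · obtain ⟨Z, hY, hV', hxZ, hs⟩ := hs x ⟨hx, hx⟩
      exact ⟨Z, hY, hxZ, hs⟩
    · exact ⟨V, le_rfl, le_rfl, hx.2, by
        rw [res_self, show res F (le_rfl : V ≤ V) '' T = T from
          (Set.image_congr fun t _ => res_self F t).trans (Set.image_id' T)]
        exact hs⟩
  refine ⟨hV, hmem ▸ Submodule.fg_span hT, fun f s hs => ?_⟩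
  rw [hmem]
  refine exists_pow_smul_eq_res_span hV T f s
    (mem_span_of_local (hV.basicOpen f) _ s fun x hx => ?_)
  obtain ⟨Z, hY, hV', hxZ, hs⟩ := hs x ⟨hx, X.basicOpen_le f hx⟩
  refine ⟨Z, hY, hxZ, ?_⟩
  rw [Set.image_image]
  simp only [res_res]
  exact hs

/-- A function times a section has its sections in `P` near every good affine inside. -/
lemma exists_pow_smul_mem {P : SubMod F} {V : X.Opens} (f : Γ(X, V)) (t : Γ(F, V))
    (ht : res F (X.basicOpen_le f) t ∈ P.mem (X.basicOpen f)) {A : X.Opens} (hA : P.GoodAt A)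
    (hAV : A ≤ V) : ∃ N : ℕ, ∀ M ≥ N, res F hAV (f ^ M • t) ∈ P.mem A := by
  let f' := resFun X hAV f
  have hD : X.basicOpen f' = A ⊓ X.basicOpen f := X.basicOpen_res f (homOfLE hAV).op
  have hD' : X.basicOpen f' ≤ X.basicOpen f := hD.le.trans inf_le_right
  obtain ⟨n, p, hp, hpt⟩ := hA.2.2 f' (res F (X.basicOpen_le f') (res F hAV t)) (by
    rw [res_res, ← res_res F (X.basicOpen_le f) hD']
    exact P.res_mem _ _ ht)
  obtain ⟨k, hk⟩ := exists_pow_smul_eq_zero F hA.1 f' (f' ^ n • res F hAV t - p)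
    (by rw [map_sub, res_smul, hpt, map_pow, sub_self])
  rw [smul_sub, sub_eq_zero, ← mul_smul, ← pow_add] at hk
  refine ⟨k + n, fun M hM => ?_⟩
  obtain ⟨j, rfl⟩ := Nat.exists_eq_add_of_le hM
  rw [res_smul, map_pow, add_comm, pow_add, mul_smul]
  change f' ^ j • f' ^ (k + n) • res F hAV t ∈ _
  rw [hk]
  exact Submodule.smul_mem _ _ (Submodule.smul_mem _ _ hp)

/-- Extension over one more affine open. -/
theorem exists_step (P : SubMod F) {W V : X.Opens} (hP : P.GoodOn W) (hV : IsAffineOpen V)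
    (hc : IsCompact ((V ⊓ W : X.Opens) : Set X)) :
    ∃ Q : SubMod F, Q.Agree P W ∧ Q.GoodOn (W ⊔ V) := by
  classical
  -- a finite family of good affines covering `V ⊓ W`
  choose A hA hxA hgood using fun x : (V ⊓ W : X.Opens) =>
    GoodOn.exists_le (V := V) hP x.2.2 x.2.1
  obtain ⟨K, hK⟩ := hc.elim_finite_subcover (fun x => (A x : Set X)) (fun x => (A x).2)
    (fun x hx => Set.mem_iUnion.mpr ⟨⟨x, hx⟩, hxA ⟨x, hx⟩⟩)
  have hAV : ∀ k, A k ≤ V := fun k => (hA k).trans inf_le_right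
  have hAW : ∀ k, A k ≤ W := fun k => (hA k).trans inf_le_left
  have hcov : ∀ x, x ∈ V ⊓ W → ∃ k ∈ K, x ∈ A k := fun x hx => by
    simpa using hK (show x ∈ ((V ⊓ W : X.Opens) : Set X) from hx)
  -- finitely many basic opens of `V` cover each of them
  choose f hxf hfA using fun (k : (V ⊓ W : X.Opens)) (y : A k) =>
    exists_basicOpen_mem hV (hAV k y.2) y.2
  have hL : ∀ k, ∃ L : Finset (A k), ((A k : X.Opens) : Set X) ⊆ ⋃ y ∈ L, (X.basicOpen (f k y) : Set X) :=
    fun k => (hgood k).1.isCompact.elim_finite_subcover (fun y => (X.basicOpen (f k y) : Set X))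
      (fun y => (X.basicOpen _).2) (fun x hx => Set.mem_iUnion.mpr ⟨⟨x, hx⟩, hxf k ⟨x, hx⟩⟩)
  choose L hL using hL
  choose G hG using fun k => (hgood k).2.1
  -- lifting each generator
  have hlift : ∀ k (y : A k) (g : Γ(F, A k)), g ∈ P.mem (A k) → ∃ t : Γ(F, V),
      res F (inf_le_left : V ⊓ W ≤ V) t ∈ P.mem (V ⊓ W) ∧
      res F (hfA k y) g ∈ Submodule.span Γ(X, X.basicOpen (f k y))
        {res F (X.basicOpen_le (f k y)) t} := by
    intro k y g hg
    obtain ⟨n, t, ht⟩ := exists_pow_smul_eq_res F hV (f k y) (res F (hfA k y) g)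
    have htP : res F (X.basicOpen_le (f k y)) t ∈ P.mem _ := by
      rw [ht]; exact Submodule.smul_mem _ _ (P.res_mem _ _ hg)
    choose N hN using fun k' : K => exists_pow_smul_mem (f k y) t htP (hgood k'.1) (hAV k'.1)
    refine ⟨f k y ^ (Finset.univ.sup N) • t, P.local_mem _ fun x hx => ?_, ?_⟩
    · obtain ⟨k', hk', hxk'⟩ := hcov x hx
      refine ⟨A k', le_inf (hAV k') (hAW k'), hxk', ?_⟩
      rw [res_res]
      exact hN ⟨k', hk'⟩ _ (Finset.le_sup (f := N) (Finset.mem_univ (⟨k', hk'⟩ : K)))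
    · rw [res_smul, ht, map_pow, ← mul_smul, ← pow_add]
      have hu : IsUnit (resFun X (X.basicOpen_le (f k y)) (f k y) ^ (Finset.univ.sup N + n)) :=
        IsUnit.pow _ (RingedSpace.isUnit_res_basicOpen _ _)
      obtain ⟨v, hv⟩ := hu
      rw [← hv, Submodule.mem_span_singleton]
      exact ⟨↑v⁻¹, by rw [← mul_smul, Units.inv_mul, one_smul]⟩
  choose t htP htspan using hlift
  let T : Set Γ(F, V) := ⋃ k ∈ K, ⋃ y ∈ L k, Set.range fun g : G k =>
    t k y g.1 ((hG k).le (Submodule.subset_span g.2))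
  have hT : T.Finite := K.finite_toSet.biUnion fun k _ =>
    (L k).finite_toSet.biUnion fun y _ => Set.finite_range _
  -- on `W ⊓ V` nothing changes
  have hagree : P.Agree (locSpan V T) (W ⊓ V) := by
    intro Y hY
    ext s
    refine ⟨fun hs x hx => ?_, fun hs => P.local_mem s fun x hx => ?_⟩
    · obtain ⟨k, hk, hxk⟩ := hcov x ⟨hx.2, (hY hx.1).1⟩
      obtain ⟨y, hy, hxy⟩ := Set.mem_iUnion₂.mp (hL k hxk)
      obtain ⟨h, hxh, hh⟩ := exists_basicOpen_mem (hgood k).1 hxk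
        (show x ∈ Y ⊓ X.basicOpen (f k y) from ⟨hx.1, hxy⟩)
      have hhV : X.basicOpen h ≤ V := (X.basicOpen_le h).trans (hAV k)
      refine ⟨X.basicOpen h, hh.trans inf_le_left, hhV, hxh, ?_⟩
      refine Submodule.span_le.mpr ?_
        ((hgood k).mem_span_res (hG k) h _ (P.res_mem (hh.trans inf_le_left) s hs))
      rintro _ ⟨g, hg, rfl⟩
      have hgP : g ∈ P.mem (A k) := (hG k).le (Submodule.subset_span hg)
      have h1 := res_mem_span (hh.trans inf_le_right) _ _ (htspan k y g hgP)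
      rw [res_res, Set.image_singleton, res_res] at h1
      refine Submodule.span_mono (Set.singleton_subset_iff.mpr ?_) h1
      refine ⟨t k y g hgP, ?_, rfl⟩
      simp only [T, Set.mem_iUnion]
      exact ⟨k, hk, y, hy, ⟨g, hg⟩, rfl⟩
    · obtain ⟨Z, hZY, hZV, hxZ, hs'⟩ := hs x ⟨hx, (hY hx).2⟩
      refine ⟨Z, hZY, hxZ, Submodule.span_le.mpr ?_ hs'⟩
      rintro _ ⟨t', ht', rfl⟩
      simp only [T, Set.mem_iUnion] at ht'
      obtain ⟨k, -, y, -, g, rfl⟩ := ht'
      have hZ : Z ≤ V ⊓ W := le_inf hZV ((hZY.trans hY).trans inf_le_left)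
      rw [← res_res F (inf_le_left : V ⊓ W ≤ V) hZ]
      exact P.res_mem _ _ (htP k y _ _)
  let Ws : Bool → X.Opens := fun b => bif b then W else V
  let Ps : Bool → SubMod F := fun b => bif b then P else locSpan V T
  have hag : ∀ i j, (Ps i).Agree (Ps j) (Ws i ⊓ Ws j) := by
    rintro (_ | _) (_ | _)
    · exact fun _ _ => rfl
    · exact (hagree.mono (inf_comm V W).le).symm
    · exact hagree
    · exact fun _ _ => rfl
  refine ⟨glue Ws Ps, glue_agree Ws Ps hag true, fun x hx => ?_⟩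
  rcases hx with hx | hx
  · obtain ⟨B, hBW, hxB, hB⟩ := hP x hx
    exact ⟨B, hBW.trans le_sup_left, hxB, hB.congr ((glue_agree Ws Ps hag true).symm.mono hBW)⟩
  · exact ⟨V, le_sup_right, hx,
      (locSpan_goodAt hV T hT).congr (glue_agree Ws Ps hag false).symm⟩

section Transfinite

variable {L : Type v} [LinearOrder L]

/-- The open covered at a stage of the transfinite extension. -/
noncomputable def stageOpen (V : L → X.Opens) (U : X.Opens) (S : Set L) : X.Opens :=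
  U ⊔ ⨆ m : S, V m

lemma mem_stageOpen {V : L → X.Opens} {U : X.Opens} {S : Set L} {x : X} :
    x ∈ stageOpen V U S ↔ x ∈ U ∨ ∃ l ∈ S, x ∈ V l := by
  simp [stageOpen]

lemma stageOpen_mono (V : L → X.Opens) (U : X.Opens) {S S' : Set L} (h : S ⊆ S') :
    stageOpen V U S ≤ stageOpen V U S' :=
  fun x hx => mem_stageOpen.mpr ((mem_stageOpen.mp hx).imp_right fun ⟨l, hl, hxl⟩ => ⟨l, h hl, hxl⟩)

variable (V : L → X.Opens) (U : X.Opens) (P₀ : SubMod F)

/-- A stage of the transfinite extension. -/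
structure Stage where
  set : Set L
  sub : SubMod F
  lower : IsLowerSet set
  good : sub.GoodOn (stageOpen V U set)
  agree : sub.Agree P₀ U

variable {V U P₀}

/-- Stage comparison. -/
def Stage.Le (a b : Stage V U P₀) : Prop :=
  a.set ⊆ b.set ∧ b.sub.Agree a.sub (stageOpen V U a.set)

lemma Stage.le_trans {a b c : Stage V U P₀} (hab : a.Le b) (hbc : b.Le c) : a.Le c :=
  ⟨hab.1.trans hbc.1, (hbc.2.mono (stageOpen_mono V U hab.1)).trans hab.2⟩

lemma Stage.exists_ub {c : Set (Stage V U P₀)} (hc : IsChain Stage.Le c) (hne : c.Nonempty) :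
    ∃ ub, ∀ a ∈ c, a.Le ub := by
  obtain ⟨a₀, ha₀⟩ := hne
  have hag : ∀ a b : c, a.1.sub.Agree b.1.sub (stageOpen V U a.1.set ⊓ stageOpen V U b.1.set) := by
    intro a b
    by_cases hab : a = b
    · subst hab; exact fun _ _ => rfl
    rcases hc a.2 b.2 (fun h => hab (Subtype.ext h)) with h | h
    · exact (h.2.symm).mono inf_le_left
    · exact h.2.mono inf_le_right
  let S : Set L := ⋃ a ∈ c, a.set
  let Q : SubMod F := glue (fun a : c => stageOpen V U a.1.set) (fun a : c => a.1.sub)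
  have hQ : ∀ a : c, Q.Agree a.1.sub (stageOpen V U a.1.set) := fun a => glue_agree _ _ hag a
  have hsub : ∀ a ∈ c, a.set ⊆ S := fun a ha =>
    Set.subset_biUnion_of_mem (u := fun a : Stage V U P₀ => a.set) ha
  have hgood : Q.GoodOn (stageOpen V U S) := by
    intro x hx
    have : ∃ a : c, x ∈ stageOpen V U a.1.set := by
      rcases mem_stageOpen.mp hx with hx | ⟨l, hl, hxl⟩
      · exact ⟨⟨a₀, ha₀⟩, mem_stageOpen.mpr (Or.inl hx)⟩
      · obtain ⟨a, ha, hla⟩ := Set.mem_iUnion₂.mp hl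
        exact ⟨⟨a, ha⟩, mem_stageOpen.mpr (Or.inr ⟨l, hla, hxl⟩)⟩
    obtain ⟨a, hxa⟩ := this
    obtain ⟨B, hB, hxB, hgB⟩ := a.1.good x hxa
    exact ⟨B, hB.trans (stageOpen_mono V U (hsub a.1 a.2)), hxB,
      hgB.congr ((hQ a).symm.mono hB)⟩
  exact ⟨⟨S, Q, isLowerSet_iUnion₂ fun a _ => a.lower, hgood,
    ((hQ ⟨a₀, ha₀⟩).mono le_sup_left).trans a₀.agree⟩, fun a ha => ⟨hsub a ha, hQ ⟨a, ha⟩⟩⟩

/-- Transfinite extension along a well-ordered affine cover. -/
theorem exists_extension [WellFoundedLT L] (V : L → X.Opens)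
    (hV : ∀ l, IsAffineOpen (V l)) (hcov : ⨆ l, V l = ⊤)
    (hW : ∀ l, IsCompact ((V l : Set X) ∩ ⋃ m ∈ Set.Iio l, (V m : Set X))) (U : X.Opens)
    (hU : ∀ l, IsCompact ((V l : Set X) ∩ U)) (P₀ : SubMod F) (hP₀ : P₀.GoodOn U) :
    ∃ P : SubMod F, P.Agree P₀ U ∧ P.GoodOn ⊤ := by
  have : Nonempty (Stage V U P₀) :=
    ⟨⟨∅, P₀, isLowerSet_empty, by
      intro x hx
      rcases mem_stageOpen.mp hx with hx | ⟨l, hl, -⟩
      · obtain ⟨A, hA, hxA, hgA⟩ := hP₀ x hx
        exact ⟨A, hA.trans le_sup_left, hxA, hgA⟩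
      · exact hl.elim, fun _ _ => rfl⟩⟩
  obtain ⟨m, hm⟩ := exists_maximal_of_nonempty_chains_bounded (r := Stage.Le (V := V) (U := U)
    (P₀ := P₀)) (fun c hc hne => Stage.exists_ub hc hne) (fun h h' => Stage.le_trans h h')
  by_cases hSu : m.set = Set.univ
  · refine ⟨m.sub, m.agree, fun x _ => ?_⟩
    obtain ⟨l, hl⟩ := Opens.mem_iSup.mp (hcov.ge (Set.mem_univ x) : x ∈ ⨆ l, V l)
    obtain ⟨A, -, hxA, hA⟩ := m.good x (mem_stageOpen.mpr (Or.inr ⟨l, hSu ▸ Set.mem_univ l, hl⟩))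
    exact ⟨A, le_top, hxA, hA⟩
  · obtain ⟨l, hl, hmin⟩ := wellFounded_lt.has_min m.setᶜ (Set.nonempty_compl.mpr hSu)
    have hSl : ∀ k, k ∈ m.set ↔ k < l := fun k =>
      ⟨fun hk => lt_of_not_ge fun h => hl (m.lower h hk), fun hk => not_not.mp fun h => hmin k h hk⟩
    have hc : IsCompact ((V l ⊓ stageOpen V U m.set : X.Opens) : Set X) := by
      have : ((V l ⊓ stageOpen V U m.set : X.Opens) : Set X) =
          ((V l : Set X) ∩ U) ∪ ((V l : Set X) ∩ ⋃ m ∈ Set.Iio l, (V m : Set X)) := by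
        ext x
        simp only [Opens.coe_inf, Set.mem_inter_iff, SetLike.mem_coe, mem_stageOpen, hSl,
          Set.mem_union, Set.mem_iUnion, Set.mem_Iio, exists_prop]
        tauto
      rw [this]
      exact (hU l).union (hW l)
    obtain ⟨Q, hQP, hQ⟩ := exists_step m.sub m.good (hV l) hc
    have hgood : Q.GoodOn (stageOpen V U (Set.Iic l)) := by
      intro x hx
      have hx' : x ∈ stageOpen V U m.set ⊔ V l := by
        rcases mem_stageOpen.mp hx with hx | ⟨k, hk, hxk⟩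
        · exact Or.inl (mem_stageOpen.mpr (Or.inl hx))
        · rcases lt_or_eq_of_le (Set.mem_Iic.mp hk) with h | h
          · exact Or.inl (mem_stageOpen.mpr (Or.inr ⟨k, (hSl k).mpr h, hxk⟩))
          · exact Or.inr (h ▸ hxk)
      obtain ⟨A, hA, hxA, hgA⟩ := hQ x hx'
      refine ⟨A, hA.trans ?_, hxA, hgA⟩
      exact sup_le (stageOpen_mono V U fun k hk => ((hSl k).mp hk).le)
        fun y hy => mem_stageOpen.mpr (Or.inr ⟨l, Set.self_mem_Iic, hy⟩)
    have hle := hm ⟨Set.Iic l, Q, isLowerSet_Iic l, hgood, (hQP.mono le_sup_left).trans m.agree⟩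
      ⟨fun k hk => ((hSl k).mp hk).le, hQP⟩
    exact absurd (hle.1 Set.self_mem_Iic) hl

end Transfinite

end Groth.QCohMod.SubMod
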